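import Mathlib
import Cfsg.Agent.Lib.Schur.CheckParts
import Cfsg.Agent.Lib.Sporadic.MultTwoMcl.Level5

/-!
# Packed values of the edges of table 5
-/

set_option autoImplicit false
set_option maxRecDepth 100000
set_option maxHeartbeats 0
set_option Elab.async false

noncomputable section

namespace CfsgLib.Sporadic.MultTwoMcl

open CfsgLib.Schur.Cert CfsgLib.Sporadic

/-- the packed values -/
def pack5 : Pack := .node (.node (.node (.node (.node (.node (.leaf (0, 0)) (.leaf (2135987035920910082395021706169552114602704522356652769946701325455298787317140281927382899621888, 4))) (.node (.leaf (18446744073709551616, 1)) (.leaf (115792089237316195429848086744074588617105774088848230455541492708303454601216, 3)))) (.node (.node (.leaf (0, 0)) (.leaf (0, 0))) (.leaf ((-115792089237316195423570985008687907853269984665640564039439137263839420088320), 2)))) (.node (.node (.node (.leaf (0, 0)) (.leaf ((-115792089237316195429848086744074588617105774088848230455541492708303454601215), 4))) (.node (.leaf (340282366920938463463374607431768211456, 1)) (.leaf (18446744073709551616, 1)))) (.node (.node (.leaf (1, 1)) (.leaf (2135987035920910082395021706169552114602704522356652769946701325455298787317158728671456609173504, 3))) (.leaf (0, 0))))) (.node (.node (.node (.node (.leaf (0, 0)) (.leaf (0,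 0))) (.node (.leaf ((-115792089237316195417293883273301227089434195242432897623336781819375385575424), 3)) (.leaf (2135987035920910082395021706169552114602704522356652769946701325455298787317158728671456609173504, 3)))) (.node (.node (.leaf (0, 0)) (.leaf (115792089237316195423570985008687907853269984665640564039439137263839420088320, 2))) (.leaf (340282366920938463463374607431768211456, 1)))) (.node (.node (.node (.leaf (0, 0)) (.leaf (2135987035920910082395021706169552114602704522356652769946701325455298787317140281927382899621888, 4))) (.leaf (6277101735386680763835789423207666416120802188537744064511, 3))) (.node (.node (.leaf (115792089237316195417293883273301227089434195242432897623336781819375385575425, 4)) (.leaf (18446744073709551616, 1))) (.leaf (115792089237316195423570985008687907853269984665640564039439137263839420088320, 2)))))) (.node (.node (.node (.node (.node (.leaf (0, 0)) (.leaf ((-115792089237316195429848086744074588617105774088848230455541492708303454601215), 4))) (.node (.leaf (0, 0)) (.leaf (18446744073709551616, 1)))) (.node (.node (.leaf (0, 0)) (.leaf (340282366920938463463374607431768211456, 1))) (.leaf (0, 0)))) (.node (.node (.node (.leaf (0, 0)) (.leaf (18446744073709551616, 1))) (.node (.leaf (12554203470773361527671578846415332832204710888928069025791,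 3)) (.leaf (2135987035920910082510813795406868310026275507365340677799971310120939351356597865935296029261824, 5)))) (.node (.node (.leaf ((-6277101735386680763835789423207666416102355444464034512895), 2)) (.leaf (6277101735386680763835789423207666416102355444464034512896, 1))) (.leaf ((-115792089237316195417293883273301227089093912875511959159873407211943617363969), 5))))) (.node (.node (.node (.node (.leaf (0, 0)) (.leaf (340282366920938463463374607431768211456, 1))) (.node (.leaf (0, 0)) (.leaf (115792089237316195436125188479461269380941563512055896871643848152767489114111, 5)))) (.node (.node (.leaf (340282366920938463463374607431768211456, 1)) (.leaf (18446744073709551616, 1))) (.leaf ((-231584178474632390834587766546602454178868390484865795246673563638750771150849), 7)))) (.node (.node (.node (.leaf (18446744073709551616, 1)) (.leaf ((-115792089237316195417293883273301227089434195242432897623336781819375385575424), 3))) (.leaf (0, 0))) (.node (.node (.leaf (6277101735386680763835789423207666416102355444464034512896, 1)) (.leaf (2135987035920910082279229616932235919179133537347964862093431340789658223277701144663543479533568, 4))) (.leaf (18446744073709551616, 1))))))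

theorem pack_ok5 : packOK level5.table pack5 = true := by decide +kernel

end CfsgLib.Sporadic.MultTwoMcl
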