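import Mathlib
import Cfsg.Agent.Lib.Sporadic.MultTwoMcl.Pack0
import Cfsg.Agent.Lib.Sporadic.MultTwoMcl.Pack1
import Cfsg.Agent.Lib.Sporadic.MultTwoMcl.Pack2
import Cfsg.Agent.Lib.Sporadic.MultTwoMcl.Pack3
import Cfsg.Agent.Lib.Sporadic.MultTwoMcl.Pack4
import Cfsg.Agent.Lib.Sporadic.MultTwoMcl.Pack5
import Cfsg.Agent.Lib.Sporadic.MultTwoMcl.Data
import Cfsg.Agent.Lib.Schur.CheckParts

/-!
# Deductions of table 0
-/

set_option autoImplicit false
set_option maxRecDepth 100000
set_option maxHeartbeats 0
set_option Elab.async false

noncomputable section

namespace CfsgLib.Sporadic.MultTwoMcl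

open CfsgLib.Schur.Cert CfsgLib.Sporadic

theorem ded0_12 : allFrom (dedAt level0 pack0 [level1, level2, level3, level4, level5] [pack1, pack2, pack3, pack4, pack5]) 12 13 = true := by decide +kernel

theorem ded0_13 : allFrom (dedAt level0 pack0 [level1, level2, level3, level4, level5] [pack1, pack2, pack3, pack4, pack5]) 13 14 = true := by decide +kernel

theorem ded0_14 : allFrom (dedAt level0 pack0 [level1, level2, level3, level4, level5] [pack1, pack2, pack3, pack4, pack5]) 14 15 = true := by decide +kernel

theorem ded0_15 : allFrom (dedAt level0 pack0 [level1, level2, level3, level4, level5] [pack1, pack2, pack3, pack4, pack5]) 15 16 = true := by decide +kernel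

theorem ded0_16 : allFrom (dedAt level0 pack0 [level1, level2, level3, level4, level5] [pack1, pack2, pack3, pack4, pack5]) 16 17 = true := by decide +kernel

theorem ded0_17 : allFrom (dedAt level0 pack0 [level1, level2, level3, level4, level5] [pack1, pack2, pack3, pack4, pack5]) 17 18 = true := by decide +kernel

theorem ded0_18 : allFrom (dedAt level0 pack0 [level1, level2, level3, level4, level5] [pack1, pack2, pack3, pack4, pack5]) 18 19 = true := by decide +kernel

theorem ded0_19 : allFrom (dedAt level0 pack0 [level1, level2, level3, level4, level5] [pack1, pack2, pack3, pack4, pack5]) 19 20 = true := by decide +kernel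

theorem ded0_20 : allFrom (dedAt level0 pack0 [level1, level2, level3, level4, level5] [pack1, pack2, pack3, pack4, pack5]) 20 21 = true := by decide +kernel

theorem ded0_21 : allFrom (dedAt level0 pack0 [level1, level2, level3, level4, level5] [pack1, pack2, pack3, pack4, pack5]) 21 22 = true := by decide +kernel

theorem ded0_22 : allFrom (dedAt level0 pack0 [level1, level2, level3, level4, level5] [pack1, pack2, pack3, pack4, pack5]) 22 23 = true := by decide +kernel

theorem ded0_23 : allFrom (dedAt level0 pack0 [level1, level2, level3, level4, level5] [pack1, pack2, pack3, pack4, pack5]) 23 24 = true := by decide +kernel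

end CfsgLib.Sporadic.MultTwoMcl
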