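import Mathlib
import Cfsg.Agent.Lib.Sporadic.MultTwoMcl.Pack0
import Cfsg.Agent.Lib.Sporadic.MultTwoMcl.Pack1
import Cfsg.Agent.Lib.Sporadic.MultTwoMcl.Pack2
import Cfsg.Agent.Lib.Sporadic.MultTwoMcl.Pack3
import Cfsg.Agent.Lib.Sporadic.MultTwoMcl.Pack4
import Cfsg.Agent.Lib.Sporadic.MultTwoMcl.Pack5
import Cfsg.Agent.Lib.Sporadic.MultTwoMcl.Data
import Cfsg.Agent.Lib.Schur.CheckParts

/-!
# Deductions of table 0
-/

set_option autoImplicit false
set_option maxRecDepth 100000
set_option maxHeartbeats 0
set_option Elab.async false

noncomputable section

namespace CfsgLib.Sporadic.MultTwoMcl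

open CfsgLib.Schur.Cert CfsgLib.Sporadic

theorem ded0_132 : allFrom (dedAt level0 pack0 [level1, level2, level3, level4, level5] [pack1, pack2, pack3, pack4, pack5]) 132 133 = true := by decide +kernel

theorem ded0_133 : allFrom (dedAt level0 pack0 [level1, level2, level3, level4, level5] [pack1, pack2, pack3, pack4, pack5]) 133 134 = true := by decide +kernel

theorem ded0_134 : allFrom (dedAt level0 pack0 [level1, level2, level3, level4, level5] [pack1, pack2, pack3, pack4, pack5]) 134 135 = true := by decide +kernel

theorem ded0_135 : allFrom (dedAt level0 pack0 [level1, level2, level3, level4, level5] [pack1, pack2, pack3, pack4, pack5]) 135 136 = true := by decide +kernel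

theorem ded0_136 : allFrom (dedAt level0 pack0 [level1, level2, level3, level4, level5] [pack1, pack2, pack3, pack4, pack5]) 136 137 = true := by decide +kernel

theorem ded0_137 : allFrom (dedAt level0 pack0 [level1, level2, level3, level4, level5] [pack1, pack2, pack3, pack4, pack5]) 137 138 = true := by decide +kernel

theorem ded0_138 : allFrom (dedAt level0 pack0 [level1, level2, level3, level4, level5] [pack1, pack2, pack3, pack4, pack5]) 138 139 = true := by decide +kernel

theorem ded0_139 : allFrom (dedAt level0 pack0 [level1, level2, level3, level4, level5] [pack1, pack2, pack3, pack4, pack5]) 139 140 = true := by decide +kernel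

theorem ded0_140 : allFrom (dedAt level0 pack0 [level1, level2, level3, level4, level5] [pack1, pack2, pack3, pack4, pack5]) 140 141 = true := by decide +kernel

theorem ded0_141 : allFrom (dedAt level0 pack0 [level1, level2, level3, level4, level5] [pack1, pack2, pack3, pack4, pack5]) 141 142 = true := by decide +kernel

theorem ded0_142 : allFrom (dedAt level0 pack0 [level1, level2, level3, level4, level5] [pack1, pack2, pack3, pack4, pack5]) 142 143 = true := by decide +kernel

theorem ded0_143 : allFrom (dedAt level0 pack0 [level1, level2, level3, level4, level5] [pack1, pack2, pack3, pack4, pack5]) 143 144 = true := by decide +kernel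

end CfsgLib.Sporadic.MultTwoMcl
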