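import Mathlib
import Cfsg.Agent.Lib.Sporadic.MultTwoMcl.Pack0
import Cfsg.Agent.Lib.Sporadic.MultTwoMcl.Pack1
import Cfsg.Agent.Lib.Sporadic.MultTwoMcl.Pack2
import Cfsg.Agent.Lib.Sporadic.MultTwoMcl.Pack3
import Cfsg.Agent.Lib.Sporadic.MultTwoMcl.Pack4
import Cfsg.Agent.Lib.Sporadic.MultTwoMcl.Pack5
import Cfsg.Agent.Lib.Sporadic.MultTwoMcl.Data
import Cfsg.Agent.Lib.Schur.CheckParts

/-!
# Deductions of table 0
-/

set_option autoImplicit false
set_option maxRecDepth 100000
set_option maxHeartbeats 0
set_option Elab.async false

noncomputable section

namespace CfsgLib.Sporadic.MultTwoMcl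

open CfsgLib.Schur.Cert CfsgLib.Sporadic

theorem ded0_144 : allFrom (dedAt level0 pack0 [level1, level2, level3, level4, level5] [pack1, pack2, pack3, pack4, pack5]) 144 145 = true := by decide +kernel

theorem ded0_145 : allFrom (dedAt level0 pack0 [level1, level2, level3, level4, level5] [pack1, pack2, pack3, pack4, pack5]) 145 146 = true := by decide +kernel

theorem ded0_146 : allFrom (dedAt level0 pack0 [level1, level2, level3, level4, level5] [pack1, pack2, pack3, pack4, pack5]) 146 147 = true := by decide +kernel

theorem ded0_147 : allFrom (dedAt level0 pack0 [level1, level2, level3, level4, level5] [pack1, pack2, pack3, pack4, pack5]) 147 148 = true := by decide +kernel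

theorem ded0_148 : allFrom (dedAt level0 pack0 [level1, level2, level3, level4, level5] [pack1, pack2, pack3, pack4, pack5]) 148 149 = true := by decide +kernel

theorem ded0_149 : allFrom (dedAt level0 pack0 [level1, level2, level3, level4, level5] [pack1, pack2, pack3, pack4, pack5]) 149 150 = true := by decide +kernel

theorem ded0_150 : allFrom (dedAt level0 pack0 [level1, level2, level3, level4, level5] [pack1, pack2, pack3, pack4, pack5]) 150 151 = true := by decide +kernel

theorem ded0_151 : allFrom (dedAt level0 pack0 [level1, level2, level3, level4, level5] [pack1, pack2, pack3, pack4, pack5]) 151 152 = true := by decide +kernel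

theorem ded0_152 : allFrom (dedAt level0 pack0 [level1, level2, level3, level4, level5] [pack1, pack2, pack3, pack4, pack5]) 152 153 = true := by decide +kernel

theorem ded0_153 : allFrom (dedAt level0 pack0 [level1, level2, level3, level4, level5] [pack1, pack2, pack3, pack4, pack5]) 153 154 = true := by decide +kernel

theorem ded0_154 : allFrom (dedAt level0 pack0 [level1, level2, level3, level4, level5] [pack1, pack2, pack3, pack4, pack5]) 154 155 = true := by decide +kernel

theorem ded0_155 : allFrom (dedAt level0 pack0 [level1, level2, level3, level4, level5] [pack1, pack2, pack3, pack4, pack5]) 155 156 = true := by decide +kernel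

end CfsgLib.Sporadic.MultTwoMcl
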