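import Mathlib
import Cfsg.Agent.Lib.Sporadic.MultTwoMcl.Pack0
import Cfsg.Agent.Lib.Sporadic.MultTwoMcl.Pack1
import Cfsg.Agent.Lib.Sporadic.MultTwoMcl.Pack2
import Cfsg.Agent.Lib.Sporadic.MultTwoMcl.Pack3
import Cfsg.Agent.Lib.Sporadic.MultTwoMcl.Pack4
import Cfsg.Agent.Lib.Sporadic.MultTwoMcl.Pack5
import Cfsg.Agent.Lib.Sporadic.MultTwoMcl.Data
import Cfsg.Agent.Lib.Schur.CheckParts

/-!
# Relations of table 0 for the permutations
-/

set_option autoImplicit false
set_option maxRecDepth 100000
set_option maxHeartbeats 0
set_option Elab.async false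

noncomputable section

namespace CfsgLib.Sporadic.MultTwoMcl

open CfsgLib.Schur.Cert CfsgLib.Sporadic

theorem rel0_16 : allFrom (permsRel 550 level0) 16 17 = true := by decide +kernel

theorem rel0_17 : allFrom (permsRel 550 level0) 17 18 = true := by decide +kernel

theorem rel0_18 : allFrom (permsRel 550 level0) 18 19 = true := by decide +kernel

theorem rel0_19 : allFrom (permsRel 550 level0) 19 20 = true := by decide +kernel

theorem rel0_20 : allFrom (permsRel 550 level0) 20 21 = true := by decide +kernel

theorem rel0_21 : allFrom (permsRel 550 level0) 21 22 = true := by decide +kernel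

theorem rel0_22 : allFrom (permsRel 550 level0) 22 23 = true := by decide +kernel

theorem rel0_23 : allFrom (permsRel 550 level0) 23 24 = true := by decide +kernel

end CfsgLib.Sporadic.MultTwoMcl
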