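import Mathlib
import Cfsg.Agent.Lib.Sporadic.MultTwoMcl.Pack0
import Cfsg.Agent.Lib.Sporadic.MultTwoMcl.Pack1
import Cfsg.Agent.Lib.Sporadic.MultTwoMcl.Pack2
import Cfsg.Agent.Lib.Sporadic.MultTwoMcl.Pack3
import Cfsg.Agent.Lib.Sporadic.MultTwoMcl.Pack4
import Cfsg.Agent.Lib.Sporadic.MultTwoMcl.Pack5
import Cfsg.Agent.Lib.Sporadic.MultTwoMcl.Data
import Cfsg.Agent.Lib.Schur.CheckParts

/-!
# Deductions of table 1
-/

set_option autoImplicit false
set_option maxRecDepth 100000
set_option maxHeartbeats 0
set_option Elab.async false

noncomputable section

namespace CfsgLib.Sporadic.MultTwoMcl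

open CfsgLib.Schur.Cert CfsgLib.Sporadic

theorem ded1_0 : allFrom (dedAt level1 pack1 [level2, level3, level4, level5] [pack2, pack3, pack4, pack5]) 0 3 = true := by decide +kernel

theorem ded1_3 : allFrom (dedAt level1 pack1 [level2, level3, level4, level5] [pack2, pack3, pack4, pack5]) 3 6 = true := by decide +kernel

theorem ded1_6 : allFrom (dedAt level1 pack1 [level2, level3, level4, level5] [pack2, pack3, pack4, pack5]) 6 9 = true := by decide +kernel

theorem ded1_9 : allFrom (dedAt level1 pack1 [level2, level3, level4, level5] [pack2, pack3, pack4, pack5]) 9 12 = true := by decide +kernel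

theorem ded1_12 : allFrom (dedAt level1 pack1 [level2, level3, level4, level5] [pack2, pack3, pack4, pack5]) 12 15 = true := by decide +kernel

theorem ded1_15 : allFrom (dedAt level1 pack1 [level2, level3, level4, level5] [pack2, pack3, pack4, pack5]) 15 18 = true := by decide +kernel

theorem ded1_18 : allFrom (dedAt level1 pack1 [level2, level3, level4, level5] [pack2, pack3, pack4, pack5]) 18 21 = true := by decide +kernel

theorem ded1_21 : allFrom (dedAt level1 pack1 [level2, level3, level4, level5] [pack2, pack3, pack4, pack5]) 21 24 = true := by decide +kernel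

theorem ded1_24 : allFrom (dedAt level1 pack1 [level2, level3, level4, level5] [pack2, pack3, pack4, pack5]) 24 27 = true := by decide +kernel

theorem ded1_27 : allFrom (dedAt level1 pack1 [level2, level3, level4, level5] [pack2, pack3, pack4, pack5]) 27 30 = true := by decide +kernel

theorem ded1_30 : allFrom (dedAt level1 pack1 [level2, level3, level4, level5] [pack2, pack3, pack4, pack5]) 30 33 = true := by decide +kernel

theorem ded1_33 : allFrom (dedAt level1 pack1 [level2, level3, level4, level5] [pack2, pack3, pack4, pack5]) 33 36 = true := by decide +kernel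

theorem ded1_36 : allFrom (dedAt level1 pack1 [level2, level3, level4, level5] [pack2, pack3, pack4, pack5]) 36 39 = true := by decide +kernel

theorem ded1_39 : allFrom (dedAt level1 pack1 [level2, level3, level4, level5] [pack2, pack3, pack4, pack5]) 39 42 = true := by decide +kernel

theorem ded1_42 : allFrom (dedAt level1 pack1 [level2, level3, level4, level5] [pack2, pack3, pack4, pack5]) 42 45 = true := by decide +kernel

theorem ded1_45 : allFrom (dedAt level1 pack1 [level2, level3, level4, level5] [pack2, pack3, pack4, pack5]) 45 48 = true := by decide +kernel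

theorem ded1_48 : allFrom (dedAt level1 pack1 [level2, level3, level4, level5] [pack2, pack3, pack4, pack5]) 48 51 = true := by decide +kernel

theorem ded1_51 : allFrom (dedAt level1 pack1 [level2, level3, level4, level5] [pack2, pack3, pack4, pack5]) 51 54 = true := by decide +kernel

theorem ded1_54 : allFrom (dedAt level1 pack1 [level2, level3, level4, level5] [pack2, pack3, pack4, pack5]) 54 57 = true := by decide +kernel

theorem ded1_57 : allFrom (dedAt level1 pack1 [level2, level3, level4, level5] [pack2, pack3, pack4, pack5]) 57 60 = true := by decide +kernel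

theorem ded1_60 : allFrom (dedAt level1 pack1 [level2, level3, level4, level5] [pack2, pack3, pack4, pack5]) 60 63 = true := by decide +kernel

theorem ded1_63 : allFrom (dedAt level1 pack1 [level2, level3, level4, level5] [pack2, pack3, pack4, pack5]) 63 66 = true := by decide +kernel

theorem ded1_66 : allFrom (dedAt level1 pack1 [level2, level3, level4, level5] [pack2, pack3, pack4, pack5]) 66 69 = true := by decide +kernel

theorem ded1_69 : allFrom (dedAt level1 pack1 [level2, level3, level4, level5] [pack2, pack3, pack4, pack5]) 69 72 = true := by decide +kernel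

theorem ded1_72 : allFrom (dedAt level1 pack1 [level2, level3, level4, level5] [pack2, pack3, pack4, pack5]) 72 75 = true := by decide +kernel

theorem ded1_75 : allFrom (dedAt level1 pack1 [level2, level3, level4, level5] [pack2, pack3, pack4, pack5]) 75 78 = true := by decide +kernel

theorem ded1_78 : allFrom (dedAt level1 pack1 [level2, level3, level4, level5] [pack2, pack3, pack4, pack5]) 78 81 = true := by decide +kernel

theorem ded1_81 : allFrom (dedAt level1 pack1 [level2, level3, level4, level5] [pack2, pack3, pack4, pack5]) 81 84 = true := by decide +kernel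

theorem ded1_84 : allFrom (dedAt level1 pack1 [level2, level3, level4, level5] [pack2, pack3, pack4, pack5]) 84 87 = true := by decide +kernel

theorem ded1_87 : allFrom (dedAt level1 pack1 [level2, level3, level4, level5] [pack2, pack3, pack4, pack5]) 87 90 = true := by decide +kernel

end CfsgLib.Sporadic.MultTwoMcl
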