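import Mathlib
import Cfsg.Agent.Lib.Sporadic.MultTwoMcl.Pack0
import Cfsg.Agent.Lib.Sporadic.MultTwoMcl.Pack1
import Cfsg.Agent.Lib.Sporadic.MultTwoMcl.Pack2
import Cfsg.Agent.Lib.Sporadic.MultTwoMcl.Pack3
import Cfsg.Agent.Lib.Sporadic.MultTwoMcl.Pack4
import Cfsg.Agent.Lib.Sporadic.MultTwoMcl.Pack5
import Cfsg.Agent.Lib.Sporadic.MultTwoMcl.Data
import Cfsg.Agent.Lib.Schur.CheckParts

/-!
# Deductions of table 1
-/

set_option autoImplicit false
set_option maxRecDepth 100000
set_option maxHeartbeats 0
set_option Elab.async false

noncomputable section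

namespace CfsgLib.Sporadic.MultTwoMcl

open CfsgLib.Schur.Cert CfsgLib.Sporadic

theorem ded1_90 : allFrom (dedAt level1 pack1 [level2, level3, level4, level5] [pack2, pack3, pack4, pack5]) 90 93 = true := by decide +kernel

theorem ded1_93 : allFrom (dedAt level1 pack1 [level2, level3, level4, level5] [pack2, pack3, pack4, pack5]) 93 96 = true := by decide +kernel

theorem ded1_96 : allFrom (dedAt level1 pack1 [level2, level3, level4, level5] [pack2, pack3, pack4, pack5]) 96 99 = true := by decide +kernel

theorem ded1_99 : allFrom (dedAt level1 pack1 [level2, level3, level4, level5] [pack2, pack3, pack4, pack5]) 99 102 = true := by decide +kernel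

theorem ded1_102 : allFrom (dedAt level1 pack1 [level2, level3, level4, level5] [pack2, pack3, pack4, pack5]) 102 105 = true := by decide +kernel

theorem ded1_105 : allFrom (dedAt level1 pack1 [level2, level3, level4, level5] [pack2, pack3, pack4, pack5]) 105 108 = true := by decide +kernel

theorem ded1_108 : allFrom (dedAt level1 pack1 [level2, level3, level4, level5] [pack2, pack3, pack4, pack5]) 108 111 = true := by decide +kernel

theorem ded1_111 : allFrom (dedAt level1 pack1 [level2, level3, level4, level5] [pack2, pack3, pack4, pack5]) 111 113 = true := by decide +kernel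

end CfsgLib.Sporadic.MultTwoMcl
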