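import Mathlib
import Cfsg.Agent.Lib.Sporadic.MultTwoMcl.Pack0
import Cfsg.Agent.Lib.Sporadic.MultTwoMcl.Pack1
import Cfsg.Agent.Lib.Sporadic.MultTwoMcl.Pack2
import Cfsg.Agent.Lib.Sporadic.MultTwoMcl.Pack3
import Cfsg.Agent.Lib.Sporadic.MultTwoMcl.Pack4
import Cfsg.Agent.Lib.Sporadic.MultTwoMcl.Pack5
import Cfsg.Agent.Lib.Sporadic.MultTwoMcl.Data
import Cfsg.Agent.Lib.Schur.CheckParts

/-!
# Edges of table 1
-/

set_option autoImplicit false
set_option maxRecDepth 100000
set_option maxHeartbeats 0
set_option Elab.async false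

noncomputable section

namespace CfsgLib.Sporadic.MultTwoMcl

open CfsgLib.Schur.Cert CfsgLib.Sporadic

theorem row1_90 : allFrom (shapeRow rows level1 [level2, level3, level4, level5]) 90 100 = true := by decide +kernel

theorem row1_100 : allFrom (shapeRow rows level1 [level2, level3, level4, level5]) 100 110 = true := by decide +kernel

theorem row1_110 : allFrom (shapeRow rows level1 [level2, level3, level4, level5]) 110 112 = true := by decide +kernel

end CfsgLib.Sporadic.MultTwoMcl
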