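import Mathlib
import Cfsg.Agent.Lib.Sporadic.MultTwoMcl.Pack0
import Cfsg.Agent.Lib.Sporadic.MultTwoMcl.Pack1
import Cfsg.Agent.Lib.Sporadic.MultTwoMcl.Pack2
import Cfsg.Agent.Lib.Sporadic.MultTwoMcl.Pack3
import Cfsg.Agent.Lib.Sporadic.MultTwoMcl.Pack4
import Cfsg.Agent.Lib.Sporadic.MultTwoMcl.Pack5
import Cfsg.Agent.Lib.Sporadic.MultTwoMcl.Data
import Cfsg.Agent.Lib.Schur.CheckParts

/-!
# Shape and permutations of table 5
-/

set_option autoImplicit false
set_option maxRecDepth 100000
set_option maxHeartbeats 0
set_option Elab.async false

noncomputable section

namespace CfsgLib.Sporadic.MultTwoMcl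

open CfsgLib.Schur.Cert CfsgLib.Sporadic

theorem head5 : shapeHead level5 [] (nextWords (nextWords (nextWords (nextWords (nextWords (top) level0) level1) level2) level3) level4) = true := by decide +kernel

theorem srel5_0 : allFrom (shapeRel (chainRels chain top) level5 (nextWords (nextWords (nextWords (nextWords (nextWords (top) level0) level1) level2) level3) level4)) 0 2 = true := by decide +kernel

theorem srel5_2 : allFrom (shapeRel (chainRels chain top) level5 (nextWords (nextWords (nextWords (nextWords (nextWords (top) level0) level1) level2) level3) level4)) 2 4 = true := by decide +kernel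

theorem srel5_4 : allFrom (shapeRel (chainRels chain top) level5 (nextWords (nextWords (nextWords (nextWords (nextWords (top) level0) level1) level2) level3) level4)) 4 6 = true := by decide +kernel

theorem row5_0 : allFrom (shapeRow rows level5 []) 0 18 = true := by decide +kernel

theorem permsGen5 : permsGen 550 level5 [] = true := by decide +kernel

theorem path5_0 : allFrom (permsPath level5) 0 18 = true := by decide +kernel

theorem permsKey5 : permsKey level5 [] = true := by decide +kernel

end CfsgLib.Sporadic.MultTwoMcl
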