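import Mathlib
import Cfsg.Agent.Lib.Sporadic.MultTwoMcl.Pack0
import Cfsg.Agent.Lib.Sporadic.MultTwoMcl.Pack1
import Cfsg.Agent.Lib.Sporadic.MultTwoMcl.Pack2
import Cfsg.Agent.Lib.Sporadic.MultTwoMcl.Pack3
import Cfsg.Agent.Lib.Sporadic.MultTwoMcl.Pack4
import Cfsg.Agent.Lib.Sporadic.MultTwoMcl.Pack5
import Cfsg.Agent.Lib.Sporadic.MultTwoMcl.Data
import Cfsg.Agent.Lib.Schur.CheckParts

/-!
# Linear algebra
-/

set_option autoImplicit false
set_option maxRecDepth 100000
set_option maxHeartbeats 0
set_option Elab.async false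

noncomputable section

namespace CfsgLib.Sporadic.MultTwoMcl

open CfsgLib.Schur.Cert CfsgLib.Sporadic

theorem linKind_68 : allFrom (linKind lin rows 2 (chainEqns chain ++ extra.map fun e => e.2.2)) 68 70 = true := by decide +kernel

theorem linKind_70 : allFrom (linKind lin rows 2 (chainEqns chain ++ extra.map fun e => e.2.2)) 70 72 = true := by decide +kernel

theorem linKind_72 : allFrom (linKind lin rows 2 (chainEqns chain ++ extra.map fun e => e.2.2)) 72 74 = true := by decide +kernel

theorem linKind_74 : allFrom (linKind lin rows 2 (chainEqns chain ++ extra.map fun e => e.2.2)) 74 75 = true := by decide +kernel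

end CfsgLib.Sporadic.MultTwoMcl
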