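import Mathlib
import Cfsg.Agent.Lib.Sporadic.ChainCertificate
import Cfsg.Agent.Lib.Schur.TrieFast

/-!
# Coset table 0 of a chain
-/

set_option autoImplicit false
set_option maxRecDepth 100000
set_option maxHeartbeats 0
set_option Elab.async false

noncomputable section

namespace CfsgLib.Sporadic.MultTwoMcl

open CfsgLib.Schur.Cert

/-- data -/
def next0_00 : Trie (ℕ) := .node (.node (.node (.node (.node (.node (.node (.node (.leaf 1) (.leaf 239)) (.leaf 169)) (.node (.leaf 43) (.leaf 192))) (.node (.node (.leaf 22) (.leaf 204)) (.node (.leaf 129) (.leaf 245)))) (.node (.node (.node (.node (.leaf 10) (.leaf 272)) (.leaf 144)) (.node (.leaf 109) (.leaf 167))) (.node (.node (.leaf 69) (.leaf 176)) (.node (.leaf 83) (.leaf 258))))) (.node (.node (.node (.node (.node (.leaf 14) (.leaf 264)) (.leaf 179)) (.node (.leaf 99) (.leaf 201))) (.node (.node (.leaf 27) (.leaf 168)) (.node (.leaf 141) (.leaf 199)))) (.node (.node (.node (.leaf 35) (.leaf 114)) (.node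 (.leaf 63) (.leaf 177))) (.node (.node (.leaf 38) (.leaf 183)) (.node (.leaf 90) (.leaf 226)))))) (.node (.node (.node (.node (.node (.node (.leaf 2) (.leaf 241)) (.leaf 174)) (.node (.leaf 93) (.leaf 153))) (.node (.node (.leaf 53) (.leaf 207)) (.node (.leaf 134) (.leaf 195)))) (.node (.node (.node (.leaf 29) (.leaf 108)) (.node (.leaf 60) (.leaf 237))) (.node (.node (.leaf 74) (.leaf 219)) (.node (.leaf 140) (.leaf 222))))) (.node (.node (.node (.node (.node (.leaf 7) (.leaf 253)) (.leaf 116)) (.node (.leaf 76) (.leaf 160))) (.node (.node (.leaf 44) (.leaf 172)) (.node (.leaf 148) (.leaf 210)))) (.node (.node (.node (.leaf 42) (.leaf 117)) (.node (.leaf 67) (.leaf 221))) (.node (.node (.leaf 84) (.leaf 223)) (.node (.leaf 163) (.leaf 231))))))) (.node (.node (.node (.node (.node (.node (.node (.leaf 4) (.leaf 240)) (.leaf 171)) (.node (.leaf 46) (.leaf 194))) (.node (.node (.leaf 51) (.leaf 206)) (.node (.leaf 131) (.leaf 248)))) (.node (.node (.node (.node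 (.leaf 11) (.leaf 274)) (.leaf 190)) (.node (.leaf 59) (.leaf 236))) (.node (.node (.leaf 50) (.leaf 135)) (.node (.leaf 152) (.leaf 257))))) (.node (.node (.node (.node (.node (.leaf 16) (.leaf 266)) (.leaf 165)) (.node (.leaf 52) (.leaf 202))) (.node (.node (.leaf 28) (.leaf 211)) (.node (.leaf 145) (.leaf 234)))) (.node (.node (.node (.leaf 17) (.leaf 198)) (.node (.leaf 120) (.leaf 191))) (.node (.node (.leaf 39) (.leaf 186)) (.node (.leaf 91) (.leaf 227)))))) (.node (.node (.node (.node (.node (.node (.leaf 3) (.leaf 243)) (.leaf 100)) (.node (.leaf 75) (.leaf 154))) (.node (.node (.leaf 56) (.leaf 126)) (.node (.leaf 137) (.leaf 197)))) (.node (.node (.node (.leaf 32) (.leaf 182)) (.node (.leaf 115) (.leaf 173))) (.node (.node (.leaf 77) (.leaf 150)) (.node (.leaf 89) (.leaf 259))))) (.node (.node (.node (.node (.node (.leaf 8) (.leaf 267)) (.leaf 185)) (.node (.leaf 55) (.leaf 162))) (.node (.node (.leaf 66) (.leaf 132)) (.node (.leaf 81) (.leaf 213))))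 (.node (.node (.node (.leaf 45) (.leaf 119)) (.node (.leaf 125) (.leaf 244))) (.node (.node (.leaf 62) (.leaf 146)) (.node (.leaf 166) (.leaf 254)))))))

/-- data -/
def next0_01 : Trie (ℕ) := .node (.node (.node (.node (.node (.node (.node (.node (.leaf 0) (.leaf 242)) (.leaf 96)) (.node (.leaf 65) (.leaf 215))) (.node (.node (.leaf 23) (.leaf 147)) (.node (.leaf 71) (.leaf 247)))) (.node (.node (.node (.node (.leaf 26) (.leaf 269)) (.leaf 106)) (.node (.leaf 110) (.leaf 235))) (.node (.node (.leaf 49) (.leaf 216)) (.node (.leaf 151) (.leaf 260))))) (.node (.node (.node (.node (.node (.leaf 5) (.leaf 249)) (.leaf 102)) (.node (.leaf 101) (.leaf 200))) (.node (.node (.leaf 61) (.leaf 128)) (.node (.leaf 143) (.leaf 251)))) (.node (.node (.node (.leaf 37) (.leaf 196)) (.node (.leaf 118) (.leaf 205))) (.node (.node (.leaf 57) (.leaf 142)) (.node (.leaf 121) (.leaf 265)))))) (.node (.node (.node (.node (.node (.node (.leaf 9) (.leaf 261)) (.leaf 175)) (.node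 (.leaf 48) (.leaf 230))) (.node (.node (.leaf 25) (.leaf 138)) (.node (.leaf 73) (.leaf 229)))) (.node (.node (.node (.leaf 13) (.leaf 155)) (.node (.leaf 85) (.leaf 238))) (.node (.node (.leaf 36) (.leaf 181)) (.node (.leaf 156) (.leaf 224))))) (.node (.node (.node (.node (.node (.leaf 21) (.leaf 273)) (.leaf 104)) (.node (.leaf 54) (.leaf 217))) (.node (.node (.leaf 30) (.leaf 214)) (.node (.leaf 80) (.leaf 212)))) (.node (.node (.node (.leaf 20) (.leaf 157)) (.node (.leaf 68) (.leaf 220))) (.node (.node (.leaf 41) (.leaf 187)) (.node (.leaf 94) (.leaf 268))))))) (.node (.node (.node (.node (.node (.node (.node (.leaf 6) (.leaf 246)) (.leaf 98)) (.node (.leaf 92) (.leaf 228))) (.node (.node (.leaf 24) (.leaf 124)) (.node (.leaf 72) (.leaf 250)))) (.node (.node (.node (.leaf 19) (.leaf 161)) (.node (.leaf 112) (.leaf 170))) (.node (.node (.leaf 34) (.leaf 136)) (.node (.leaf 86) (.leaf 262))))) (.node (.node (.node (.node (.node (.leaf 18) (.leaf 270))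 (.leaf 103)) (.node (.leaf 70) (.leaf 159))) (.node (.node (.leaf 64) (.leaf 130)) (.node (.leaf 79) (.leaf 209)))) (.node (.node (.node (.leaf 40) (.leaf 149)) (.node (.leaf 122) (.leaf 180))) (.node (.node (.leaf 82) (.leaf 189)) (.node (.leaf 123) (.leaf 233)))))) (.node (.node (.node (.node (.node (.node (.leaf 12) (.leaf 263)) (.leaf 178)) (.node (.leaf 97) (.leaf 232))) (.node (.node (.leaf 58) (.leaf 208)) (.node (.leaf 139) (.leaf 252)))) (.node (.node (.node (.leaf 33) (.leaf 113)) (.node (.leaf 87) (.leaf 193))) (.node (.node (.leaf 78) (.leaf 184)) (.node (.leaf 158) (.leaf 225))))) (.node (.node (.node (.node (.node (.leaf 15) (.leaf 271)) (.leaf 105)) (.node (.leaf 107) (.leaf 164))) (.node (.node (.leaf 31) (.leaf 133)) (.node (.leaf 111) (.leaf 256)))) (.node (.node (.node (.leaf 47) (.leaf 203)) (.node (.leaf 127) (.leaf 188))) (.node (.node (.leaf 88) (.leaf 218)) (.node (.leaf 95) (.leaf 255)))))))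

/-- data -/
def next0_10 : Trie (ℕ) := .node (.node (.node (.node (.node (.node (.node (.node (.leaf 2) (.leaf 268)) (.leaf 170)) (.node (.leaf 90) (.leaf 226))) (.node (.node (.leaf 49) (.leaf 205)) (.node (.leaf 21) (.leaf 246)))) (.node (.node (.node (.node (.leaf 25) (.leaf 260)) (.leaf 188)) (.node (.leaf 16) (.leaf 208))) (.node (.node (.leaf 70) (.leaf 145)) (.node (.leaf 97) (.leaf 259))))) (.node (.node (.node (.node (.node (.leaf 14) (.leaf 270)) (.leaf 180)) (.node (.leaf 100) (.leaf 61))) (.node (.node (.leaf 60) (.leaf 209)) (.node (.leaf 142) (.leaf 230)))) (.node (.node (.node (.leaf 36) (.leaf 195)) (.node (.leaf 117) (.leaf 185))) (.node (.node (.leaf 79) (.leaf 221)) (.node (.leaf 160) (.leaf 248)))))) (.node (.node (.node (.node (.node (.node (.leaf 8) (.leaf 265)) (.leaf 32)) (.node (.leaf 94) (.leaf 125))) (.node (.node (.leaf 54) (.leaf 88)) (.node (.leaf 135) (.leaf 151)))) (.node (.node (.node (.leaf 30) (.leaf 192)) (.node (.leaf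 114) (.leaf 69))) (.node (.node (.leaf 75) (.leaf 220)) (.node (.leaf 155) (.leaf 263))))) (.node (.node (.node (.node (.node (.leaf 20) (.leaf 273)) (.leaf 35)) (.node (.leaf 104) (.leaf 198))) (.node (.node (.leaf 65) (.leaf 213)) (.node (.leaf 149) (.leaf 206)))) (.node (.node (.node (.leaf 43) (.leaf 201)) (.node (.leaf 123) (.leaf 243))) (.node (.node (.leaf 85) (.leaf 203)) (.node (.leaf 164) (.leaf 267))))))) (.node (.node (.node (.node (.node (.node (.node (.leaf 5) (.leaf 258)) (.leaf 172)) (.node (.leaf 91) (.leaf 227))) (.node (.node (.leaf 4) (.leaf 156)) (.node (.leaf 132) (.leaf 249)))) (.node (.node (.node (.node (.leaf 27) (.leaf 237)) (.leaf 51)) (.node (.leaf 111) (.leaf 204))) (.node (.node (.leaf 72) (.leaf 218)) (.node (.leaf 153) (.leaf 250))))) (.node (.node (.node (.node (.node (.leaf 17) (.leaf 271)) (.leaf 182)) (.node (.leaf 102) (.leaf 66))) (.node (.node (.leaf 63) (.leaf 212)) (.node (.leaf 146) (.leaf 254)))) (.node (.node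 (.node (.leaf 39) (.leaf 199)) (.node (.leaf 121) (.leaf 235))) (.node (.node (.leaf 81) (.leaf 53)) (.node (.leaf 161) (.leaf 266)))))) (.node (.node (.node (.node (.node (.node (.leaf 11) (.leaf 269)) (.leaf 177)) (.node (.leaf 96) (.leaf 231))) (.node (.node (.leaf 57) (.leaf 178)) (.node (.leaf 138) (.leaf 115)))) (.node (.node (.node (.leaf 1) (.leaf 127)) (.node (.leaf 116) (.leaf 239))) (.node (.node (.leaf 9) (.leaf 171)) (.node (.leaf 157) (.leaf 137))))) (.node (.node (.node (.node (.node (.leaf 23) (.leaf 262)) (.leaf 186)) (.node (.leaf 106) (.leaf 207))) (.node (.node (.leaf 67) (.leaf 216)) (.node (.leaf 150) (.leaf 109)))) (.node (.node (.node (.leaf 46) (.leaf 122)) (.node (.leaf 126) (.leaf 175))) (.node (.node (.leaf 87) (.leaf 224)) (.node (.leaf 167) (.leaf 236)))))))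

/-- data -/
def next0_11 : Trie (ℕ) := .node (.node (.node (.node (.node (.node (.node (.node (.leaf 3) (.leaf 244)) (.leaf 129)) (.node (.leaf 58) (.leaf 56))) (.node (.node (.leaf 50) (.leaf 143)) (.node (.leaf 130) (.leaf 211)))) (.node (.node (.node (.node (.leaf 0) (.leaf 274)) (.leaf 189)) (.node (.leaf 29) (.leaf 110))) (.node (.node (.leaf 71) (.leaf 217)) (.node (.leaf 26) (.leaf 261))))) (.node (.node (.node (.node (.node (.leaf 15) (.leaf 252)) (.leaf 181)) (.node (.leaf 78) (.leaf 92))) (.node (.node (.leaf 62) (.leaf 210)) (.node (.leaf 144) (.leaf 253)))) (.node (.node (.node (.leaf 38) (.leaf 197)) (.node (.leaf 119) (.leaf 241))) (.node (.node (.leaf 80) (.leaf 222)) (.node (.leaf 82) (.leaf 163)))))) (.node (.node (.node (.node (.node (.node (.leaf 10) (.leaf 134)) (.leaf 176)) (.node (.leaf 95) (.leaf 223))) (.node (.node (.leaf 55) (.leaf 139)) (.node (.leaf 136) (.leaf 245)))) (.node (.node (.node (.leaf 31) (.leaf 193)) (.node (.leaf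 37) (.leaf 112))) (.node (.node (.leaf 76) (.leaf 190)) (.node (.leaf 93) (.leaf 179))))) (.node (.node (.node (.node (.node (.leaf 22) (.leaf 247)) (.leaf 184)) (.node (.leaf 105) (.leaf 233))) (.node (.node (.leaf 45) (.leaf 215)) (.node (.leaf 141) (.leaf 256)))) (.node (.node (.node (.leaf 44) (.leaf 202)) (.node (.leaf 124) (.leaf 238))) (.node (.node (.leaf 86) (.leaf 99)) (.node (.leaf 165) (.leaf 120))))))) (.node (.node (.node (.node (.node (.node (.node (.leaf 7) (.leaf 131)) (.leaf 173)) (.node (.leaf 12) (.leaf 229))) (.node (.node (.leaf 52) (.leaf 148)) (.node (.leaf 133) (.leaf 251)))) (.node (.node (.node (.leaf 28) (.leaf 191)) (.node (.leaf 113) (.leaf 107))) (.node (.node (.leaf 73) (.leaf 152)) (.node (.leaf 154) (.leaf 101))))) (.node (.node (.node (.node (.node (.leaf 19) (.leaf 272)) (.leaf 183)) (.node (.leaf 103) (.leaf 77))) (.node (.node (.leaf 6) (.leaf 74)) (.node (.leaf 147) (.leaf 255)))) (.node (.node (.node (.leaf 41) (.leaf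 200)) (.node (.leaf 118) (.leaf 242))) (.node (.node (.leaf 83) (.leaf 158)) (.node (.leaf 162) (.leaf 228)))))) (.node (.node (.node (.node (.node (.node (.leaf 13) (.leaf 214)) (.leaf 33)) (.node (.leaf 98) (.leaf 232))) (.node (.node (.leaf 59) (.leaf 47)) (.node (.leaf 140) (.leaf 169)))) (.node (.node (.node (.leaf 34) (.leaf 194)) (.node (.leaf 18) (.leaf 240))) (.node (.node (.leaf 40) (.leaf 196)) (.node (.leaf 159) (.leaf 264))))) (.node (.node (.node (.node (.node (.leaf 24) (.leaf 219)) (.leaf 187)) (.node (.leaf 108) (.leaf 234))) (.node (.node (.leaf 68) (.leaf 174)) (.node (.leaf 64) (.leaf 257)))) (.node (.node (.node (.leaf 48) (.leaf 42)) (.node (.leaf 128) (.leaf 84))) (.node (.node (.leaf 89) (.leaf 225)) (.node (.leaf 168) (.leaf 166)))))))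

/-- data -/
def next0 : Trie (ℕ) := .node (.node (next0_00) (next0_01)) (.node (next0_10) (next0_11))

/-- data -/
def prev0_00 : Trie (ℕ) := .node (.node (.node (.node (.node (.node (.node (.node (.leaf 1) (.leaf 239)) (.leaf 169)) (.node (.leaf 43) (.leaf 192))) (.node (.node (.leaf 22) (.leaf 204)) (.node (.leaf 129) (.leaf 245)))) (.node (.node (.node (.node (.leaf 10) (.leaf 272)) (.leaf 144)) (.node (.leaf 109) (.leaf 167))) (.node (.node (.leaf 69) (.leaf 176)) (.node (.leaf 83) (.leaf 258))))) (.node (.node (.node (.node (.node (.leaf 14) (.leaf 264)) (.leaf 179)) (.node (.leaf 99) (.leaf 201))) (.node (.node (.leaf 27) (.leaf 168)) (.node (.leaf 141) (.leaf 199)))) (.node (.node (.node (.leaf 35) (.leaf 114)) (.node (.leaf 63) (.leaf 177))) (.node (.node (.leaf 38) (.leaf 183)) (.node (.leaf 90) (.leaf 226)))))) (.node (.node (.node (.node (.node (.node (.leaf 2) (.leaf 241)) (.leaf 174)) (.node (.leaf 93) (.leaf 153))) (.node (.node (.leaf 53)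 (.leaf 207)) (.node (.leaf 134) (.leaf 195)))) (.node (.node (.node (.leaf 29) (.leaf 108)) (.node (.leaf 60) (.leaf 237))) (.node (.node (.leaf 74) (.leaf 219)) (.node (.leaf 140) (.leaf 222))))) (.node (.node (.node (.node (.node (.leaf 7) (.leaf 253)) (.leaf 116)) (.node (.leaf 76) (.leaf 160))) (.node (.node (.leaf 44) (.leaf 172)) (.node (.leaf 148) (.leaf 210)))) (.node (.node (.node (.leaf 42) (.leaf 117)) (.node (.leaf 67) (.leaf 221))) (.node (.node (.leaf 84) (.leaf 223)) (.node (.leaf 163) (.leaf 231))))))) (.node (.node (.node (.node (.node (.node (.node (.leaf 4) (.leaf 240)) (.leaf 171)) (.node (.leaf 46) (.leaf 194))) (.node (.node (.leaf 51) (.leaf 206)) (.node (.leaf 131) (.leaf 248)))) (.node (.node (.node (.node (.leaf 11) (.leaf 274)) (.leaf 190)) (.node (.leaf 59) (.leaf 236))) (.node (.node (.leaf 50) (.leaf 135)) (.node (.leaf 152) (.leaf 257))))) (.node (.node (.node (.node (.node (.leaf 16) (.leaf 266)) (.leaf 165)) (.node (.leaf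 52) (.leaf 202))) (.node (.node (.leaf 28) (.leaf 211)) (.node (.leaf 145) (.leaf 234)))) (.node (.node (.node (.leaf 17) (.leaf 198)) (.node (.leaf 120) (.leaf 191))) (.node (.node (.leaf 39) (.leaf 186)) (.node (.leaf 91) (.leaf 227)))))) (.node (.node (.node (.node (.node (.node (.leaf 3) (.leaf 243)) (.leaf 100)) (.node (.leaf 75) (.leaf 154))) (.node (.node (.leaf 56) (.leaf 126)) (.node (.leaf 137) (.leaf 197)))) (.node (.node (.node (.leaf 32) (.leaf 182)) (.node (.leaf 115) (.leaf 173))) (.node (.node (.leaf 77) (.leaf 150)) (.node (.leaf 89) (.leaf 259))))) (.node (.node (.node (.node (.node (.leaf 8) (.leaf 267)) (.leaf 185)) (.node (.leaf 55) (.leaf 162))) (.node (.node (.leaf 66) (.leaf 132)) (.node (.leaf 81) (.leaf 213)))) (.node (.node (.node (.leaf 45) (.leaf 119)) (.node (.leaf 125) (.leaf 244))) (.node (.node (.leaf 62) (.leaf 146)) (.node (.leaf 166) (.leaf 254)))))))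

/-- data -/
def prev0_01 : Trie (ℕ) := .node (.node (.node (.node (.node (.node (.node (.node (.leaf 0) (.leaf 242)) (.leaf 96)) (.node (.leaf 65) (.leaf 215))) (.node (.node (.leaf 23) (.leaf 147)) (.node (.leaf 71) (.leaf 247)))) (.node (.node (.node (.node (.leaf 26) (.leaf 269)) (.leaf 106)) (.node (.leaf 110) (.leaf 235))) (.node (.node (.leaf 49) (.leaf 216)) (.node (.leaf 151) (.leaf 260))))) (.node (.node (.node (.node (.node (.leaf 5) (.leaf 249)) (.leaf 102)) (.node (.leaf 101) (.leaf 200))) (.node (.node (.leaf 61) (.leaf 128)) (.node (.leaf 143) (.leaf 251)))) (.node (.node (.node (.leaf 37) (.leaf 196)) (.node (.leaf 118) (.leaf 205))) (.node (.node (.leaf 57) (.leaf 142)) (.node (.leaf 121) (.leaf 265)))))) (.node (.node (.node (.node (.node (.node (.leaf 9) (.leaf 261)) (.leaf 175)) (.node (.leaf 48) (.leaf 230))) (.node (.node (.leaf 25) (.leaf 138)) (.node (.leaf 73) (.leaf 229)))) (.node (.node (.node (.leaf 13) (.leaf 155)) (.node (.leaf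 85) (.leaf 238))) (.node (.node (.leaf 36) (.leaf 181)) (.node (.leaf 156) (.leaf 224))))) (.node (.node (.node (.node (.node (.leaf 21) (.leaf 273)) (.leaf 104)) (.node (.leaf 54) (.leaf 217))) (.node (.node (.leaf 30) (.leaf 214)) (.node (.leaf 80) (.leaf 212)))) (.node (.node (.node (.leaf 20) (.leaf 157)) (.node (.leaf 68) (.leaf 220))) (.node (.node (.leaf 41) (.leaf 187)) (.node (.leaf 94) (.leaf 268))))))) (.node (.node (.node (.node (.node (.node (.node (.leaf 6) (.leaf 246)) (.leaf 98)) (.node (.leaf 92) (.leaf 228))) (.node (.node (.leaf 24) (.leaf 124)) (.node (.leaf 72) (.leaf 250)))) (.node (.node (.node (.leaf 19) (.leaf 161)) (.node (.leaf 112) (.leaf 170))) (.node (.node (.leaf 34) (.leaf 136)) (.node (.leaf 86) (.leaf 262))))) (.node (.node (.node (.node (.node (.leaf 18) (.leaf 270)) (.leaf 103)) (.node (.leaf 70) (.leaf 159))) (.node (.node (.leaf 64) (.leaf 130)) (.node (.leaf 79) (.leaf 209)))) (.node (.node (.node (.leaf 40) (.leaf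 149)) (.node (.leaf 122) (.leaf 180))) (.node (.node (.leaf 82) (.leaf 189)) (.node (.leaf 123) (.leaf 233)))))) (.node (.node (.node (.node (.node (.node (.leaf 12) (.leaf 263)) (.leaf 178)) (.node (.leaf 97) (.leaf 232))) (.node (.node (.leaf 58) (.leaf 208)) (.node (.leaf 139) (.leaf 252)))) (.node (.node (.node (.leaf 33) (.leaf 113)) (.node (.leaf 87) (.leaf 193))) (.node (.node (.leaf 78) (.leaf 184)) (.node (.leaf 158) (.leaf 225))))) (.node (.node (.node (.node (.node (.leaf 15) (.leaf 271)) (.leaf 105)) (.node (.leaf 107) (.leaf 164))) (.node (.node (.leaf 31) (.leaf 133)) (.node (.leaf 111) (.leaf 256)))) (.node (.node (.node (.leaf 47) (.leaf 203)) (.node (.leaf 127) (.leaf 188))) (.node (.node (.leaf 88) (.leaf 218)) (.node (.leaf 95) (.leaf 255)))))))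

/-- data -/
def prev0_10 : Trie (ℕ) := .node (.node (.node (.node (.node (.node (.node (.node (.leaf 17) (.leaf 237)) (.leaf 95)) (.node (.leaf 111) (.leaf 148))) (.node (.node (.leaf 132) (.leaf 120)) (.node (.leaf 70) (.leaf 190)))) (.node (.node (.node (.node (.leaf 80) (.leaf 267)) (.leaf 105)) (.node (.leaf 57) (.leaf 208))) (.node (.node (.leaf 31) (.leaf 133)) (.node (.leaf 213) (.leaf 215))))) (.node (.node (.node (.node (.node (.leaf 4) (.leaf 247)) (.leaf 101)) (.node (.leaf 50) (.leaf 155))) (.node (.node (.leaf 55) (.leaf 127)) (.node (.leaf 76) (.leaf 199)))) (.node (.node (.node (.leaf 15) (.leaf 179)) (.node (.leaf 164) (.leaf 174))) (.node (.node (.leaf 193) (.leaf 141)) (.node (.leaf 253) (.leaf 248)))))) (.node (.node (.node (.node (.node (.node (.leaf 34) (.leaf 272)) (.leaf 98)) (.node (.leaf 47) (.leaf 183))) (.node (.node (.leaf 24) (.leaf 124)) (.node (.leaf 72) (.leaf 251)))) (.node (.node (.node (.leaf 12) (.leaf 163)) (.node (.leaf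 223) (.leaf 170))) (.node (.node (.leaf 35) (.leaf 136)) (.node (.leaf 86) (.leaf 257))))) (.node (.node (.node (.node (.node (.leaf 67) (.leaf 256)) (.leaf 103)) (.node (.leaf 53) (.leaf 210))) (.node (.node (.leaf 29) (.leaf 130)) (.node (.leaf 79) (.leaf 254)))) (.node (.node (.node (.leaf 19) (.leaf 162)) (.node (.leaf 201) (.leaf 180))) (.node (.node (.leaf 40) (.leaf 144)) (.node (.leaf 93) (.leaf 265))))))) (.node (.node (.node (.node (.node (.node (.node (.leaf 0) (.leaf 258)) (.leaf 97)) (.node (.leaf 202) (.leaf 151))) (.node (.node (.leaf 23) (.leaf 123)) (.node (.leaf 71) (.leaf 192)))) (.node (.node (.node (.node (.leaf 87) (.leaf 273)) (.leaf 106)) (.node (.leaf 121) (.leaf 169))) (.node (.node (.leaf 33) (.leaf 166)) (.node (.leaf 84) (.leaf 219))))) (.node (.node (.node (.node (.node (.leaf 5) (.leaf 250)) (.leaf 102)) (.node (.leaf 171) (.leaf 157))) (.node (.node (.leaf 159) (.leaf 128)) (.node (.leaf 78) (.leaf 207)))) (.node (.node (.node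 (.leaf 113) (.leaf 115)) (.node (.leaf 64) (.leaf 178))) (.node (.node (.leaf 65) (.leaf 142)) (.node (.leaf 158) (.leaf 242)))))) (.node (.node (.node (.node (.node (.node (.leaf 43) (.leaf 270)) (.leaf 261)) (.node (.leaf 48) (.leaf 204))) (.node (.node (.leaf 25) (.leaf 255)) (.node (.leaf 74) (.leaf 232)))) (.node (.node (.node (.leaf 13) (.leaf 110)) (.node (.leaf 61) (.leaf 263))) (.node (.node (.leaf 36) (.leaf 138)) (.node (.leaf 91) (.leaf 224))))) (.node (.node (.node (.node (.node (.leaf 8) (.leaf 264)) (.leaf 104)) (.node (.leaf 73) (.leaf 236))) (.node (.node (.leaf 30) (.leaf 175)) (.node (.leaf 209) (.leaf 221)))) (.node (.node (.node (.leaf 20) (.leaf 187)) (.node (.leaf 68) (.leaf 185))) (.node (.node (.leaf 41) (.leaf 181)) (.node (.leaf 94) (.leaf 234)))))))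

/-- data -/
def prev0_11 : Trie (ℕ) := .node (.node (.node (.node (.node (.node (.node (.node (.leaf 22) (.leaf 239)) (.leaf 129)) (.node (.leaf 44) (.leaf 149))) (.node (.node (.leaf 135) (.leaf 122)) (.node (.leaf 112) (.leaf 191)))) (.node (.node (.node (.node (.leaf 10) (.leaf 268)) (.leaf 176)) (.node (.leaf 58) (.leaf 168))) (.node (.node (.leaf 32) (.leaf 134)) (.node (.leaf 83) (.leaf 217))))) (.node (.node (.node (.node (.node (.leaf 54) (.leaf 260)) (.leaf 246)) (.node (.leaf 51) (.leaf 156))) (.node (.node (.leaf 27) (.leaf 231)) (.node (.leaf 77) (.leaf 205)))) (.node (.node (.node (.leaf 16) (.leaf 114)) (.node (.leaf 63) (.leaf 177))) (.node (.node (.leaf 38) (.leaf 216)) (.node (.leaf 90) (.leaf 226)))))) (.node (.node (.node (.node (.node (.node (.leaf 2) (.leaf 241)) (.leaf 99)) (.node (.leaf 212) (.leaf 153))) (.node (.node (.leaf 85) (.leaf 125)) (.node (.leaf 243) (.leaf 195)))) (.node (.node (.node (.leaf 96) (.leaf 108)) (.node (.leaf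 60) (.leaf 172))) (.node (.node (.leaf 186) (.leaf 137)) (.node (.leaf 88) (.leaf 229))))) (.node (.node (.node (.node (.node (.leaf 7) (.leaf 262)) (.leaf 109)) (.node (.leaf 203) (.leaf 160))) (.node (.node (.leaf 45) (.leaf 131)) (.node (.leaf 238) (.leaf 274)))) (.node (.node (.node (.leaf 81) (.leaf 118)) (.node (.leaf 117) (.leaf 184))) (.node (.node (.leaf 200) (.leaf 145)) (.node (.leaf 196) (.leaf 233))))))) (.node (.node (.node (.node (.node (.node (.node (.leaf 1) (.leaf 240)) (.leaf 259)) (.node (.leaf 46) (.leaf 152))) (.node (.node (.leaf 140) (.leaf 249)) (.node (.leaf 189) (.leaf 194)))) (.node (.node (.node (.leaf 11) (.leaf 107)) (.node (.leaf 59) (.leaf 225))) (.node (.node (.leaf 146) (.leaf 245)) (.node (.leaf 230) (.leaf 220))))) (.node (.node (.node (.node (.node (.leaf 6) (.leaf 252)) (.leaf 165)) (.node (.leaf 52) (.leaf 188))) (.node (.node (.leaf 28) (.leaf 182)) (.node (.leaf 211) (.leaf 218)))) (.node (.node (.node (.leaf 18)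 (.leaf 116)) (.node (.leaf 66) (.leaf 271))) (.node (.node (.leaf 39) (.leaf 143)) (.node (.leaf 92) (.leaf 227)))))) (.node (.node (.node (.node (.node (.node (.leaf 3) (.leaf 244)) (.leaf 100)) (.node (.leaf 49) (.leaf 154))) (.node (.node (.leaf 26) (.leaf 126)) (.node (.leaf 75) (.leaf 198)))) (.node (.node (.node (.leaf 14) (.leaf 228)) (.node (.leaf 62) (.leaf 173))) (.node (.node (.leaf 37) (.leaf 139)) (.node (.leaf 89) (.leaf 269))))) (.node (.node (.node (.node (.node (.leaf 9) (.leaf 266)) (.leaf 161)) (.node (.leaf 56) (.leaf 206))) (.node (.node (.leaf 167) (.leaf 222)) (.node (.leaf 82) (.leaf 214)))) (.node (.node (.node (.leaf 21) (.leaf 119)) (.node (.leaf 69) (.leaf 197))) (.node (.node (.leaf 42) (.leaf 147)) (.node (.leaf 150) (.leaf 235)))))))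

/-- data -/
def prev0 : Trie (ℕ) := .node (.node (prev0_00) (prev0_01)) (.node (prev0_10) (prev0_11))

/-- data -/
def lab0_000 : Trie (Word) := .node (.node (.node (.node (.node (.node (.node (.leaf ([])) (.leaf ([(0, true), (1, true), (0, false), (0, false), (1, false), (0, false), (0, false), (1, false), (0, false), (1, true), (0, false), (1, false), (1, false)]))) (.leaf ([]))) (.node (.leaf ([])) (.leaf ([(1, false), (1, false), (0, true), (1, false), (0, false), (1, true), (0, true), (1, false), (0, true), (1, true), (0, true), (1, false), (1, false), (0, false)])))) (.node (.node (.leaf ([])) (.leaf ([]))) (.node (.leaf ([])) (.leaf ([]))))) (.node (.node (.node (.node (.leaf ([])) (.leaf ([(0, false), (1, false), (0, false), (1, true), (0, true), (1, true), (0, false), (0, false), (0, false), (1, false), (0, false), (1, true), (0, true), (1, true), (0, false), (0, false)]))) (.leaf ([(1, true), (1, true), (0, true), (1, false), (0, true), (1, false),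 (0, true), (1, false), (0, true), (1, true), (1, true)]))) (.node (.leaf ([])) (.leaf ([])))) (.node (.node (.leaf ([])) (.leaf ([(0, true), (1, false), (0, true), (0, true), (1, true), (0, true), (1, false), (0, true), (0, true), (1, true), (0, false), (1, true), (1, true), (0, true)]))) (.node (.leaf ([])) (.leaf ([])))))) (.node (.node (.node (.node (.node (.leaf ([])) (.leaf ([(0, false), (0, false), (1, true), (0, true), (0, true), (0, true), (1, false), (0, false), (1, false), (0, false), (1, true), (1, true), (0, false), (0, false), (1, false), (0, true)]))) (.leaf ([]))) (.node (.leaf ([])) (.leaf ([(0, false), (1, false), (0, true), (1, true), (1, true), (0, true), (1, false), (1, false), (0, false), (1, true), (0, false), (1, false), (1, false), (0, false), (1, true)])))) (.node (.node (.leaf ([])) (.leaf ([(0, false), (0, false), (0, false), (0, false), (1, true), (0, false), (1, false), (0, false), (0, false), (1, true), (0, false), (1, false),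 (0, true), (0, true)]))) (.node (.leaf ([])) (.leaf ([]))))) (.node (.node (.node (.leaf ([])) (.leaf ([]))) (.node (.leaf ([])) (.leaf ([(0, false), (1, false), (1, false), (0, true), (1, false), (0, false), (1, true), (1, true), (0, false), (1, true), (1, true), (0, true), (1, true), (1, true)])))) (.node (.node (.leaf ([])) (.leaf ([(0, true), (1, true), (1, true), (0, true), (0, true), (1, true), (0, true), (1, true), (0, false), (1, true), (0, true), (1, true), (0, false), (1, false), (1, false)]))) (.node (.leaf ([])) (.leaf ([]))))))) (.node (.node (.node (.node (.node (.node (.leaf ([])) (.leaf ([]))) (.leaf ([]))) (.node (.leaf ([])) (.leaf ([])))) (.node (.node (.leaf ([])) (.leaf ([]))) (.node (.leaf ([])) (.leaf ([]))))) (.node (.node (.node (.leaf ([])) (.leaf ([]))) (.node (.leaf ([])) (.leaf ([])))) (.node (.node (.leaf ([])) (.leaf ([]))) (.node (.leaf ([(1, false), (0, true), (1, true), (0, true), (0, true), (0, true), (1, true), (1, true),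 (0, false), (1, false), (0, true), (0, true), (1, false), (0, false)])) (.leaf ([])))))) (.node (.node (.node (.node (.node (.leaf ([])) (.leaf ([]))) (.leaf ([(0, true), (1, true), (0, false), (0, false), (1, true), (0, true), (1, false), (1, false), (0, false), (0, false), (0, false), (1, false), (0, false), (1, true)]))) (.node (.leaf ([(0, false), (0, false), (0, false), (0, false), (1, false), (1, false), (0, false), (0, false), (1, false), (0, false), (0, false), (1, true), (0, false), (1, false), (0, true)])) (.leaf ([])))) (.node (.node (.leaf ([(1, true), (1, true), (0, false), (0, false), (1, true), (0, false), (1, false), (0, false), (0, false), (1, true), (0, false), (1, true), (1, true)])) (.leaf ([(1, true), (0, true), (1, true), (0, false), (1, false), (0, false), (1, true), (1, true), (0, true), (1, true), (0, false), (1, false), (0, false), (1, true)]))) (.node (.leaf ([])) (.leaf ([]))))) (.node (.node (.node (.leaf ([])) (.leaf ([])))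 (.node (.leaf ([])) (.leaf ([(1, true), (0, true), (1, false), (0, false), (1, false), (0, true), (0, true), (0, true), (1, true), (0, true), (1, true), (0, true)])))) (.node (.node (.leaf ([])) (.leaf ([]))) (.node (.leaf ([])) (.leaf ([])))))))

/-- data -/
def lab0_0010 : Trie (Word) := .node (.node (.node (.node (.node (.node (.leaf ([])) (.leaf ([]))) (.leaf ([]))) (.node (.leaf ([])) (.leaf ([(0, false), (1, true), (1, true), (0, true), (1, true), (0, false), (1, false), (1, false), (0, false), (1, false), (0, true), (1, true), (0, false), (1, false), (1, false)])))) (.node (.node (.leaf ([])) (.leaf ([]))) (.node (.leaf ([])) (.leaf ([]))))) (.node (.node (.node (.node (.leaf ([])) (.leaf ([(1, false), (0, false), (0, false), (1, false), (0, true), (1, true), (1, true), (0, false), (0, false), (1, false), (0, true), (1, true), (0, true), (1, false), (0, true)]))) (.leaf ([]))) (.node (.leaf ([])) (.leaf ([])))) (.node (.node (.leaf ([(1, false), (0,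 true), (1, false), (0, true), (1, false), (0, false), (0, false), (0, false), (1, true), (0, true), (0, true), (1, true), (0, false)])) (.leaf ([]))) (.node (.leaf ([])) (.leaf ([(0, true), (1, false), (0, false), (0, false), (0, false), (1, true), (1, true), (0, false), (0, false), (1, true), (0, false), (1, true), (1, true), (0, true), (1, false)])))))) (.node (.node (.node (.node (.node (.leaf ([])) (.leaf ([(0, false), (1, false), (1, false), (0, true), (1, true), (1, true), (0, false), (1, false), (1, false), (0, true), (1, true), (1, true)]))) (.leaf ([(0, false), (1, true), (0, true), (1, true), (0, false), (1, true), (0, true), (1, false), (0, true), (0, true), (1, false), (0, false), (1, false), (0, true)]))) (.node (.leaf ([])) (.leaf ([(0, false), (0, false), (1, false), (0, false), (1, true), (0, false), (1, true), (0, false), (1, false), (0, true), (0, true), (1, true), (0, true), (1, false)])))) (.node (.node (.leaf ([])) (.leaf ([]))) (.node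 (.leaf ([])) (.leaf ([(0, false), (1, true), (1, true), (0, true), (0, true), (0, true), (1, false), (0, false), (0, false), (1, false), (0, true), (1, false), (0, false), (1, true), (0, false)]))))) (.node (.node (.node (.leaf ([])) (.leaf ([]))) (.node (.leaf ([])) (.leaf ([(0, true), (1, false), (0, true), (1, true), (0, true), (1, true), (0, false), (1, false), (0, false), (1, false), (0, true), (1, true), (0, false), (0, false)])))) (.node (.node (.leaf ([])) (.leaf ([(1, false), (1, false), (0, true), (1, true), (0, false), (0, false), (1, false), (0, true), (1, true), (0, false), (1, true), (1, true), (0, false), (1, false)]))) (.node (.leaf ([])) (.leaf ([]))))))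

/-- data -/
def lab0_0011 : Trie (Word) := .node (.node (.node (.node (.node (.node (.leaf ([])) (.leaf ([]))) (.leaf ([]))) (.node (.leaf ([(1, true), (0, false), (1, false), (0, false), (1, false), (0, true), (1, true), (0, false), (0, false), (0, false), (1, true), (0, false), (1, false)])) (.leaf ([])))) (.node (.node (.leaf ([])) (.leaf ([]))) (.node (.leaf ([])) (.leaf ([]))))) (.node (.node (.node (.leaf ([])) (.leaf ([(0, true), (0, true), (1, true), (1, true), (0, true), (1, true), (1, true), (0, false), (1, false), (1, false)]))) (.node (.leaf ([])) (.leaf ([])))) (.node (.node (.leaf ([])) (.leaf ([(1, true), (1, true), (0, true), (1, false), (1, false), (0, false), (1, false), (1, false), (0, false), (0, false)]))) (.node (.leaf ([])) (.leaf ([(0, true), (1, true), (0, false), (1, true), (0, false), (1, true), (0, true), (1, true), (0, true), (0, true), (1, true), (0, true), (1, true), (1, true)])))))) (.node (.node (.node (.node (.node (.leaf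 ([])) (.leaf ([(1, false), (1, false), (0, true), (0, true), (0, true), (1, true), (0, true), (1, false), (0, false), (1, true), (0, true), (1, true), (0, true)]))) (.leaf ([]))) (.node (.leaf ([])) (.leaf ([])))) (.node (.node (.leaf ([])) (.leaf ([]))) (.node (.leaf ([])) (.leaf ([]))))) (.node (.node (.node (.leaf ([])) (.leaf ([]))) (.node (.leaf ([])) (.leaf ([])))) (.node (.node (.leaf ([(0, true), (0, true), (1, false), (0, true), (1, false), (0, true), (0, true), (1, true), (0, true), (1, false), (0, true), (1, false), (0, false), (1, false), (0, true)])) (.leaf ([]))) (.node (.leaf ([])) (.leaf ([(0, false), (0, false), (1, true), (0, true), (1, false), (0, false), (1, true), (0, true), (0, true), (1, false), (0, true), (1, false), (0, false), (0, false), (0, false)]))))))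

/-- data -/
def lab0_0100 : Trie (Word) := .node (.node (.node (.node (.node (.node (.leaf ([])) (.leaf ([(1, true), (0, false), (1, false), (1, false), (0, true), (1, false), (0, true), (0, true), (1, false), (1, false), (0, true), (0, true), (0, true), (1, true), (0, false)]))) (.leaf ([]))) (.node (.leaf ([(1, true), (1, true), (0, false), (1, true), (0, false), (1, true), (0, false), (1, true), (0, true), (1, true), (0, false)])) (.leaf ([(1, false), (0, false), (1, true), (1, true), (0, false), (1, true), (0, true), (1, true), (0, false), (1, true), (1, true), (0, true), (1, false), (1, false)])))) (.node (.node (.leaf ([])) (.leaf ([(0, false), (0, false), (0, false), (1, false), (0, true), (0, true), (1, true), (1, true), (0, false), (1, true), (0, false), (1, false), (0, false), (0, false)]))) (.node (.leaf ([])) (.leaf ([]))))) (.node (.node (.node (.node (.leaf ([])) (.leaf ([(0, true)]))) (.leaf ([]))) (.node (.leaf ([])) (.leaf ([])))) (.node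 (.node (.leaf ([(1, false), (1, false), (0, true), (1, false), (0, true), (1, false), (0, false), (1, false), (0, true), (1, false), (0, true), (1, false), (0, false), (1, true)])) (.leaf ([(1, false), (1, false), (0, false), (1, false), (1, false), (0, true), (1, false), (1, false), (0, true), (1, true), (0, false), (1, true), (1, true), (0, true)]))) (.node (.leaf ([])) (.leaf ([])))))) (.node (.node (.node (.node (.node (.leaf ([])) (.leaf ([]))) (.leaf ([]))) (.node (.leaf ([])) (.leaf ([(0, true), (1, true), (0, false), (1, true), (0, false), (1, false), (0, true), (1, false), (0, false), (0, false), (0, false), (1, false), (0, true), (0, true), (0, true)])))) (.node (.node (.leaf ([])) (.leaf ([]))) (.node (.leaf ([])) (.leaf ([(0, true), (1, false), (0, true), (0, true), (1, false), (0, false), (0, false), (0, false), (1, false), (0, true), (1, true), (0, false)]))))) (.node (.node (.node (.leaf ([])) (.leaf ([]))) (.node (.leaf ([])) (.leaf ([(1,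 true), (0, true), (0, true), (0, true), (1, true), (0, false), (1, false), (0, true), (1, false), (0, false), (0, false), (1, false), (0, true), (1, false)])))) (.node (.node (.leaf ([(0, false), (1, true), (0, false), (0, false), (1, true), (0, true), (1, true), (0, true), (1, false), (0, true), (0, true), (1, false), (1, false), (0, true)])) (.leaf ([]))) (.node (.leaf ([(1, false), (0, true), (1, true), (0, true), (1, false), (0, false), (1, false), (0, false), (1, false), (1, false), (0, true), (1, false), (1, false), (0, true)])) (.leaf ([]))))))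

/-- data -/
def lab0_0101 : Trie (Word) := .node (.node (.node (.node (.node (.node (.leaf ([])) (.leaf ([(1, true), (0, false), (0, false), (0, false), (1, true), (0, false), (0, false), (0, false)]))) (.leaf ([]))) (.node (.leaf ([])) (.leaf ([])))) (.node (.node (.leaf ([])) (.leaf ([(1, false), (0, true), (0, true), (1, true), (0, false), (0, false), (1, true), (0, false), (1, true), (0, false), (0, false), (1, false), (0, true), (1, true)]))) (.node (.leaf ([])) (.leaf ([(0, true), (0, true), (1, false), (0, true), (1, true), (0, false), (1, false), (1, false), (0, true), (0, true), (1, false), (1, false), (0, false), (0, false), (1, false)]))))) (.node (.node (.node (.leaf ([])) (.leaf ([(0, true), (1, true), (1, true), (0, true), (0, true), (0, true), (1, false), (1, false), (0, true), (1, true), (0, false), (1, true), (0, false), (0, false), (1, true)]))) (.node (.leaf ([(1, true), (0, true), (0, true), (0, true), (0, true), (1, false), (0, true),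 (1, false), (0, true), (0, true), (1, true), (0, false), (1, true), (1, true), (0, false), (1, true)])) (.leaf ([])))) (.node (.node (.leaf ([])) (.leaf ([(1, false), (0, false), (1, true), (0, false), (1, false), (1, false), (0, true), (1, true), (0, false), (1, true), (0, false), (1, true), (1, true), (0, false)]))) (.node (.leaf ([])) (.leaf ([])))))) (.node (.node (.node (.node (.node (.leaf ([])) (.leaf ([(0, false)]))) (.leaf ([]))) (.node (.leaf ([])) (.leaf ([(1, false), (1, false), (0, true), (1, true), (0, true), (0, true), (0, true), (0, true), (1, false), (0, false), (0, false), (0, false), (1, true), (1, true)])))) (.node (.node (.leaf ([])) (.leaf ([]))) (.node (.leaf ([])) (.leaf ([]))))) (.node (.node (.node (.leaf ([])) (.leaf ([(0, false), (1, false), (0, false), (1, false), (0, true), (0, true), (0, true), (1, false), (0, true), (0, true), (0, true), (0, true), (1, true), (0, true)]))) (.node (.leaf ([])) (.leaf ([(0, true), (1, true),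 (1, true), (0, true), (0, true), (0, true), (1, true), (1, true), (0, true), (0, true), (0, true), (1, true)])))) (.node (.node (.leaf ([])) (.leaf ([(1, true), (0, false), (0, false), (0, false), (1, true), (0, true), (1, false), (0, false), (0, false), (0, false), (0, false), (1, true), (0, true), (0, true)]))) (.node (.leaf ([])) (.leaf ([]))))))

/-- data -/
def lab0_0110 : Trie (Word) := .node (.node (.node (.node (.node (.node (.leaf ([])) (.leaf ([(1, true), (1, true), (0, true), (0, true), (0, true), (0, true), (1, true), (1, true), (0, false), (1, true), (0, true), (1, true), (0, false), (1, false)]))) (.leaf ([]))) (.node (.leaf ([])) (.leaf ([])))) (.node (.node (.leaf ([])) (.leaf ([]))) (.node (.leaf ([])) (.leaf ([]))))) (.node (.node (.node (.leaf ([(1, true), (0, false), (1, true), (0, false), (0, false), (1, false), (0, true), (0, true), (1, false), (1, false), (0, false), (1, true), (0, false)])) (.leaf ([(0, true), (0, true), (1, true),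 (0, true), (1, false), (0, true), (1, false), (1, false), (0, false), (0, false), (1, true), (0, true), (0, true), (0, true)]))) (.node (.leaf ([])) (.leaf ([])))) (.node (.node (.leaf ([])) (.leaf ([]))) (.node (.leaf ([])) (.leaf ([])))))) (.node (.node (.node (.node (.node (.leaf ([])) (.leaf ([(0, false), (1, false), (0, false), (1, false), (0, true), (1, true), (0, false), (1, false), (0, false), (0, false), (0, false), (1, true), (1, true)]))) (.leaf ([]))) (.node (.leaf ([(1, true), (0, true), (1, false), (0, true), (0, true), (0, true), (1, false), (0, false), (1, true), (0, true), (1, true), (0, true), (1, false)])) (.leaf ([])))) (.node (.node (.leaf ([])) (.leaf ([]))) (.node (.leaf ([])) (.leaf ([]))))) (.node (.node (.node (.leaf ([])) (.leaf ([(1, true), (0, true), (0, true), (0, true), (1, true), (0, false), (0, false), (1, true), (1, true), (0, true), (0, true), (0, true), (0, true), (1, true), (0, false)]))) (.node (.leaf ([])) (.leaf ([]))))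 (.node (.node (.leaf ([])) (.leaf ([(0, false), (0, false), (1, false), (0, true), (0, true), (0, true), (0, true), (1, true), (0, false), (1, false), (0, true), (0, true), (0, true), (1, false)]))) (.node (.leaf ([(1, true), (0, false), (1, true), (0, false), (0, false), (0, false), (1, false), (0, false), (0, false), (0, false), (1, true), (1, true), (0, true), (1, true)])) (.leaf ([(0, true), (1, false), (0, false), (1, true), (0, true), (0, true), (0, true), (1, true), (0, false), (0, false), (1, true), (0, false)]))))))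

/-- data -/
def lab0_0111 : Trie (Word) := .node (.node (.node (.node (.node (.node (.leaf ([])) (.leaf ([(1, true), (1, true), (0, true), (0, true), (0, true), (1, false), (1, false), (0, true), (1, true), (1, true), (0, true), (0, true), (0, true), (1, false), (1, false), (0, true)]))) (.leaf ([]))) (.node (.leaf ([])) (.leaf ([])))) (.node (.node (.leaf ([])) (.leaf ([]))) (.node (.leaf ([])) (.leaf ([]))))) (.node (.node (.node (.leaf ([])) (.leaf ([]))) (.node (.leaf ([(1, true), (0, false), (1, true), (0, false), (0, false), (0, false), (1, false), (0, false), (0, false), (0, false), (1, true), (1, true), (0, true), (1, true)])) (.leaf ([(1, true), (1, true), (0, false), (1, false), (1, false), (0, true), (1, false), (0, false), (1, false), (0, true), (1, false), (1, false), (0, true), (1, true)])))) (.node (.node (.leaf ([])) (.leaf ([(0, false), (0, false), (0, false), (1, true), (0, true), (0, true), (1, true), (0, true), (1, false), (0, true),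 (1, true), (0, true), (1, false), (1, false), (0, false)]))) (.node (.leaf ([])) (.leaf ([])))))) (.node (.node (.node (.node (.node (.leaf ([(1, false), (0, true), (1, true), (0, false), (1, false), (1, false), (0, false), (1, true), (0, true), (1, false), (0, false), (1, true), (0, false), (1, false), (1, false)])) (.leaf ([(0, false), (0, false), (0, false), (1, true), (0, true), (1, true), (0, true), (0, true), (0, true), (1, true), (0, false), (1, false), (1, false), (0, true)]))) (.leaf ([]))) (.node (.leaf ([])) (.leaf ([])))) (.node (.node (.leaf ([])) (.leaf ([]))) (.node (.leaf ([(1, true), (1, true), (0, false), (1, false), (0, false), (0, false), (1, false), (0, true), (1, false), (1, false), (0, true), (1, false), (0, false), (1, false)])) (.leaf ([(1, true), (1, true), (0, true), (1, false), (0, true), (1, true), (0, true), (0, true), (1, true), (0, true), (0, true), (1, false), (0, false)]))))) (.node (.node (.node (.leaf ([])) (.leaf ([])))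 (.node (.leaf ([])) (.leaf ([])))) (.node (.node (.leaf ([])) (.leaf ([(0, true), (1, true), (0, false), (1, true), (0, false), (1, false), (0, false), (1, false), (0, false), (1, true), (1, true), (0, true), (0, true), (1, true)]))) (.node (.leaf ([])) (.leaf ([(0, true), (0, true), (1, true), (0, true), (1, true), (1, true), (0, false), (1, true), (1, true), (0, true), (1, false), (0, true), (1, true)]))))))

/-- data -/
def lab0_100 : Trie (Word) := .node (.node (.node (.node (.node (.node (.node (.leaf ([])) (.leaf ([(1, false), (0, true), (1, true), (0, true), (1, false), (0, true), (0, true), (0, true), (0, true), (1, true), (0, true), (1, true), (0, true), (1, false), (0, false)]))) (.leaf ([]))) (.node (.leaf ([])) (.leaf ([])))) (.node (.node (.leaf ([])) (.leaf ([]))) (.node (.leaf ([])) (.leaf ([]))))) (.node (.node (.node (.node (.leaf ([])) (.leaf ([(0, true), (1, true), (0, true), (0, true), (1, false), (0, true), (1, false), (0, true), (1,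 false), (1, false), (0, true), (1, false), (0, false), (1, false), (1, false)]))) (.leaf ([]))) (.node (.leaf ([])) (.leaf ([(0, false), (1, true), (0, true), (0, true), (0, true), (1, true), (0, false), (1, true), (0, false), (1, true), (0, false), (1, true), (0, false), (0, false), (1, true)])))) (.node (.node (.leaf ([])) (.leaf ([(0, true), (1, false), (0, false), (1, true), (0, true), (1, true), (1, true), (0, false), (0, false), (1, false), (1, false), (0, true), (1, true), (0, true)]))) (.node (.leaf ([(1, false), (0, true), (1, false), (0, false), (1, true), (0, false), (1, true), (0, false), (1, true), (0, false), (1, false), (0, false)])) (.leaf ([])))))) (.node (.node (.node (.node (.node (.leaf ([(0, true)])) (.leaf ([]))) (.leaf ([]))) (.node (.leaf ([])) (.leaf ([])))) (.node (.node (.leaf ([])) (.leaf ([]))) (.node (.leaf ([])) (.leaf ([(0, true), (0, true), (1, false), (0, true), (0, true), (0, true), (1, true), (0, true), (1, true), (0,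 true), (0, true), (1, true), (0, false)]))))) (.node (.node (.node (.leaf ([])) (.leaf ([]))) (.node (.leaf ([])) (.leaf ([(0, true), (1, true), (1, true), (0, true), (0, true), (1, false), (0, false), (1, false), (0, true), (1, true), (0, false), (1, false), (0, true), (1, false)])))) (.node (.node (.leaf ([])) (.leaf ([]))) (.node (.leaf ([])) (.leaf ([(0, true), (1, false), (0, true), (0, true), (1, false), (0, true), (0, true), (1, false), (1, false), (0, false), (1, false), (0, true), (0, true), (1, true), (0, true)]))))))) (.node (.node (.node (.node (.node (.node (.leaf ([])) (.leaf ([(0, false), (1, false), (1, false), (0, true), (1, true), (0, true), (0, true), (0, true), (1, false), (1, false), (0, false), (1, false), (0, true), (1, true), (0, false)]))) (.leaf ([]))) (.node (.leaf ([])) (.leaf ([(0, false), (1, false), (0, true), (1, true), (0, true), (1, false), (0, true), (0, true), (0, true), (0, true), (1, true), (0, true), (1, true), (0,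 false)])))) (.node (.node (.leaf ([])) (.leaf ([(0, false), (1, false), (0, false), (1, false), (0, true), (1, false), (0, false), (0, false), (1, true), (1, true), (0, true), (1, true), (1, true)]))) (.node (.leaf ([])) (.leaf ([]))))) (.node (.node (.node (.leaf ([])) (.leaf ([]))) (.node (.leaf ([])) (.leaf ([])))) (.node (.node (.leaf ([])) (.leaf ([]))) (.node (.leaf ([])) (.leaf ([])))))) (.node (.node (.node (.node (.node (.leaf ([])) (.leaf ([]))) (.leaf ([]))) (.node (.leaf ([])) (.leaf ([(0, true), (1, true), (0, true), (1, false), (0, false), (1, false), (0, false), (1, false), (0, true), (0, true), (1, false), (0, false), (0, false)])))) (.node (.node (.leaf ([])) (.leaf ([]))) (.node (.leaf ([])) (.leaf ([(1, true), (0, false), (1, false), (0, false), (1, true), (0, false), (1, true), (1, true), (0, true), (1, true), (1, true), (0, true), (1, true), (0, false)]))))) (.node (.node (.node (.leaf ([])) (.leaf ([]))) (.node (.leaf ([])) (.leaf ([]))))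 (.node (.node (.leaf ([])) (.leaf ([(1, true), (0, true), (0, true), (0, true), (0, true), (1, true), (0, false), (0, false), (1, true), (0, true), (0, true), (1, true), (1, true), (0, false), (1, false)]))) (.node (.leaf ([])) (.leaf ([])))))))

/-- data -/
def lab0_1010 : Trie (Word) := .node (.node (.node (.node (.node (.node (.leaf ([])) (.leaf ([(1, false), (0, true), (1, false), (1, false), (0, true), (1, false), (0, false), (1, true), (0, true), (1, false), (0, true), (0, true), (1, true)]))) (.leaf ([]))) (.node (.leaf ([])) (.leaf ([])))) (.node (.node (.leaf ([(0, false)])) (.leaf ([(1, false), (0, false), (1, true), (1, true), (0, true), (1, true), (0, true), (1, true), (1, true), (0, true), (0, true), (1, false), (0, false)]))) (.node (.leaf ([])) (.leaf ([]))))) (.node (.node (.node (.node (.leaf ([])) (.leaf ([(1, true), (0, false), (1, true), (0, true), (1, true), (0, true), (1, true), (0, false), (0, false), (0, false), (0, false), (1, false),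 (0, true), (0, true), (1, false)]))) (.leaf ([(0, false), (0, false), (1, false), (0, false), (1, true), (0, true), (0, true), (1, true), (1, true), (0, true), (1, true), (1, true), (0, false), (1, true)]))) (.node (.leaf ([])) (.leaf ([(0, false), (0, false), (1, false), (0, false), (1, true), (0, false), (1, false), (1, false), (0, false), (1, false), (0, false), (0, false), (1, true)])))) (.node (.node (.leaf ([])) (.leaf ([]))) (.node (.leaf ([])) (.leaf ([(1, false), (0, true), (0, true), (0, true), (1, true), (1, true), (0, true), (1, false), (0, false), (1, true), (0, true), (1, false), (0, false), (1, true), (0, false)])))))) (.node (.node (.node (.node (.node (.leaf ([])) (.leaf ([]))) (.leaf ([]))) (.node (.leaf ([])) (.leaf ([(0, true), (1, false), (0, true), (1, false), (0, false), (0, false), (0, false), (1, false), (0, true), (0, true), (0, true), (1, true), (0, true)])))) (.node (.node (.leaf ([])) (.leaf ([]))) (.node (.leaf ([])) (.leaf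 ([]))))) (.node (.node (.node (.leaf ([])) (.leaf ([]))) (.node (.leaf ([])) (.leaf ([(1, false), (0, true), (0, true), (1, false), (1, false), (0, true), (1, false), (0, false), (1, true), (0, false), (0, false), (1, false)])))) (.node (.node (.leaf ([])) (.leaf ([]))) (.node (.leaf ([])) (.leaf ([]))))))

/-- data -/
def lab0_1011 : Trie (Word) := .node (.node (.node (.node (.node (.node (.leaf ([])) (.leaf ([]))) (.leaf ([]))) (.node (.leaf ([])) (.leaf ([])))) (.node (.node (.leaf ([])) (.leaf ([(1, true), (0, false), (1, true), (0, true), (1, false), (1, false), (0, true), (1, true), (0, true), (0, true), (0, true), (1, true), (0, true), (1, false), (1, false)]))) (.node (.leaf ([])) (.leaf ([(1, true), (0, true), (1, false), (0, false), (1, true), (0, true), (1, false), (0, false), (1, true), (0, true), (1, true), (0, true), (0, true), (1, true)]))))) (.node (.node (.node (.leaf ([])) (.leaf ([(0, true), (0, true), (1, true), (0, true), (0, true),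 (0, true), (1, true), (0, true), (1, false), (0, false), (0, false), (0, false), (1, false)]))) (.node (.leaf ([])) (.leaf ([])))) (.node (.node (.leaf ([])) (.leaf ([(1, true), (0, true), (0, true), (1, false), (0, true), (0, true), (1, true), (0, true), (1, false), (0, true), (0, true), (0, true), (1, true), (0, false)]))) (.node (.leaf ([])) (.leaf ([(0, false), (0, false), (0, false), (1, false), (0, true), (0, true), (1, true), (0, false), (1, false), (0, false), (1, true), (0, true), (1, false), (0, true)])))))) (.node (.node (.node (.node (.node (.leaf ([])) (.leaf ([(1, false), (0, true), (0, true), (1, true), (0, false), (0, false), (1, false), (0, false), (1, true), (0, false), (1, false), (1, false), (0, true), (0, true)]))) (.leaf ([]))) (.node (.leaf ([])) (.leaf ([(1, true), (1, true), (0, false), (1, true), (1, true), (0, true), (1, false), (0, false), (1, false), (1, false), (0, false)])))) (.node (.node (.leaf ([])) (.leaf ([]))) (.node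 (.leaf ([])) (.leaf ([(0, true), (1, false), (0, true), (0, true), (1, true), (0, false), (1, true), (0, false), (1, false), (0, false), (1, false), (0, false), (0, false), (1, false), (0, true)]))))) (.node (.node (.node (.leaf ([])) (.leaf ([(1, true), (0, true), (0, true), (1, true), (1, true), (0, false), (0, false), (0, false), (0, false), (1, true), (0, true), (1, false), (0, true)]))) (.node (.leaf ([])) (.leaf ([(0, true), (1, true), (0, false), (1, false), (0, true), (0, true), (1, true), (0, true), (1, true), (0, false), (1, false), (0, false)])))) (.node (.node (.leaf ([])) (.leaf ([]))) (.node (.leaf ([])) (.leaf ([(1, true), (0, true), (1, false), (1, false), (0, false), (0, false), (0, false), (1, false), (0, true), (1, true), (0, true), (0, true), (1, true), (0, true)]))))))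

/-- data -/
def lab0_1100 : Trie (Word) := .node (.node (.node (.node (.node (.node (.leaf ([])) (.leaf ([(1, true), (0, true), (0, true), (0, true), (1, false), (0, false), (1, false), (0, true), (1, true), (0, true), (1, false)]))) (.leaf ([(0, false), (1, false), (1, false), (0, true), (1, true), (0, true), (1, false), (0, false), (1, true), (0, false), (0, false), (0, false), (1, true)]))) (.node (.leaf ([(0, false), (1, false), (0, true), (0, true), (0, true), (1, false), (0, true), (1, false), (0, false), (1, true), (0, false), (1, true), (0, true), (0, true), (0, true)])) (.leaf ([])))) (.node (.node (.leaf ([])) (.leaf ([(0, true), (0, true), (1, false), (0, true), (1, true), (0, true), (1, false), (0, false), (0, false), (1, false), (0, true), (1, true), (0, false)]))) (.node (.leaf ([])) (.leaf ([(0, false), (0, false), (1, true), (1, true), (0, false), (0, false), (1, false), (0, false), (0, false)]))))) (.node (.node (.node (.node (.leaf ([]))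 (.leaf ([]))) (.leaf ([]))) (.node (.leaf ([(0, true), (0, true), (1, true), (0, true), (1, true), (0, false), (0, false), (0, false), (1, false), (1, false), (0, true), (1, true), (0, true), (0, true), (1, false)])) (.leaf ([(1, true), (0, true), (0, true), (0, true), (1, true), (0, false), (1, false), (0, false), (0, false), (0, false), (1, false), (0, false), (0, false)])))) (.node (.node (.leaf ([])) (.leaf ([]))) (.node (.leaf ([])) (.leaf ([])))))) (.node (.node (.node (.node (.node (.leaf ([])) (.leaf ([(0, true), (0, true), (1, false), (0, true), (1, true), (1, true), (0, true), (1, true), (1, true), (0, true), (0, true), (1, false), (0, false), (1, false)]))) (.leaf ([]))) (.node (.leaf ([(1, false), (0, true), (1, false), (1, false), (0, false), (1, false), (1, false), (0, false), (0, false), (1, false), (0, true), (1, true), (0, true), (0, true)])) (.leaf ([(0, true), (1, true), (0, false), (0, false), (1, false), (1, false), (0, false), (1, false),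 (0, false), (1, false), (1, false), (0, true), (1, true)])))) (.node (.node (.leaf ([])) (.leaf ([]))) (.node (.leaf ([])) (.leaf ([]))))) (.node (.node (.node (.leaf ([])) (.leaf ([]))) (.node (.leaf ([])) (.leaf ([])))) (.node (.node (.leaf ([])) (.leaf ([]))) (.node (.leaf ([(1, true), (1, true), (0, true), (1, false), (0, true), (1, true), (1, true), (0, true), (1, true), (0, false), (0, false), (1, true), (0, false), (0, false)])) (.leaf ([(0, true), (1, true), (0, false), (1, false), (0, false), (0, false), (1, false), (0, true), (1, false), (0, false), (1, false), (1, false), (0, true)]))))))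

/-- data -/
def lab0_1101 : Trie (Word) := .node (.node (.node (.node (.node (.node (.leaf ([])) (.leaf ([]))) (.leaf ([]))) (.node (.leaf ([])) (.leaf ([(0, false), (1, false), (0, true), (1, true), (0, true), (0, true), (1, false), (0, true), (1, true), (0, true), (1, false), (0, false), (1, true)])))) (.node (.node (.leaf ([])) (.leaf ([(0, true), (1, true), (0, true), (0, true), (1, true), (0, false), (0, false), (1, false), (0, false), (1, false), (0, false), (0, false), (1, true), (1, true), (0, false)]))) (.node (.leaf ([])) (.leaf ([(0, false), (0, false), (1, true), (1, true), (0, true), (0, true), (0, true), (1, true), (0, false), (1, true), (0, false), (0, false)]))))) (.node (.node (.node (.leaf ([])) (.leaf ([]))) (.node (.leaf ([(1, false), (0, true), (1, false), (0, true), (1, false), (0, false), (1, true), (0, false), (1, true), (1, true), (0, false), (1, false), (1, false)])) (.leaf ([(0, true), (1, true), (0, true), (1, false), (0, true),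 (1, false), (0, true), (1, false), (0, true), (1, true), (0, false), (1, true)])))) (.node (.node (.leaf ([])) (.leaf ([(1, true), (1, true), (0, true), (0, true), (1, false), (0, true), (1, true), (1, true), (0, false), (1, false), (1, false), (0, true), (0, true), (0, true)]))) (.node (.leaf ([(1, false), (1, false), (0, false), (1, false), (1, false), (0, true), (0, true), (1, true), (0, false), (1, true), (0, true), (1, true), (0, true)])) (.leaf ([(1, false), (0, true), (0, true), (1, true), (0, false), (1, true), (1, true), (0, false), (1, true), (0, false), (0, false), (1, true), (0, true), (1, false)])))))) (.node (.node (.node (.node (.node (.leaf ([])) (.leaf ([(0, false), (0, false), (1, true), (1, true), (0, true), (1, false), (0, true), (1, true), (0, true), (0, true), (1, false), (0, false), (0, false), (1, true)]))) (.leaf ([]))) (.node (.leaf ([])) (.leaf ([])))) (.node (.node (.leaf ([(1, true)])) (.leaf ([]))) (.node (.leaf ([(1, true),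 (1, true), (0, false), (1, false), (0, true), (0, true), (1, true), (0, false), (1, true), (1, true), (0, false), (1, false), (0, true), (1, true)])) (.leaf ([]))))) (.node (.node (.node (.leaf ([])) (.leaf ([]))) (.node (.leaf ([])) (.leaf ([(0, false), (1, false), (0, false), (0, false), (0, false), (1, true), (0, true), (0, true), (0, true), (1, true), (0, false), (1, true), (0, false)])))) (.node (.node (.leaf ([])) (.leaf ([(0, false), (1, false), (0, false), (1, true), (1, true), (0, true), (0, true), (1, false), (1, false), (0, false), (1, false), (0, true), (1, true), (0, false)]))) (.node (.leaf ([])) (.leaf ([]))))))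

/-- data -/
def lab0_111 : Trie (Word) := .node (.node (.node (.node (.node (.node (.node (.leaf ([])) (.leaf ([]))) (.leaf ([]))) (.node (.leaf ([])) (.leaf ([])))) (.node (.node (.leaf ([])) (.leaf ([(0, false), (1, true), (1, true), (0, true), (1, true), (0, false), (1, true), (0, true), (0, true), (1, true), (0, true), (1, false), (0, false)]))) (.node (.leaf ([])) (.leaf ([]))))) (.node (.node (.node (.leaf ([])) (.leaf ([]))) (.node (.leaf ([])) (.leaf ([(0, true), (0, true), (1, true), (0, true), (0, true), (1, false), (1, false), (0, true), (0, true)])))) (.node (.node (.leaf ([])) (.leaf ([(1, false), (0, true), (1, false), (0, false), (1, true), (0, true), (0, true), (0, true), (1, false), (0, false), (1, false), (1, false), (0, false), (1, false), (0, true)]))) (.node (.leaf ([])) (.leaf ([])))))) (.node (.node (.node (.node (.node (.leaf ([])) (.leaf ([]))) (.leaf ([]))) (.node (.leaf ([])) (.leaf ([(0, false), (1, false), (0, false), (1, true),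 (0, false), (1, false), (0, true), (0, true), (1, true), (1, true), (0, true), (1, false), (0, false), (1, true), (0, true)])))) (.node (.node (.leaf ([])) (.leaf ([(0, true), (1, true), (0, false), (1, false), (0, false), (1, false), (0, false), (1, false), (1, false), (0, false), (1, true), (1, true), (0, true), (0, true)]))) (.node (.leaf ([])) (.leaf ([]))))) (.node (.node (.node (.leaf ([])) (.leaf ([]))) (.node (.leaf ([(0, false), (1, false), (0, false), (0, false), (0, false), (1, true), (0, true), (0, true), (0, true), (1, true), (0, false), (1, true), (0, false)])) (.leaf ([])))) (.node (.node (.leaf ([])) (.leaf ([(0, false), (1, true), (0, true), (0, true), (0, true), (1, false), (0, false), (1, true), (1, true), (0, true), (1, true), (0, true), (1, false), (0, true), (0, true)]))) (.node (.leaf ([])) (.leaf ([]))))))) (.node (.node (.node (.node (.node (.node (.leaf ([])) (.leaf ([(1, true), (0, false), (1, false), (0, false), (1, true), (0,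 true), (1, true), (0, false), (0, false), (0, false), (1, false)]))) (.leaf ([]))) (.node (.leaf ([])) (.leaf ([(0, false), (1, false), (0, false), (1, false), (1, false), (0, true), (0, true), (0, true), (1, true), (0, true), (1, false)])))) (.node (.node (.leaf ([])) (.leaf ([]))) (.node (.leaf ([])) (.leaf ([(1, true), (0, false), (0, false), (0, false), (1, false), (0, false), (1, true), (0, true), (1, false), (1, false), (0, false), (1, false), (0, false), (1, true)]))))) (.node (.node (.node (.leaf ([])) (.leaf ([]))) (.node (.leaf ([])) (.leaf ([])))) (.node (.node (.leaf ([(1, true), (1, true), (0, true), (1, false), (1, false), (0, true), (1, false), (0, true), (1, true), (0, false), (1, true), (0, false), (1, true)])) (.leaf ([(0, true), (1, true), (0, true), (1, false), (1, false), (0, false), (1, true), (0, true), (0, true), (1, true), (0, true), (1, true), (0, true)]))) (.node (.leaf ([])) (.leaf ([])))))) (.node (.node (.node (.node (.node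 (.leaf ([])) (.leaf ([(1, true), (0, false), (1, true), (0, true), (0, true), (0, true), (1, false), (0, false), (0, false), (1, true), (1, true), (0, true), (0, true), (1, true), (0, false)]))) (.leaf ([]))) (.node (.leaf ([])) (.leaf ([])))) (.node (.node (.leaf ([])) (.leaf ([(1, false), (0, true), (1, false), (0, true), (1, false), (0, false), (0, false), (0, false), (1, true), (0, true), (0, true), (1, true), (0, false)]))) (.node (.leaf ([(0, true), (0, true), (1, false), (0, true), (0, true), (1, false), (0, false), (1, false), (1, false), (0, false), (1, true), (0, false), (1, false), (1, false)])) (.leaf ([]))))) (.node (.node (.node (.leaf ([])) (.leaf ([]))) (.node (.leaf ([])) (.leaf ([(1, false), (0, true), (1, true), (0, false), (1, false), (0, false), (1, true), (0, false), (0, false), (1, false), (0, false), (1, true), (0, true)])))) (.node (.node (.leaf ([])) (.leaf ([]))) (.node (.leaf ([])) (.leaf ([(1, false), (0, true), (0, true), (1,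 false), (1, false), (0, false), (0, false), (1, true), (0, true), (1, false), (0, true), (1, false), (0, false), (1, true)])))))))

/-- data -/
def lab0 : Trie (Word) := .node (.node (.node (lab0_000) (.node (lab0_0010) (lab0_0011))) (.node (.node (lab0_0100) (lab0_0101)) (.node (lab0_0110) (lab0_0111)))) (.node (.node (lab0_100) (.node (lab0_1010) (lab0_1011))) (.node (.node (lab0_1100) (lab0_1101)) (lab0_111)))

/-- data -/
def val0_00000 : Trie (Vec) := .node (.node (.node (.node (.node (.leaf ([])) (.leaf ([(-2571792), (-13764730), (-8030038), 15050945, 16525887, 3604223, (-11374186), (-6526243), 10950489, (-3135347), (-537503), (-19584467), 2891789, (-15881218), 3829542, 14228346, 0, 0, 0, 0, 0, 0, 0, 0, 1959823, 3104602, (-2057270), (-221674), 1016850, (-355307), (-14128), 15882, 30310, 47193, 2720, 132, 25822, 25548, 25946, 37607, 3999, 22773, (-22814), 4984, (-3227), 22351, 46851, (-34806), 20798, 1666, 26876, (-282), (-25), 197, 172, (-88), (-18),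 (-39), 70, (-142), (-17), 169, (-129), (-41), (-101), 146, (-81), 32, (-10), (-28), (-13), (-43), 52, (-165)]))) (.leaf ([]))) (.node (.leaf ([0, 0, 0, 0, 0, 0, 0, 0, 0, 0, 0, 0, 0, 0, 0, 0, 0, 0, 0, 0, 0, 0, 0, 0, 0, 0, 0, 0, 0, 0, 0, 0, 0, 0, 0, 0, 0, 0, 0, 0, 0, 0, 0, 0, 0, 0, 0, 0, 0, 0, 0, 1])) (.leaf ([(-78708), (-43554), 26171, 447297, 393856, (-67947), (-402581), (-202057), 274029, (-147646), (-105049), (-648755), 238780, (-422409), 99989, 525630, 0, 0, 0, 0, 0, 0, 0, 0, 56417, 110250, (-63115), (-6458), 40356, (-25107), (-604), 1780, 96, 658, (-487), (-38), 533, 1261, 1283, 486, (-252), 177, (-605), (-1100), 375, (-72), 499, (-400), 925, 234, 585, (-7), 14, (-3), (-10), 2, (-2), 5, (-6), 8, (-5), (-7), (-4), 0, 1, (-6), 4, 1, 1, 1, 0, 1, (-2), 5, 2])))) (.node (.node (.leaf ([0, 0, 0, 0, 0, 0, 0, 0, 0, 0, 0, 0, 0, 0, 0, 0, 0, 0, 0, 0, 0, 0, 0, 0, 0, 0, 0, 0, 0, 0, 0, 0, 0, 0, 0, 0, 0, 0, 0, 0, 0, 0, 0, 0, 0, 0, 0, 0, 0, 0, 0, 1])) (.leaf ([])))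 (.node (.leaf ([])) (.leaf ([]))))) (.node (.node (.node (.node (.leaf ([0, 0, 0, 0, 0, 0, 0, 0, 0, 0, 0, 0, 0, 0, 0, 0, 0, 0, 0, 0, 0, 0, 0, 0, 0, 0, 0, 0, 0, 0, 0, 0, 0, 0, 0, 0, 0, 0, 0, 0, 0, 0, 0, 0, 0, 0, 0, 0, 0, 0, 0, 1])) (.leaf ([(-1298793), (-10564692), (-6728003), 7795722, 9417050, 3549574, (-5198379), (-3296459), 6171985, (-1106964), 552280, (-9587765), (-6143), (-8687134), 2134844, 6287384, 0, 0, 0, 0, 0, 0, 0, 0, 1009939, 1428008, (-1032932), (-110301), 423458, (-46778), (-5713), (-1655), 22755, 30742, 7073, 509, 15307, 9347, 9281, 24061, 4596, 15212, (-12205), 12536, (-6435), 18803, 32281, (-23469), 8415, (-1546), 15562, (-314), (-74), 190, 198, (-75), 21, (-47), 108, (-171), 20, 162, (-61), (-6), (-67), 153, (-99), (-11), (-12), (-38), (-3), (-50), 38, (-134), (-9)]))) (.leaf ([0, 0, 0, 0, 0, 0, 0, 0, 0, 0, 0, 0, 0, 0, 0, 0, 0, 0, 0, 0, 0, 0, 0, 0, 0, 0, 0, 0, 0, 0, 0, 0, 0, 0, 0, 0, 0, 0, 0, 0, 0, 0, 0, 0, 0, 0, 0, 0, 0, 0, 0, 0, 0, 0,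 0, 0, 0, 0, 0, 0, 0, 0, 0, 0, 0, 0, 0, 0, 0, 0, 1]))) (.node (.leaf ([])) (.leaf ([0, 0, 0, 0, 0, 0, 0, 0, 0, 0, 0, 0, 0, 0, 0, 0, 0, 0, 0, 0, 0, 0, 0, 0, 0, 0, 0, 0, 0, 0, 0, 0, 0, 0, 0, 0, 0, 0, 0, 0, 0, 0, 0, 0, 0, 0, 0, 0, 0, 0, 0, 1])))) (.node (.node (.leaf ([])) (.leaf ([55868, 353082, 202949, (-317366), (-373815), (-100309), 242042, 136991, (-237358), 57978, (-2667), 398763, (-44319), 343693, (-79712), (-301462), 0, 0, 0, 0, 0, 0, 0, 0, (-43743), (-64621), 44771, 5113, (-20578), 5361, 278, 95, (-819), (-1202), (-165), (-6), (-560), (-466), (-460), (-1029), (-231), (-671), 527, (-415), 85, (-648), (-1207), 909, (-345), (-26), (-645), 17, (-4), (-6), (-3), 3, 0, 0, (-2), 4, 0, (-4), 2, 0, 2, (-2), 2, 0, 2, 2, 0, 2, (-2), 4]))) (.node (.leaf ([0, 0, 0, 0, 0, 0, 0, 0, 0, 0, 0, 0, 0, 0, 0, 0, 0, 0, 0, 0, 0, 0, 0, 0, 0, 0, 0, 0, 0, 0, 0, 0, 0, 0, 0, 0, 0, 0, 0, 0, 0, 0, 0, 0, 0, 0, 0, 0, 0, 0, 0, 1])) (.leaf ([])))))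

/-- data -/
def val0_00001 : Trie (Vec) := .node (.node (.node (.node (.node (.leaf ([])) (.leaf ([1531380, 12582943, 7797754, (-8897327), (-11066924), (-4154988), 5986091, 3740052, (-7063297), 1198275, (-765120), 10602897, 51579, 9923687, (-2401556), (-7247047), 0, 0, 0, 0, 0, 0, 0, 0, (-1189889), (-1621429), 1193444, 137098, (-483360), 45872, 6520, 8096, (-26632), (-37376), (-8696), (-234), (-17131), (-9508), (-9291), (-28171), (-7913), (-19611), 13835, (-17332), 7511, (-22035), (-38105), 28890, (-8300), 1792, (-17699), 269, 49, (-165), (-143), 57, (-10), 29, (-81), 132, (-3), (-130), 81, 1, 49, (-149), 79, 10, (-2), 32, (-3), 40, (-21), 95, (-1)]))) (.leaf ([]))) (.node (.leaf ([])) (.leaf ([11629, 42124, 24555, (-70359), (-69065), (-7808), 54038, 30872, (-48535), 17712, 7673, 96689, (-20267), 71293, (-17981), (-68300), 0, 0, 0, 0, 0, 0, 0, 0, (-8723), (-15086), 9410, 944, (-5100), 2408, 92, (-191), (-84), (-156), 34, 1, (-109), (-148), (-160), (-132),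 16, (-63), 107, 74, (-13), (-37), (-142), 93, (-120), (-25), (-114), (-3), 0, 1, 1, 0, 0, 0, 0, 0, 1, 0, 0, 1, 0, 1, 0, (-1)])))) (.node (.node (.leaf ([0, 0, 0, 0, 0, 0, 0, 0, 0, 0, 0, 0, 0, 0, 0, 0, 0, 0, 0, 0, 0, 0, 0, 0, 0, 0, 0, 0, 0, 0, 0, 0, 0, 0, 0, 0, 0, 0, 0, 0, 0, 0, 0, 0, 0, 0, 0, 0, 0, 0, 0, 1])) (.leaf ([37264, 191626, 110184, (-215620), (-235464), (-48736), 165191, 93632, (-155825), 45485, 9043, 280974, (-44789), 226736, (-54012), (-207250), 0, 0, 0, 0, 0, 0, 0, 0, (-28018), (-44988), 29583, 3134, (-14848), 5378, 205, (-261), (-420), (-681), (-39), 2, (-371), (-382), (-384), (-502), (-56), (-307), 334, (-42), 35, (-310), (-666), 495, (-309), (-20), (-382), 6, (-2), (-2), (-1), 1, 1, 0, 0, 1, 0, (-1), 1, 0, 1, 0, 0, (-1), 1, 1, 0, 1, (-1), 2]))) (.node (.leaf ([])) (.leaf ([0, 0, 0, 0, 0, 0, 0, 0, 0, 0, 0, 0, 0, 0, 0, 0, 0, 0, 0, 0, 0, 0, 0, 0, 0, 0, 0, 0, 0, 0, 0, 0, 0, 0, 0, 0, 0, 0, 0, 0, 0, 0, 0, 0, 0, 0, 0, 0, 0, 0, 0, 1]))))) (.node (.node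 (.node (.leaf ([])) (.leaf ([0, 0, 0, 0, 0, 0, 0, 0, 0, 0, 0, 0, 0, 0, 0, 0, 0, 0, 0, 0, 0, 0, 0, 0, 0, 0, 0, 0, 0, 0, 0, 0, 0, 0, 0, 0, 0, 0, 0, 0, 0, 0, 0, 0, 0, 0, 0, 0, 0, 0, 0, 1]))) (.node (.leaf ([0, 0, 0, 0, 0, 0, 0, 0, 0, 0, 0, 0, 0, 0, 0, 0, 0, 0, 0, 0, 0, 0, 0, 0, 0, 0, 0, 0, 0, 0, 0, 0, 0, 0, 0, 0, 0, 0, 0, 0, 0, 0, 0, 0, 0, 0, 0, 0, 0, 0, 0, 1])) (.leaf ([(-131564), (-784233), (-444768), 741166, 861386, 213449, (-560889), (-318663), 548194, (-140070), (-857), (-927440), 117202, (-791790), 186260, 699752, 0, 0, 0, 0, 0, 0, 0, 0, 100527, 150799, (-103074), (-11834), 48656, (-14708), (-710), 133, 1698, 2663, 333, (-15), 1233, 1153, 1130, 2092, 479, 1398, (-1141), 663, (-203), 1363, 2590, (-2028), 878, 22, 1316, (-24), 7, 6, 5, (-2), 1, 1, 1, (-1), 0, 2, (-1), 1, (-1), 2, (-2), (-2), (-2), (-2), 1, (-2), 2, (-3), 1])))) (.node (.node (.leaf ([0, 0, 0, 0, 0, 0, 0, 0, 0, 0, 0, 0, 0, 0, 0, 0, 0, 0, 0, 0, 0, 0, 0, 0, 0, 0, 0, 0, 0, 0, 0, 0, 0, 0, 0,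 0, 0, 0, 0, 0, 0, 0, 0, 0, 0, 0, 0, 0, 0, 0, 0, 1])) (.leaf ([1462601, 12660746, 7910630, (-8494502), (-10736061), (-4274304), 5592914, 3551876, (-6832950), 1044808, (-888115), 10003108, 317276, 9552803, (-2313353), (-6730476), 0, 0, 0, 0, 0, 0, 0, 0, (-1130199), (-1516751), 1131898, 128476, (-443510), 20571, 5846, 8774, (-26657), (-36876), (-9594), (-260), (-16638), (-8671), (-8250), (-27153), (-7796), (-18957), 13096, (-17986), 8072, (-22721), (-37987), 28815, (-7759), 2391, (-16861), 381, 52, (-182), (-169), 57, (-19), 30, (-78), 137, (-12), (-119), 73, (-9), 45, (-154), 74, 16, (-17), 30, (-1), 31, (-15), 93, 6]))) (.node (.leaf ([0, 0, 0, 0, 0, 0, 0, 0, 0, 0, 0, 0, 0, 0, 0, 0, 0, 0, 0, 0, 0, 0, 0, 0, 0, 0, 0, 0, 0, 0, 0, 0, 0, 0, 0, 0, 0, 0, 0, 0, 0, 0, 0, 0, 0, 0, 0, 0, 0, 0, 0, 1])) (.leaf ([0, 0, 0, 0, 0, 0, 0, 0, 0, 0, 0, 0, 0, 0, 0, 0, 0, 0, 0, 0, 0, 0, 0, 0, 0, 0, 0, 0, 0, 0, 0, 0, 0, 0, 0, 0, 0, 0, 0, 0, 0, 0, 0, 0, 0, 0, 0, 0, 0, 0, 0, 1])))))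

/-- data -/
def val0_00010 : Trie (Vec) := .node (.node (.node (.node (.node (.leaf ([0, 0, 0, 0, 0, 0, 0, 0, 0, 0, 0, 0, 0, 0, 0, 0, 0, 0, 0, 0, 0, 0, 0, 0, 0, 0, 0, 0, 0, 0, 0, 0, 0, 0, 0, 0, 0, 0, 0, 0, 0, 0, 0, 0, 0, 0, 0, 0, 0, 0, 0, 1])) (.leaf ([0, 0, 0, 0, 0, 0, 0, 0, 0, 0, 0, 0, 0, 0, 0, 0, 0, 0, 0, 0, 0, 0, 0, 0, 0, 0, 0, 0, 0, 0, 0, 0, 0, 0, 0, 0, 0, 0, 0, 0, 0, 0, 0, 0, 0, 0, 0, 0, 0, 0, 0, 1]))) (.leaf ([]))) (.node (.leaf ([])) (.leaf ([0, 0, 0, 0, 0, 0, 0, 0, 0, 0, 0, 0, 0, 0, 0, 0, 0, 0, 0, 0, 0, 0, 0, 0, 0, 0, 0, 0, 0, 0, 0, 0, 0, 0, 0, 0, 0, 0, 0, 0, 0, 0, 0, 0, 0, 0, 0, 0, 0, 0, 0, 1])))) (.node (.node (.leaf ([])) (.leaf ([]))) (.node (.leaf ([])) (.leaf ([0, 0, 0, 0, 0, 0, 0, 0, 0, 0, 0, 0, 0, 0, 0, 0, 0, 0, 0, 0, 0, 0, 0, 0, 0, 0, 0, 0, 0, 0, 0, 0, 0, 0, 0, 0, 0, 0, 0, 0, 0, 0, 0, 0, 0, 0, 0, 0, 0, 0, 0, 1]))))) (.node (.node (.node (.leaf ([])) (.leaf ([0, 0, 0, 0, 0, 0, 0, 0, 0, 0, 0, 0, 0, 0, 0, 0, 0, 0, 0, 0, 0, 0, 0, 0, 0, 0,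 0, 0, 0, 0, 0, 0, 0, 0, 0, 0, 0, 0, 0, 0, 0, 0, 0, 0, 0, 0, 0, 0, 0, 0, 0, 1]))) (.node (.leaf ([0, 0, 0, 0, 0, 0, 0, 0, 0, 0, 0, 0, 0, 0, 0, 0, 0, 0, 0, 0, 0, 0, 0, 0, 0, 0, 0, 0, 0, 0, 0, 0, 0, 0, 0, 0, 0, 0, 0, 0, 0, 0, 0, 0, 0, 0, 0, 0, 0, 0, 0, 1])) (.leaf ([])))) (.node (.node (.leaf ([])) (.leaf ([]))) (.node (.leaf ([(-703696), (-5506237), (-3375816), 4070946, 5004236, 1775996, (-2795676), (-1717731), 3194598, (-586965), 288078, (-4892467), 89807, (-4507411), 1086376, 3404261, 0, 0, 0, 0, 0, 0, 0, 0, 546503, 755478, (-549251), (-63506), 228798, (-30933), (-3110), (-3258), 11691, 16701, 3550, 66, 7673, 4611, 4545, 12643, 3535, 8817, (-6364), 7307, (-3045), 9576, 16909, (-12839), 3912, (-611), 8076, (-114), (-8), 70, 49, (-23), (-1), (-7), 30, (-50), (-4), 54, (-40), (-1), (-22), 61, (-30), (-3), 1, (-13), 1, (-17), 7, (-36), 1])) (.leaf ([0, 0, 0, 0, 0, 0, 0, 0, 0, 0, 0, 0, 0, 0, 0, 0, 0, 0, 0, 0, 0, 0, 0, 0, 0, 0, 0, 0, 0, 0, 0, 0, 0, 0, 0, 0, 0,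 0, 0, 0, 0, 0, 0, 0, 0, 0, 0, 0, 0, 0, 0, 1])))))

/-- data -/
def val0_00011 : Trie (Vec) := .node (.node (.node (.node (.node (.leaf ([0, 0, 0, 0, 0, 0, 0, 0, 0, 0, 0, 0, 0, 0, 0, 0, 0, 0, 0, 0, 0, 0, 0, 0, 0, 0, 0, 0, 0, 0, 0, 0, 0, 0, 0, 0, 0, 0, 0, 0, 0, 0, 0, 0, 0, 0, 0, 0, 0, 0, 0, 1])) (.leaf ([0, 0, 0, 0, 0, 0, 0, 0, 0, 0, 0, 0, 0, 0, 0, 0, 0, 0, 0, 0, 0, 0, 0, 0, 0, 0, 0, 0, 0, 0, 0, 0, 0, 0, 0, 0, 0, 0, 0, 0, 0, 0, 0, 0, 0, 0, 0, 0, 0, 0, 0, 1]))) (.leaf ([330226, 4080782, 2778723, (-2114863), (-2826913), (-1579402), 1122425, 862394, (-1862522), 117583, (-447157), 2401819, 566724, 2521354, (-644843), (-1261255), 0, 0, 0, 0, 0, 0, 0, 0, (-268533), (-313676), 263639, 27946, (-76037), (-38620), 762, 4855, (-8722), (-10528), (-3570), (-282), (-5135), (-705), (-849), (-7947), (-2296), (-5415), 3589, (-7416), 3527, (-7269), (-11670), 7967, (-1304), 1073, (-5396), 36, 70, (-95), (-69), 30, 8, 27, (-53), 91, 4, (-90), 54, 13, 43, (-92), 45, (-11), (-13),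 8, 7, 22, 1, 60, 16]))) (.node (.leaf ([(-84182), (-408996), (-234698), 491964, 527694, 99948, (-381709), (-214804), 352385, (-108370), (-28492), (-653984), 111607, (-515352), 122904, 480491, 0, 0, 0, 0, 0, 0, 0, 0, 63366, 104203, (-67627), (-6948), 34406, (-13137), (-488), 795, 922, 1469, 64, 7, 826, 950, 948, 1157, 41, 644, (-764), (-32), (-46), 713, 1477, (-1072), 751, 60, 871, (-18), 4, 6, 5, (-3), 0, 0, 2, (-4), 0, 4, (-2), 0, (-2), 2, (-2), 0, (-2), (-2), 0, (-2), 2, (-4)])) (.leaf ([0, 0, 0, 0, 0, 0, 0, 0, 0, 0, 0, 0, 0, 0, 0, 0, 0, 0, 0, 0, 0, 0, 0, 0, 0, 0, 0, 0, 0, 0, 0, 0, 0, 0, 0, 0, 0, 0, 0, 0, 0, 0, 0, 0, 0, 0, 0, 0, 0, 0, 0, 1])))) (.node (.node (.leaf ([0, 0, 0, 0, 0, 0, 0, 0, 0, 0, 0, 0, 0, 0, 0, 0, 0, 0, 0, 0, 0, 0, 0, 0, 0, 0, 0, 0, 0, 0, 0, 0, 0, 0, 0, 0, 0, 0, 0, 0, 0, 0, 0, 0, 0, 0, 0, 0, 0, 0, 0, 0, 0, 0, 0, 0, 0, 0, 0, 1])) (.leaf ([14524355, 82115240, 47009083, (-82993625), (-93983968), (-21879283), 62767210, 35792839, (-60862353),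 16444184, 1483459, 105679776, (-14567019), 88035323, (-20929918), (-78450798), 0, 0, 0, 0, 0, 0, 0, 0, (-11013202), (-16993485), 11426912, 1273766, (-5529111), 1816024, 78660, (-53476), (-176949), (-279909), (-27863), 864, (-139557), (-137235), (-135802), (-214502), (-37400), (-138795), 125561, (-47237), 21696, (-138913), (-274309), 211511, (-107627), (-4116), (-145724), 2534, (-514), (-882), (-599), 313, 54, (-52), (-131), 394, 72, (-422), 470, (-48), 221, (-523), 190, 54, 82, 209, (-42), 180, (-160), 427, (-65)]))) (.node (.leaf ([])) (.leaf ([0, 0, 0, 0, 0, 0, 0, 0, 0, 0, 0, 0, 0, 0, 0, 0, 0, 0, 0, 0, 0, 0, 0, 0, 0, 0, 0, 0, 0, 0, 0, 0, 0, 0, 0, 0, 0, 0, 0, 0, 0, 0, 0, 0, 0, 0, 0, 0, 0, 0, 0, 1]))))) (.node (.node (.node (.leaf ([])) (.leaf ([0, 0, 0, 0, 0, 0, 0, 0, 0, 0, 0, 0, 0, 0, 0, 0, 0, 0, 0, 0, 0, 0, 0, 0, 0, 0, 0, 0, 0, 0, 0, 0, 0, 0, 0, 0, 0, 0, 0, 0, 0, 0, 0, 0, 0, 0, 0, 0, 0, 0, 0, 1]))) (.node (.leaf ([0, 0, 0, 0, 0, 0, 0, 0, 0, 0, 0, 0, 0,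 0, 0, 0, 0, 0, 0, 0, 0, 0, 0, 0, 0, 0, 0, 0, 0, 0, 0, 0, 0, 0, 0, 0, 0, 0, 0, 0, 0, 0, 0, 0, 0, 0, 0, 0, 0, 0, 0, 1])) (.leaf ([(-161), (-36560), (-22707), (-2145), 10770, 15602, 6150, 1930, 3051, 5876, 9382, 13478, (-13795), (-1974), 106, (-9452), 0, 0, 0, 0, 0, 0, 0, 0, 407, (-1966), 218, (-132), (-953), 1345, 21, (-207), 71, 92, 55, (-3), 11, (-61), (-64), 57, 70, 70, (-2), 150, (-34), 69, 90, (-75), (-48), (-20), 21, 1, 0, 0, 0, 0, 0, (-1)])))) (.node (.node (.leaf ([])) (.leaf ([]))) (.node (.leaf ([])) (.leaf ([0, 0, 0, 0, 0, 0, 0, 0, 0, 0, 0, 0, 0, 0, 0, 0, 0, 0, 0, 0, 0, 0, 0, 0, 0, 0, 0, 0, 0, 0, 0, 0, 0, 0, 0, 0, 0, 0, 0, 0, 0, 0, 0, 0, 0, 0, 0, 0, 0, 0, 0, 1])))))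

/-- data -/
def val0_00100 : Trie (Vec) := .node (.node (.node (.node (.node (.leaf ([])) (.leaf ([0, 0, 0, 0, 0, 0, 0, 0, 0, 0, 0, 0, 0, 0, 0, 0, 0, 0, 0, 0, 0, 0, 0, 0, 0, 0, 0, 0, 0, 0, 0, 0, 0, 0, 0, 0, 0, 0, 0, 0, 0, 0, 0, 0, 0, 0, 0, 0, 0, 0, 0, 1]))) (.leaf ([]))) (.node (.leaf ([0, 0, 0, 0, 0, 0, 0, 0, 0, 0, 0, 0, 0, 0, 0, 0, 0, 0, 0, 0, 0, 0, 0, 0, 0, 0, 0, 0, 0, 0, 0, 0, 0, 0, 0, 0, 0, 0, 0, 0, 0, 0, 0, 0, 0, 0, 0, 0, 0, 0, 0, 1])) (.leaf ([139886, 912172, 528698, (-787823), (-936700), (-264087), 582936, 336818, (-593316), 136871, (-18295), 969079, (-93033), 851672, (-200047), (-723026), 0, 0, 0, 0, 0, 0, 0, 0, (-107180), (-156178), 108969, 12685, (-49674), 12609, 693, 133, (-1959), (-2994), (-481), 11, (-1374), (-1116), (-1087), (-2279), (-585), (-1569), 1221, (-953), 347, (-1599), (-2948), 2318, (-879), 18, (-1430), 31, (-3), (-10), (-8), 3, 0, 0, (-1), 4, (-1), (-4), 3, (-1), 2, (-6), 1, 1, 0, 2, 0, 1, (-1), 4])))) (.node (.node (.leaf ([]))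 (.leaf ([]))) (.node (.leaf ([])) (.leaf ([]))))) (.node (.node (.node (.node (.leaf ([0, 0, 0, 0, 0, 0, 0, 0, 0, 0, 0, 0, 0, 0, 0, 0, 0, 0, 0, 0, 0, 0, 0, 0, 0, 0, 0, 0, 0, 0, 0, 0, 0, 0, 0, 0, 0, 0, 0, 0, 0, 0, 0, 0, 0, 0, 0, 0, 0, 0, 0, 1])) (.leaf ([127589, 3145287, 2252666, (-942510), (-1577028), (-1367727), 235012, 355336, (-1029388), (-145190), (-518221), 878791, 843388, 1313685, (-347960), (-145040), 0, 0, 0, 0, 0, 0, 0, 0, (-117284), (-70361), 105603, 10040, 5795, (-72401), (-519), 6350, (-6950), (-7217), (-3634), (-323), (-3302), 1390, 1304, (-5816), (-1987), (-3907), 1963, (-7724), 3324, (-6080), (-8644), 5586, 385, 1252, (-3497), 105, 68, (-109), (-80), 37, 1, 31, (-60), 94, (-6), (-92), 39, 10, 46, (-87), 47, (-6), (-7), 13, 10, 22, (-9), 68, 19]))) (.leaf ([]))) (.node (.leaf ([0, 0, 0, 0, 0, 0, 0, 0, 0, 0, 0, 0, 0, 0, 0, 0, 0, 0, 0, 0, 0, 0, 0, 0, 0, 0, 0, 0, 0, 0, 0, 0, 0, 0, 0, 0, 0, 0, 0, 0, 0, 0, 0, 0, 0, 0, 0, 0, 0, 0, 0, 1])) (.leaf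 ([])))) (.node (.node (.leaf ([0, 0, 0, 0, 0, 0, 0, 0, 0, 0, 0, 0, 0, 0, 0, 0, 0, 0, 0, 0, 0, 0, 0, 0, 0, 0, 0, 0, 0, 0, 0, 0, 0, 0, 0, 0, 0, 0, 0, 0, 0, 0, 0, 0, 0, 0, 0, 0, 0, 0, 0, 0, 0, 0, 0, 0, 0, 0, 0, 0, 0, 0, 0, 0, 0, 0, 0, 0, 0, 1])) (.leaf ([0, 0, 0, 0, 0, 0, 0, 0, 0, 0, 0, 0, 0, 0, 0, 0, 0, 0, 0, 0, 0, 0, 0, 0, 0, 0, 0, 0, 0, 0, 0, 0, 0, 0, 0, 0, 0, 0, 0, 0, 0, 0, 0, 0, 0, 0, 0, 0, 0, 0, 0, 1]))) (.node (.leaf ([])) (.leaf ([(-5009007), (-47254149), (-30102203), 29577125, 38059641, 16535160, (-18712858), (-12302820), 24299181, (-3163340), 3870967, (-34377754), (-2630217), (-33739690), 8254778, 22240084, 0, 0, 0, 0, 0, 0, 0, 0, 3940434, 5085792, (-3907900), (-447233), 1439100, 73365, (-18630), (-44259), 100180, 133802, 36997, 1585, 60739, 24082, 23603, 101197, 30427, 70978, (-46697), 74754, (-32704), 83739, 139276, (-103933), 23556, (-9041), 62401, (-815), (-431), 689, 698, (-246), 49, (-192), 402, (-646), 29, 634, (-340), (-41), (-246), 697, (-372),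 (-12), 47, (-106), (-8), (-159), 78, (-461), (-35)])))))

/-- data -/
def val0_001010 : Trie (Vec) := .node (.node (.node (.node (.leaf ([])) (.leaf ([(-1035923), (-1149025), 57055, 5705287, 5280574, (-661992), (-5148380), (-2561741), 3542156, (-1798117), (-1201486), (-8087883), 2911125, (-5440188), 1252224, 6716242, 0, 0, 0, 0, 0, 0, 0, 0, 737480, 1394851, (-811848), (-86917), 507286, (-306400), (-7350), 20965, 2300, 10375, (-4874), (-666), 6937, 15922, 15690, 6968, (-2241), 3100, (-8011), (-12190), 4295, 657, 8148, (-7176), 11420, 2568, 7053, (-361), 235, 10, (-120), 10, (-30), 70, (-95), 94, (-18), (-115), 6, 31, 32, (-92), 91, (-10), (-18), (-9), 2, 10, (-14), 63, 9]))) (.leaf ([2203913, 4443782, 1330321, (-12311379), (-11913894), 453218, 10857322, 5514085, (-7928179), 3598817, 2119994, 17207378, (-5466340), 12078974, (-2779466), (-14052333), 0, 0, 0, 0, 0, 0, 0, 0, (-1614235), (-2938360), 1763179, 186643, (-1045457), 573065, 15351, (-36645), (-10879),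 (-26563), 7430, 720, (-16429), (-31159), (-30998), (-21819), 2673, (-10911), 17996, 17947, (-7465), (-6283), (-23186), 18732, (-22642), (-5086), (-17548), 469, (-304), (-9), 49, 13, 28, (-77), 95, (-113), 16, 87, (-9), (-24), (-13), 110, (-70), 12, 59, 25, (-9), (-4), (-42), (-21), (-28)]))) (.node (.leaf ([0, 0, 0, 0, 0, 0, 0, 0, 0, 0, 0, 0, 0, 0, 0, 0, 0, 0, 0, 0, 0, 0, 0, 0, 0, 0, 0, 0, 0, 0, 0, 0, 0, 0, 0, 0, 0, 0, 0, 0, 0, 0, 0, 0, 0, 0, 0, 0, 0, 0, 0, 1])) (.leaf ([(-9282), (-93521), (-54000), 46677, 69909, 31256, (-31019), (-18818), 39516, (-2396), 10956, (-44525), (-6945), (-54479), 12049, 36862, 0, 0, 0, 0, 0, 0, 0, 0, 7426, 7665, (-6668), (-1034), 2157, 559, (-29), (-271), 196, 291, 85, (-7), 92, (-4), (-10), 204, 133, 188, (-78), 229, (-59), 157, 270, (-233), (-7), (-15), 102, 1, 0, 0, (-1), 0, 0, 0, 0, 1])))) (.node (.node (.leaf ([0, 0, 0, 0, 0, 0, 0, 0, 0, 0, 0, 0, 0, 0, 0, 0, 0, 0, 0, 0, 0, 0, 0, 0, 0, 0, 0, 0, 0, 0, 0, 0, 0, 0, 0, 0, 0, 0,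 0, 0, 0, 0, 0, 0, 0, 0, 0, 0, 0, 0, 0, 1])) (.leaf ([]))) (.node (.leaf ([])) (.leaf ([33571, 235359, 134684, (-183592), (-227590), (-69777), 135087, 77866, (-140412), 28495, (-10252), 216503, (-15746), 200629, (-46295), (-166793), 0, 0, 0, 0, 0, 0, 0, 0, (-25877), (-35717), 25737, 3185, (-11266), 2234, 167, 218, (-501), (-774), (-144), 7, (-322), (-219), (-211), (-561), (-212), (-435), 286, (-324), 91, (-397), (-739), 600, (-166), 7, (-344), (-2), 0, 1, 1, 0, 0, 0, 0, (-1), 0, 0, 0, 0, 0, 0, 1, 0, 0, 0, 0, 0, (-1), 0, (-1)]))))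

/-- data -/
def val0_001011 : Trie (Vec) := .node (.node (.node (.leaf ([0, 0, 0, 0, 0, 0, 0, 0, 0, 0, 0, 0, 0, 0, 0, 0, 0, 0, 0, 0, 0, 0, 0, 0, 0, 0, 0, 0, 0, 0, 0, 0, 0, 0, 0, 0, 0, 0, 0, 0, 0, 0, 0, 0, 0, 0, 0, 0, 0, 0, 0, 1])) (.leaf ([]))) (.node (.leaf ([])) (.leaf ([109, 45544, 29943, 323, (-14247), (-19804), (-7904), (-1479), (-5669), (-6485), (-11253), (-11839), 17984, 4661, (-1526), 12377, 0, 0, 0, 0, 0, 0, 0, 0, (-647), 2355, (-188), 170, 1251, (-1666), (-17), 242, (-91), (-98), (-60), 3, (-7), 76, 76, (-103), (-84), (-93), 4, (-183), 45, (-77), (-97), 82, 63, 24, (-17), 3, (-1), (-1), 0, 0, 0, 0, (-1), 0, 0, 0, 0, 0, 0, 0, 1, 1, 0, 0, 0, 1])))) (.node (.node (.leaf ([0, 0, 0, 0, 0, 0, 0, 0, 0, 0, 0, 0, 0, 0, 0, 0, 0, 0, 0, 0, 0, 0, 0, 0, 0, 0, 0, 0, 0, 0, 0, 0, 0, 0, 0, 0, 0, 0, 0, 0, 0, 0, 0, 0, 0, 0, 0, 0, 0, 0, 0, 1])) (.leaf ([916858, 5198402, 2980112, (-5239555), (-5935230), (-1389436), 3958862, 2259303, (-3844560), 1035236, 89873, 6671366,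 (-912724), 5560084, (-1322025), (-4946945), 0, 0, 0, 0, 0, 0, 0, 0, (-695209), (-1071829), 721098, 80396, (-348402), 114040, 4989, (-3418), (-11191), (-17692), (-1798), 55, (-8816), (-8669), (-8567), (-13540), (-2349), (-8750), 7932, (-2981), 1409, (-8799), (-17335), 13366, (-6797), (-233), (-9176), 170, (-35), (-58), (-35), 20, 2, (-4), (-9), 24, 4, (-25), 28, (-4), 13, (-32), 13, 5, 5, 14, (-3), 12, (-10), 27, (-4)]))) (.node (.leaf ([0, 0, 0, 0, 0, 0, 0, 0, 0, 0, 0, 0, 0, 0, 0, 0, 0, 0, 0, 0, 0, 0, 0, 0, 0, 0, 0, 0, 0, 0, 0, 0, 0, 0, 0, 0, 0, 0, 0, 0, 0, 0, 0, 0, 0, 0, 0, 0, 0, 0, 0, 1])) (.leaf ([0, 0, 0, 0, 0, 0, 0, 0, 0, 0, 0, 0, 0, 0, 0, 0, 0, 0, 0, 0, 0, 0, 0, 0, 0, 0, 0, 0, 0, 0, 0, 0, 0, 0, 0, 0, 0, 0, 0, 0, 0, 0, 0, 0, 0, 0, 0, 0, 0, 0, 0, 1]))))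

/-- data -/
def val0_00110 : Trie (Vec) := .node (.node (.node (.node (.node (.leaf ([0, 0, 0, 0, 0, 0, 0, 0, 0, 0, 0, 0, 0, 0, 0, 0, 0, 0, 0, 0, 0, 0, 0, 0, 0, 0, 0, 0, 0, 0, 0, 0, 0, 0, 0, 0, 0, 0, 0, 0, 0, 0, 0, 0, 0, 0, 0, 0, 0, 0, 0, 1])) (.leaf ([0, 0, 0, 0, 0, 0, 0, 0, 0, 0, 0, 0, 0, 0, 0, 0, 0, 0, 0, 0, 0, 0, 0, 0, 0, 0, 0, 0, 0, 0, 0, 0, 0, 0, 0, 0, 0, 0, 0, 0, 0, 0, 0, 0, 0, 0, 0, 0, 0, 0, 0, 1]))) (.leaf ([0, 0, 0, 0, 0, 0, 0, 0, 0, 0, 0, 0, 0, 0, 0, 0, 0, 0, 0, 0, 0, 0, 0, 0, 0, 0, 0, 0, 0, 0, 0, 0, 0, 0, 0, 0, 0, 0, 0, 0, 0, 0, 0, 0, 0, 0, 0, 0, 0, 0, 0, 1]))) (.node (.leaf ([52687, 100576, 35040, (-302290), (-284059), 9365, 268498, 136855, (-195226), 88716, 55105, 437731, (-134374), 299923, (-68424), (-347518), 0, 0, 0, 0, 0, 0, 0, 0, (-38832), (-72939), 43339, 4254, (-25570), 13863, 367, (-1159), (-283), (-608), 149, (-6), (-429), (-824), (-804), (-553), 187, (-193), 458, 534, (-157), (-218), (-589), 446, (-615), (-116), (-437), 23, (-7),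 (-4), (-4), 2, 0, (-1), 0, 0, (-2), 0, (-2), (-1), 1, 1, 1, 2, 2, 2, 0, 1, (-4), 3, (-1)])) (.leaf ([0, 0, 0, 0, 0, 0, 0, 0, 0, 0, 0, 0, 0, 0, 0, 0, 0, 0, 0, 0, 0, 0, 0, 0, 0, 0, 0, 0, 0, 0, 0, 0, 0, 0, 0, 0, 0, 0, 0, 0, 0, 0, 0, 0, 0, 0, 0, 0, 0, 0, 0, 1])))) (.node (.node (.leaf ([])) (.leaf ([0, 0, 0, 0, 0, 0, 0, 0, 0, 0, 0, 0, 0, 0, 0, 0, 0, 0, 0, 0, 0, 0, 0, 0, 0, 0, 0, 0, 0, 0, 0, 0, 0, 0, 0, 0, 0, 0, 0, 0, 0, 0, 0, 0, 0, 0, 0, 0, 0, 0, 0, 1]))) (.node (.leaf ([])) (.leaf ([0, 0, 0, 0, 0, 0, 0, 0, 0, 0, 0, 0, 0, 0, 0, 0, 0, 0, 0, 0, 0, 0, 0, 0, 0, 0, 0, 0, 0, 0, 0, 0, 0, 0, 0, 0, 0, 0, 0, 0, 0, 0, 0, 0, 0, 0, 0, 0, 0, 0, 0, 1]))))) (.node (.node (.node (.leaf ([])) (.leaf ([(-160668), 8031082, 6122404, 343110, (-1666146), (-4029297), (-2042437), (-358903), (-984536), (-1323916), (-2052256), (-1900467), 3776442, 750188, (-311034), 3102447, 0, 0, 0, 0, 0, 0, 0, 0, 48970, 536710, (-133352), (-10839), 277190, (-348164), (-4752), 29226, (-16475), (-14249),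 (-12195), (-943), (-4818), 12286, 11982, (-10539), (-7425), (-9118), 627, (-26623), 11756, (-15172), (-18137), 11701, 7243, 4844, (-4887), (-115), 286, (-194), (-197), 62, (-4), 94, (-164), 255, (-2), (-241), 115, 39, 93, (-251), 136, (-23), (-44), 11, 12, 48, 9, 148, 39]))) (.node (.leaf ([])) (.leaf ([0, 0, 0, 0, 0, 0, 0, 0, 0, 0, 0, 0, 0, 0, 0, 0, 0, 0, 0, 0, 0, 0, 0, 0, 0, 0, 0, 0, 0, 0, 0, 0, 0, 0, 0, 0, 0, 0, 0, 0, 0, 0, 0, 0, 0, 0, 0, 0, 0, 0, 0, 1])))) (.node (.node (.leaf ([])) (.leaf ([1776452, 2940263, 571916, (-9842036), (-9391915), 683634, 8807280, 4417678, (-6241902), 2969073, 1840305, 13809172, (-4656488), 9557435, (-2189051), (-11436747), 0, 0, 0, 0, 0, 0, 0, 0, (-1294431), (-2379388), 1414809, 151543, (-854766), 484918, 12563, (-30278), (-7234), (-20299), 6983, 788, (-12631), (-25545), (-25412), (-16185), 2186, (-8199), 14258, 16045, (-6876), (-3536), (-17003), 14132, (-18370), (-4465), (-13642), 355, (-282), 19, 86, (-4), 35, (-78), 106,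 (-129), 26, 108, (-8), (-20), (-22), 121, (-85), 3, 43, 14, (-7), (-11), (-19), (-46), (-23)]))) (.node (.leaf ([0, 0, 0, 0, 0, 0, 0, 0, 0, 0, 0, 0, 0, 0, 0, 0, 0, 0, 0, 0, 0, 0, 0, 0, 0, 0, 0, 0, 0, 0, 0, 0, 0, 0, 0, 0, 0, 0, 0, 0, 0, 0, 0, 0, 0, 0, 0, 0, 0, 0, 0, 1])) (.leaf ([2469482, 16192698, 9684779, (-14299366), (-16664708), (-4796405), 10338349, 6113058, (-10798803), 2524407, (-245417), 17861142, (-1571169), 15441906, (-3714685), (-12780657), 0, 0, 0, 0, 0, 0, 0, 0, (-1893427), (-2804335), 1942577, 218023, (-887031), 227342, 12299, (-1566), (-34617), (-51885), (-7590), (-50), (-25517), (-20496), (-20470), (-39435), (-8362), (-26222), 21978, (-14854), 6816, (-27427), (-51870), 39227, (-16761), 433, (-26807), 344, (-23), (-207), (-115), 64, 27, 8, (-59), 129, 28, (-139), 137, 12, 70, (-159), 64, (-7), (-7), 33, 0, 44, (-16), 108, 3])))))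

/-- data -/
def val0_00111 : Trie (Vec) := .node (.node (.node (.node (.node (.leaf ([0, 0, 0, 0, 0, 0, 0, 0, 0, 0, 0, 0, 0, 0, 0, 0, 0, 0, 0, 0, 0, 0, 0, 0, 0, 0, 0, 0, 0, 0, 0, 0, 0, 0, 0, 0, 0, 0, 0, 0, 0, 0, 0, 0, 0, 0, 0, 0, 0, 0, 0, 1])) (.leaf ([4448042, 28938747, 17132414, (-25546509), (-29896751), (-8486737), 18630395, 10927330, (-19252482), 4515362, (-437328), 31835046, (-2936271), 27576833, (-6587382), (-23062397), 0, 0, 0, 0, 0, 0, 0, 0, (-3399315), (-5042580), 3489875, 391799, (-1598246), 415061, 22376, (-3447), (-62112), (-93339), (-14195), (-117), (-45115), (-37344), (-36846), (-71250), (-15153), (-47287), 39114, (-26400), 11583, (-49956), (-93106), 71255, (-30134), 830, (-46858), 787, (-30), (-346), (-282), 122, (-2), 28, (-108), 221, 4, (-222), 172, (-11), 97, (-267), 115, 20, 7, 71, (-6), 71, (-51), 187, (-7)]))) (.leaf ([]))) (.node (.leaf ([0, 0, 0, 0, 0, 0, 0, 0, 0, 0, 0, 0, 0, 0, 0, 0, 0, 0, 0, 0, 0, 0, 0, 0, 0, 0, 0, 0, 0, 0, 0, 0,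 0, 0, 0, 0, 0, 0, 0, 0, 0, 0, 0, 0, 0, 0, 0, 0, 0, 0, 0, 1])) (.leaf ([0, 0, 0, 0, 0, 0, 0, 0, 0, 0, 0, 0, 0, 0, 0, 0, 0, 0, 0, 0, 0, 0, 0, 0, 0, 0, 0, 0, 0, 0, 0, 0, 0, 0, 0, 0, 0, 0, 0, 0, 0, 0, 0, 0, 0, 0, 0, 0, 0, 0, 0, 1])))) (.node (.node (.leaf ([])) (.leaf ([0, 0, 0, 0, 0, 0, 0, 0, 0, 0, 0, 0, 0, 0, 0, 0, 0, 0, 0, 0, 0, 0, 0, 0, 0, 0, 0, 0, 0, 0, 0, 0, 0, 0, 0, 0, 0, 0, 0, 0, 0, 0, 0, 0, 0, 0, 0, 0, 0, 0, 0, 1]))) (.node (.leaf ([0, 0, 0, 0, 0, 0, 0, 0, 0, 0, 0, 0, 0, 0, 0, 0, 0, 0, 0, 0, 0, 0, 0, 0, 0, 0, 0, 0, 0, 0, 0, 0, 0, 0, 0, 0, 0, 0, 0, 0, 0, 0, 0, 0, 0, 0, 0, 0, 0, 0, 0, 1])) (.leaf ([0, 0, 0, 0, 0, 0, 0, 0, 0, 0, 0, 0, 0, 0, 0, 0, 0, 0, 0, 0, 0, 0, 0, 0, 0, 0, 0, 0, 0, 0, 0, 0, 0, 0, 0, 0, 0, 0, 0, 0, 0, 0, 0, 0, 0, 0, 0, 0, 0, 0, 0, 1]))))) (.node (.node (.node (.leaf ([])) (.leaf ([0, 0, 0, 0, 0, 0, 0, 0, 0, 0, 0, 0, 0, 0, 0, 0, 0, 0, 0, 0, 0, 0, 0, 0, 0, 0, 0, 0, 0, 0, 0, 0, 0, 0, 0, 0, 0, 0, 0, 0, 0, 0, 0, 0, 0, 0, 0, 0, 0, 0, 0, 1])))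 (.node (.leaf ([])) (.leaf ([])))) (.node (.node (.leaf ([61822, 307747, 177318, (-362447), (-391034), (-76521), 280634, 158271, (-260642), 79180, 19862, 482439, (-79630), 380837, (-90895), (-352961), 0, 0, 0, 0, 0, 0, 0, 0, (-46693), (-76652), 49848, 5119, (-25190), 9454, 343, (-586), (-701), (-1088), (-61), (-7), (-609), (-697), (-689), (-892), (-23), (-484), 559, (-1), 44, (-550), (-1104), 807, (-546), (-29), (-631), 25, (-4), (-8), (-6), 3, 0, 0, (-2), 4, (-1), (-4), 1, (-1), 2, (-3), 2, 1, 2, 2, 0, 2, (-2), 4])) (.leaf ([0, 0, 0, 0, 0, 0, 0, 0, 0, 0, 0, 0, 0, 0, 0, 0, 0, 0, 0, 0, 0, 0, 0, 0, 0, 0, 0, 0, 0, 0, 0, 0, 0, 0, 0, 0, 0, 0, 0, 0, 0, 0, 0, 0, 0, 0, 0, 0, 0, 0, 0, 1]))) (.node (.leaf ([])) (.leaf ([224061, 2999513, 1969776, (-1334182), (-1959166), (-1147865), 677808, 530615, (-1215516), 13995, (-389369), 1350656, 477523, 1625353, (-406149), (-743154), 0, 0, 0, 0, 0, 0, 0, 0, (-184828), (-182279), 170129, 22082, (-40487), (-36624), 470, 6052,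 (-6185), (-7855), (-2836), (-73), (-3157), 318, 288, (-5785), (-2658), (-4580), 2210, (-6487), 2570, (-5178), (-8204), 6130, (-114), 816, (-3362), (-10), 35, (-33), (-25), 11, 0, 12, (-26), 36, 5, (-38), 26, 7, 15, (-40), 26, (-4), (-6), 4, 1, 10, 0, 24])))))

/-- data -/
def val0_01000 : Trie (Vec) := .node (.node (.node (.node (.node (.leaf ([0, 0, 0, 0, 0, 0, 0, 0, 0, 0, 0, 0, 0, 0, 0, 0, 0, 0, 0, 0, 0, 0, 0, 0, 0, 0, 0, 0, 0, 0, 0, 0, 0, 0, 0, 0, 0, 0, 0, 0, 0, 0, 0, 0, 0, 0, 0, 0, 0, 0, 0, 1])) (.leaf ([(-1680592), (-8591659), (-5109675), 9946526, 10659598, 2220768, (-7417599), (-4306633), 7196751, (-2130575), (-478332), (-13126117), 1993612, (-10411120), 2550442, 9291248, 0, 0, 0, 0, 0, 0, 0, 0, 1252516, 2041593, (-1329634), (-138839), 669928, (-253235), (-9294), 16971, 17727, 28881, 1354, 8, 16911, 18543, 18572, 20520, 268, 11735, (-14602), (-1395), (-2964), 13703, 28912, (-21388), 15252, 409, 16663, (-375), 65, 186, 35, (-33), (-51), 18, (-6), (-95),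 (-31), 52, (-123), 7, (-43), 119, 15, 11, 36, (-7), (-3), (-15), (-35), (-49), (-22)]))) (.leaf ([0, 0, 0, 0, 0, 0, 0, 0, 0, 0, 0, 0, 0, 0, 0, 0, 0, 0, 0, 0, 0, 0, 0, 0, 0, 0, 0, 0, 0, 0, 0, 0, 0, 0, 0, 0, 0, 0, 0, 0, 0, 0, 0, 0, 0, 0, 0, 0, 0, 0, 0, 1]))) (.node (.leaf ([0, 0, 0, 0, 0, 0, 0, 0, 0, 0, 0, 0, 0, 0, 0, 0, 0, 0, 0, 0, 0, 0, 0, 0, 0, 0, 0, 0, 0, 0, 0, 0, 0, 0, 0, 0, 0, 0, 0, 0, 0, 0, 0, 0, 0, 0, 0, 0, 0, 0, 0, 0, 0, 0, 0, 0, 0, 0, 0, 0, 0, 0, 0, 0, 0, 0, 0, 0, 0, 0, 0, 0, 1])) (.leaf ([360573, 2081660, 1266561, (-2142358), (-2359084), (-588806), 1560984, 923303, (-1582239), 424768, 47437, 2790154, (-334275), 2275529, (-557733), (-1941583), 0, 0, 0, 0, 0, 0, 0, 0, (-270774), (-429686), 285737, 29803, (-138087), 45356, 1918, (-2962), (-4350), (-6652), (-687), (-58), (-3770), (-3734), (-3717), (-4860), (-227), (-2823), 3164, (-398), 953, (-3465), (-6772), 5025, (-3117), 38, (-3671), 69, 0, (-40), (-22), 10, 6, 1, (-7), 29, 2, (-21), 26, (-2), 9,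 (-35), 4, 1, (-6), 3, 0, 5, 3, 16, 4])))) (.node (.node (.leaf ([0, 0, 0, 0, 0, 0, 0, 0, 0, 0, 0, 0, 0, 0, 0, 0, 0, 0, 0, 0, 0, 0, 0, 0, 0, 0, 0, 0, 0, 0, 0, 0, 0, 0, 0, 0, 0, 0, 0, 0, 0, 0, 0, 0, 0, 0, 0, 0, 0, 0, 0, 1])) (.leaf ([0, 0, 0, 0, 0, 0, 0, 0, 0, 0, 0, 0, 0, 0, 0, 0, 0, 0, 0, 0, 0, 0, 0, 0, 0, 0, 0, 0, 0, 0, 0, 0, 0, 0, 0, 0, 0, 0, 0, 0, 0, 0, 0, 0, 0, 0, 0, 0, 0, 0, 0, 0, 0, 0, 0, 0, 0, 0, 0, 0, 0, 0, 0, 0, 0, 0, 0, 1]))) (.node (.leaf ([0, 0, 0, 0, 0, 0, 0, 0, 0, 0, 0, 0, 0, 0, 0, 0, 0, 0, 0, 0, 0, 0, 0, 0, 0, 0, 0, 0, 0, 0, 0, 0, 0, 0, 0, 0, 0, 0, 0, 0, 0, 0, 0, 0, 0, 0, 0, 0, 0, 0, 0, 1])) (.leaf ([]))))) (.node (.node (.node (.node (.leaf ([])) (.leaf ([0, 0, 0, 0, 0, 0, 0, 0, 0, 0, 0, 0, 0, 0, 0, 0, 0, 0, 0, 0, 0, 0, 0, 0, 0, 0, 0, 0, 0, 0, 0, 0, 0, 0, 0, 0, 0, 0, 0, 0, 0, 0, 0, 0, 0, 0, 0, 0, 0, 0, 0, 0, 0, 0, 1]))) (.leaf ([0, 0, 0, 0, 0, 0, 0, 0, 0, 0, 0, 0, 0, 0, 0, 0, 0, 0, 0, 0, 0, 0, 0, 0, 0, 0, 0, 0, 0, 0, 0, 0, 0, 0, 0, 0, 0, 0,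 0, 0, 0, 0, 0, 0, 0, 0, 0, 0, 0, 0, 0, 1]))) (.node (.leaf ([])) (.leaf ([])))) (.node (.node (.leaf ([(-9135), (-106896), (-62900), 45518, 73386, 37341, (-28167), (-18053), 40312, (-286), 14340, (-40385), (-12700), (-54936), 12172, 32652, 0, 0, 0, 0, 0, 0, 0, 0, 7257, 7024, (-6495), (-975), 1760, 1032, (-25), (-263), 215, 308, 111, (-2), 91, (-5), (-11), 221, 134, 193, (-77), 247, (-64), 198, 299, (-253), (-6), (-27), 99, 1, 0, 0, (-1), 0, 0, 0, 0, 0, 0, 0, 0, 0, 0, 0, 0, 0, 0, 0, 0, 0, 1])) (.leaf ([131564, 784233, 444768, (-741166), (-861386), (-213449), 560889, 318663, (-548194), 140070, 857, 927440, (-117202), 791790, (-186260), (-699752), 0, 0, 0, 0, 0, 0, 0, 0, (-100527), (-150799), 103074, 11834, (-48656), 14708, 710, (-133), (-1698), (-2663), (-333), 15, (-1233), (-1153), (-1130), (-2092), (-479), (-1398), 1141, (-663), 203, (-1363), (-2590), 2028, (-878), (-22), (-1316), 25, (-7), (-6), (-5), 2, (-1), (-1), (-1), 1, 0, (-2), 1, (-1), 1, (-2), 2,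 2, 2, 2, (-1), 2, (-2), 3, (-1)]))) (.node (.leaf ([])) (.leaf ([])))))

/-- data -/
def val0_01001 : Trie (Vec) := .node (.node (.node (.node (.node (.leaf ([0, 0, 0, 0, 0, 0, 0, 0, 0, 0, 0, 0, 0, 0, 0, 0, 0, 0, 0, 0, 0, 0, 0, 0, 0, 0, 0, 0, 0, 0, 0, 0, 0, 0, 0, 0, 0, 0, 0, 0, 0, 0, 0, 0, 0, 0, 0, 0, 0, 0, 0, 1])) (.leaf ([0, 0, 0, 0, 0, 0, 0, 0, 0, 0, 0, 0, 0, 0, 0, 0, 0, 0, 0, 0, 0, 0, 0, 0, 0, 0, 0, 0, 0, 0, 0, 0, 0, 0, 0, 0, 0, 0, 0, 0, 0, 0, 0, 0, 0, 0, 0, 0, 0, 0, 0, 1]))) (.leaf ([0, 0, 0, 0, 0, 0, 0, 0, 0, 0, 0, 0, 0, 0, 0, 0, 0, 0, 0, 0, 0, 0, 0, 0, 0, 0, 0, 0, 0, 0, 0, 0, 0, 0, 0, 0, 0, 0, 0, 0, 0, 0, 0, 0, 0, 0, 0, 0, 0, 0, 0, 1]))) (.node (.leaf ([])) (.leaf ([(-11599), (-56647), (-32644), 67672, 72547, 13891, (-51520), (-29407), 48407, (-14764), (-3486), (-88245), 14863, (-70573), 17181, 64591, 0, 0, 0, 0, 0, 0, 0, 0, 8905, 14091, (-9275), (-1019), 4659, (-1778), (-82), 73, 119, 199, (-8), (-1), 111, 116, 125, 164, 23, 103, (-108), 4, (-1),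 71, 184, (-132), 93, 21, 125, 4, 0, (-1), (-1), 0, 0, 0, 0, 0, (-1), 0, 0, (-1), 0, (-1), 0, 1])))) (.node (.node (.leaf ([])) (.leaf ([0, 0, 0, 0, 0, 0, 0, 0, 0, 0, 0, 0, 0, 0, 0, 0, 0, 0, 0, 0, 0, 0, 0, 0, 0, 0, 0, 0, 0, 0, 0, 0, 0, 0, 0, 0, 0, 0, 0, 0, 0, 0, 0, 0, 0, 0, 0, 0, 0, 0, 0, 1]))) (.node (.leaf ([])) (.leaf ([(-942998), (-4648129), (-2505960), 5297070, 5885870, 1079099, (-4164477), (-2299156), 3786965, (-1141206), (-238959), (-6809966), 1224899, (-5532133), 1297754, 5250323, 0, 0, 0, 0, 0, 0, 0, 0, 711148, 1122336, (-740106), (-83863), 373784, (-141979), (-5460), 4579, 10045, 17029, 853, (-191), 8379, 9492, 9381, 13091, 2292, 8569, (-7956), 1442, (-334), 7674, 16168, (-12780), 7154, 702, 8922, (-144), 66, 25, 8, (-11), (-4), 15, (-9), 7, (-9), 0, (-16), 5, (-1), 0, (-1), (-5), (-12), (-13), 5, (-7), 11, (-8), 12]))))) (.node (.node (.node (.leaf ([])) (.leaf ([]))) (.node (.leaf ([])) (.leaf ([57775, 12209, (-76928), (-273103), (-271700), 74900,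 287169, 124309, (-154155), 94826, 66740, 360612, (-187518), 249618, (-48959), (-380539), 0, 0, 0, 0, 0, 0, 0, 0, (-43372), (-73820), 44239, 6246, (-28283), 17806, 526, (-243), (-50), (-667), 351, 91, (-179), (-697), (-703), (-572), (-292), (-527), 419, 347, (-485), 125, (-327), 429, (-378), (-276), (-347), (-18), (-19), 21, 17, (-4), 0, (-6), 9, (-19), 4, 14, (-8), 0, (-7), 20, (-4), 0, 5, 0, (-2), (-1), (-1), (-10), (-6)])))) (.node (.node (.leaf ([9621095, 45823193, 24819808, (-54503131), (-59690459), (-10409579), 42870697, 23707397, (-38785530), 12011780, 2942638, 70809266, (-13108842), 56735717, (-13384644), (-54096568), 0, 0, 0, 0, 0, 0, 0, 0, (-7232085), (-11597970), 7581386, 841547, (-3872801), 1518980, 56127, (-62872), (-99422), (-168470), (-5938), 1444, (-86495), (-100892), (-100035), (-129880), (-17294), (-81880), 81258, (-5254), 2835, (-75353), (-161033), 126128, (-77123), (-7657), (-90520), 1558, (-539), (-358), (-206), 135, 37, (-107), 68, 15,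 62, (-58), 212, (-45), 65, (-106), 6, 36, 81, 113, (-33), 64, (-108), 146, (-84)])) (.leaf ([0, 0, 0, 0, 0, 0, 0, 0, 0, 0, 0, 0, 0, 0, 0, 0, 0, 0, 0, 0, 0, 0, 0, 0, 0, 0, 0, 0, 0, 0, 0, 0, 0, 0, 0, 0, 0, 0, 0, 0, 0, 0, 0, 0, 0, 0, 0, 0, 0, 0, 0, 1]))) (.node (.leaf ([(-278001), (-1159759), (-610089), 1582285, 1678048, 228072, (-1267468), (-692488), 1104625, (-373074), (-126775), (-2097383), 443220, (-1627013), 384723, 1607449, 0, 0, 0, 0, 0, 0, 0, 0, 207481, 344149, (-220205), (-23808), 116422, (-50135), (-1749), 2608, 2540, 4501, (-85), (-39), 2436, 3185, 3183, 3469, 242, 2087, (-2347), (-487), 135, 1854, 4270, (-3288), 2424, 313, 2578, (-34), 17, 6, 0, (-3), 0, 4, (-2), 4, (-3), 0, (-5), 1, (-2), (-1), (-2), (-1), (-3), (-3), 1, (-2), 3, (-2), 4])) (.leaf ([])))))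

/-- data -/
def val0_01010 : Trie (Vec) := .node (.node (.node (.node (.node (.leaf ([])) (.leaf ([0, 0, 0, 0, 0, 0, 0, 0, 0, 0, 0, 0, 0, 0, 0, 0, 0, 0, 0, 0, 0, 0, 0, 0, 0, 0, 0, 0, 0, 0, 0, 0, 0, 0, 0, 0, 0, 0, 0, 0, 0, 0, 0, 0, 0, 0, 0, 0, 0, 0, 0, 0, 0, 0, 0, 1]))) (.leaf ([]))) (.node (.leaf ([0, 0, 0, 0, 0, 0, 0, 0, 0, 0, 0, 0, 0, 0, 0, 0, 0, 0, 0, 0, 0, 0, 0, 0, 0, 0, 0, 0, 0, 0, 0, 0, 0, 0, 0, 0, 0, 0, 0, 0, 0, 0, 0, 0, 0, 0, 0, 0, 0, 0, 0, 1])) (.leaf ([])))) (.node (.node (.leaf ([0, 0, 0, 0, 0, 0, 0, 0, 0, 0, 0, 0, 0, 0, 0, 0, 0, 0, 0, 0, 0, 0, 0, 0, 0, 0, 0, 0, 0, 0, 0, 0, 0, 0, 0, 0, 0, 0, 0, 0, 0, 0, 0, 0, 0, 0, 0, 0, 0, 0, 0, 1])) (.leaf ([85629, 7358988, 5324126, (-828339), (-2593307), (-3390873), (-736251), 185948, (-1555756), (-818676), (-1589983), (-180187), 2706607, 1722723, (-502719), 1339949, 0, 0, 0, 0, 0, 0, 0, 0, (-116271), 192550, 49710, 11938, 139905, (-243172), (-2492), 23194, (-14851), (-15153), (-9910), (-556), (-5327), 7873,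 7764, (-10449), (-6904), (-9225), 1915, (-21481), 9446, (-13366), (-17566), 12314, 4439, 3744, (-5338), (-92), 199, (-126), (-120), 38, (-6), 61, (-110), 167, 3, (-157), 89, 24, 56, (-180), 98, (-13), (-41), 5, 7, 31, 12, 90, 18]))) (.node (.leaf ([0, 0, 0, 0, 0, 0, 0, 0, 0, 0, 0, 0, 0, 0, 0, 0, 0, 0, 0, 0, 0, 0, 0, 0, 0, 0, 0, 0, 0, 0, 0, 0, 0, 0, 0, 0, 0, 0, 0, 0, 0, 0, 0, 0, 0, 0, 0, 0, 0, 0, 0, 1])) (.leaf ([2895487, 17902078, 10480744, (-16611041), (-19195881), (-5084259), 12289848, 7129082, (-12391153), 3074539, (-58071), 20890313, (-2292858), 17816249, (-4248111), (-15271449), 0, 0, 0, 0, 0, 0, 0, 0, (-2208288), (-3327161), 2276933, 254571, (-1064978), 305182, 14982, (-5342), (-38586), (-58958), (-7847), 11, (-28816), (-25516), (-25205), (-45282), (-8949), (-29689), 25379, (-14374), 6246, (-30836), (-58525), 44774, (-20306), 33, (-30151), 556, (-70), (-222), (-158), 75, 6, 2, (-55), 121, 10, (-124), 109, (-9), 59, (-147), 61, 14, 12, 48, (-8), 46,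 (-33), 110, (-5)]))))) (.node (.node (.node (.leaf ([0, 0, 0, 0, 0, 0, 0, 0, 0, 0, 0, 0, 0, 0, 0, 0, 0, 0, 0, 0, 0, 0, 0, 0, 0, 0, 0, 0, 0, 0, 0, 0, 0, 0, 0, 0, 0, 0, 0, 0, 0, 0, 0, 0, 0, 0, 0, 0, 0, 0, 0, 1])) (.leaf ([690, 8466, 5255, (-3732), (-5670), (-3147), 2474, 1535, (-3383), 6, (-1069), 3727, 987, 4689, (-953), (-2890), 0, 0, 0, 0, 0, 0, 0, 0, (-649), (-554), 551, 104, (-147), (-122), 0, 30, (-20), (-30), (-11), 0, (-11), 4, 6, (-16), (-13), (-16), 10, (-26), 12, (-16), (-28), 24, 3, 1, (-10), 1, 0, 0, 0, 0, 0, 0, 0, 0, 0, 0, 0, (-1)]))) (.node (.leaf ([129497, 808189, 464359, (-729531), (-856888), (-227720), 545459, 312718, (-544668), 132120, (-7810), 905659, (-100628), 783986, (-184111), (-678594), 0, 0, 0, 0, 0, 0, 0, 0, (-98678), (-146435), 100963, 11627, (-46975), 13108, 653, (-63), (-1738), (-2690), (-398), 10, (-1257), (-1097), (-1065), (-2041), (-474), (-1384), 1116, (-742), 289, (-1419), (-2645), 2084, (-858), 3, (-1302), 30, (-3), (-10),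 (-7), 3, 0, 0, (-1), 4, (-1), (-4), 3, (-1), 2, (-6), 1, 1, 0, 2, 0, 1, (-1), 4])) (.leaf ([])))) (.node (.node (.leaf ([0, 0, 0, 0, 0, 0, 0, 0, 0, 0, 0, 0, 0, 0, 0, 0, 0, 0, 0, 0, 0, 0, 0, 0, 0, 0, 0, 0, 0, 0, 0, 0, 0, 0, 0, 0, 0, 0, 0, 0, 0, 0, 0, 0, 0, 0, 0, 0, 0, 0, 0, 1])) (.leaf ([43180664, 223098621, 124352015, (-245753908), (-273189243), (-55060758), 189874324, 106492889, (-177324631), 51692873, 9262211, 316510220, (-51813582), 258051295, (-61116549), (-238566397), 0, 0, 0, 0, 0, 0, 0, 0, (-32601531), (-51393461), 34022186, 3780993, (-16964350), 6176540, 243395, (-226921), (-483116), (-790417), (-51548), 4560, (-400908), (-432321), (-428646), (-609222), (-92375), (-388134), 369010, (-77082), 36006, (-372093), (-765219), 594163, (-334510), (-24758), (-419366), 7307, (-1951), (-2135), (-1405), 768, 161, (-306), (-37), 606, 247, (-772), 1165, (-147), 502, (-992), 287, 142, 302, 562, (-115), 403, (-498), 995, (-284)]))) (.node (.leaf ([])) (.leaf ([0,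 0, 0, 0, 0, 0, 0, 0, 0, 0, 0, 0, 0, 0, 0, 0, 0, 0, 0, 0, 0, 0, 0, 0, 0, 0, 0, 0, 0, 0, 0, 0, 0, 0, 0, 0, 0, 0, 0, 0, 0, 0, 0, 0, 0, 0, 0, 0, 0, 0, 0, 1])))))

/-- data -/
def val0_01011 : Trie (Vec) := .node (.node (.node (.node (.node (.leaf ([])) (.leaf ([0, 0, 0, 0, 0, 0, 0, 0, 0, 0, 0, 0, 0, 0, 0, 0, 0, 0, 0, 0, 0, 0, 0, 0, 0, 0, 0, 0, 0, 0, 0, 0, 0, 0, 0, 0, 0, 0, 0, 0, 0, 0, 0, 0, 0, 0, 0, 0, 0, 0, 0, (-1), 0, 0, 1]))) (.leaf ([0, 0, 0, 0, 0, 0, 0, 0, 0, 0, 0, 0, 0, 0, 0, 0, 0, 0, 0, 0, 0, 0, 0, 0, 0, 0, 0, 0, 0, 0, 0, 0, 0, 0, 0, 0, 0, 0, 0, 0, 0, 0, 0, 0, 0, 0, 0, 0, 0, 0, 0, 1]))) (.node (.leaf ([0, 0, 0, 0, 0, 0, 0, 0, 0, 0, 0, 0, 0, 0, 0, 0, 0, 0, 0, 0, 0, 0, 0, 0, 0, 0, 0, 0, 0, 0, 0, 0, 0, 0, 0, 0, 0, 0, 0, 0, 0, 0, 0, 0, 0, 0, 0, 0, 0, 0, 0, 1])) (.leaf ([(-58481), (-63735), 45526, 272535, 289191, (-53511), (-281106), (-122732), 159839, (-87391), (-54003), (-345234), 169557, (-254782), 49611, 370664, 0, 0, 0, 0, 0, 0, 0, 0, 44326, 71699, (-44347),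 (-6461), 27150, (-16033), (-504), (-45), 155, 798, (-274), (-93), 191, 617, 620, 671, 396, 635, (-425), (-139), 445, (-23), 455, (-539), 312, 251, 375, 19, 19, (-21), (-17), 4, 0, 6, (-9), 19, (-4), (-14), 8, 0, 7, (-20), 4, 0, (-5), 0, 2, 1, 1, 10, 6])))) (.node (.node (.leaf ([0, 0, 0, 0, 0, 0, 0, 0, 0, 0, 0, 0, 0, 0, 0, 0, 0, 0, 0, 0, 0, 0, 0, 0, 0, 0, 0, 0, 0, 0, 0, 0, 0, 0, 0, 0, 0, 0, 0, 0, 0, 0, 0, 0, 0, 0, 0, 0, 0, 0, 0, 1])) (.leaf ([]))) (.node (.leaf ([0, 0, 0, 0, 0, 0, 0, 0, 0, 0, 0, 0, 0, 0, 0, 0, 0, 0, 0, 0, 0, 0, 0, 0, 0, 0, 0, 0, 0, 0, 0, 0, 0, 0, 0, 0, 0, 0, 0, 0, 0, 0, 0, 0, 0, 0, 0, 0, 0, 0, 0, 1])) (.leaf ([0, 0, 0, 0, 0, 0, 0, 0, 0, 0, 0, 0, 0, 0, 0, 0, 0, 0, 0, 0, 0, 0, 0, 0, 0, 0, 0, 0, 0, 0, 0, 0, 0, 0, 0, 0, 0, 0, 0, 0, 0, 0, 0, 0, 0, 0, 0, 0, 0, 0, 0, 1]))))) (.node (.node (.node (.leaf ([0, 0, 0, 0, 0, 0, 0, 0, 0, 0, 0, 0, 0, 0, 0, 0, 0, 0, 0, 0, 0, 0, 0, 0, 0, 0, 0, 0, 0, 0, 0, 0, 0, 0, 0, 0, 0, 0, 0, 0, 0, 0, 0, 0, 0, 0, 0, 0,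 0, 0, 0, 1])) (.leaf ([0, 0, 0, 0, 0, 0, 0, 0, 0, 0, 0, 0, 0, 0, 0, 0, 0, 0, 0, 0, 0, 0, 0, 0, 0, 0, 0, 0, 0, 0, 0, 0, 0, 0, 0, 0, 0, 0, 0, 0, 0, 0, 0, 0, 0, 0, 0, 0, 0, 0, 0, 0, 0, 0, 0, 0, 0, 0, 0, 0, 0, 0, 0, 0, 0, 0, 0, 0, 0, 0, 0, 0, 0, 1]))) (.node (.leaf ([0, 0, 0, 0, 0, 0, 0, 0, 0, 0, 0, 0, 0, 0, 0, 0, 0, 0, 0, 0, 0, 0, 0, 0, 0, 0, 0, 0, 0, 0, 0, 0, 0, 0, 0, 0, 0, 0, 0, 0, 0, 0, 0, 0, 0, 0, 0, 0, 0, 0, 0, 1])) (.leaf ([0, 0, 0, 0, 0, 0, 0, 0, 0, 0, 0, 0, 0, 0, 0, 0, 0, 0, 0, 0, 0, 0, 0, 0, 0, 0, 0, 0, 0, 0, 0, 0, 0, 0, 0, 0, 0, 0, 0, 0, 0, 0, 0, 0, 0, 0, 0, 0, 0, 0, 0, 0, 0, 0, 0, 0, 0, 1])))) (.node (.node (.leaf ([0, 0, 0, 0, 0, 0, 0, 0, 0, 0, 0, 0, 0, 0, 0, 0, 0, 0, 0, 0, 0, 0, 0, 0, 0, 0, 0, 0, 0, 0, 0, 0, 0, 0, 0, 0, 0, 0, 0, 0, 0, 0, 0, 0, 0, 0, 0, 0, 0, 0, 0, 1])) (.leaf ([0, 0, 0, 0, 0, 0, 0, 0, 0, 0, 0, 0, 0, 0, 0, 0, 0, 0, 0, 0, 0, 0, 0, 0, 0, 0, 0, 0, 0, 0, 0, 0, 0, 0, 0, 0, 0, 0, 0, 0, 0, 0, 0, 0, 0, 0, 0, 0, 0, 0, 0, 0, 0, 0, 0, 0, 0,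 0, 0, 0, 0, 0, 0, 0, 1]))) (.node (.leaf ([0, 0, 0, 0, 0, 0, 0, 0, 0, 0, 0, 0, 0, 0, 0, 0, 0, 0, 0, 0, 0, 0, 0, 0, 0, 0, 0, 0, 0, 0, 0, 0, 0, 0, 0, 0, 0, 0, 0, 0, 0, 0, 0, 0, 0, 0, 0, 0, 0, 0, 0, 1])) (.leaf ([])))))

/-- data -/
def val0_01100 : Trie (Vec) := .node (.node (.node (.node (.node (.leaf ([])) (.leaf ([(-1539865), (-4195205), (-1693560), 8545945, 8579502, 186091, (-7269704), (-3782205), 5647223, (-2323073), (-1186632), (-11640292), 3330944, (-8479948), 1972944, 9354014, 0, 0, 0, 0, 0, 0, 0, 0, 1114228, 1971670, (-1204338), (-129558), 691970, (-361396), (-10532), 23284, 8725, 20175, (-3184), (-585), 11503, 20667, 20218, 14422, (-1023), 7958, (-11869), (-10622), 3207, 6222, 17724, (-14971), 15231, 2415, 11281, (-335), 192, (-24), (-37), 13, 0, 58, (-84), 85, (-10), (-108), 9, 37, 46, (-60), 68, (-25), (-6), (-2), 15, 20, (-2), 56, 20]))) (.leaf ([0, 0, 0, 0, 0, 0, 0, 0, 0, 0, 0, 0, 0, 0, 0, 0, 0, 0, 0, 0, 0, 0, 0, 0, 0, 0, 0, 0, 0, 0, 0, 0, 0,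 0, 0, 0, 0, 0, 0, 0, 0, 0, 0, 0, 0, 0, 0, 0, 0, 0, 0, 1]))) (.node (.leaf ([])) (.leaf ([])))) (.node (.node (.leaf ([0, 0, 0, 0, 0, 0, 0, 0, 0, 0, 0, 0, 0, 0, 0, 0, 0, 0, 0, 0, 0, 0, 0, 0, 0, 0, 0, 0, 0, 0, 0, 0, 0, 0, 0, 0, 0, 0, 0, 0, 0, 0, 0, 0, 0, 0, 0, 0, 0, 0, 0, 1])) (.leaf ([0, 0, 0, 0, 0, 0, 0, 0, 0, 0, 0, 0, 0, 0, 0, 0, 0, 0, 0, 0, 0, 0, 0, 0, 0, 0, 0, 0, 0, 0, 0, 0, 0, 0, 0, 0, 0, 0, 0, 0, 0, 0, 0, 0, 0, 0, 0, 0, 0, 0, 0, 1]))) (.node (.leaf ([0, 0, 0, 0, 0, 0, 0, 0, 0, 0, 0, 0, 0, 0, 0, 0, 0, 0, 0, 0, 0, 0, 0, 0, 0, 0, 0, 0, 0, 0, 0, 0, 0, 0, 0, 0, 0, 0, 0, 0, 0, 0, 0, 0, 0, 0, 0, 0, 0, 0, 0, 1])) (.leaf ([]))))) (.node (.node (.node (.leaf ([62299, 334761, 193936, (-363258), (-400878), (-87866), 279097, 158114, (-264249), 75631, 13396, 476318, (-70961), 385042, (-91442), (-349777), 0, 0, 0, 0, 0, 0, 0, 0, (-47591), (-75924), 50250, 5283, (-24705), 8486, 347, (-401), (-766), (-1164), (-92), (-9), (-623), (-650), (-649), (-971), (-89), (-562),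 572, (-126), 61, (-595), (-1175), 858, (-507), (-28), (-670), 18, (-4), (-6), (-4), 3, 0, 0, (-2), 4, 0, (-4), 2, 0, 2, (-2), 2, 0, 2, 2, 0, 2, (-2), 4])) (.leaf ([0, 0, 0, 0, 0, 0, 0, 0, 0, 0, 0, 0, 0, 0, 0, 0, 0, 0, 0, 0, 0, 0, 0, 0, 0, 0, 0, 0, 0, 0, 0, 0, 0, 0, 0, 0, 0, 0, 0, 0, 0, 0, 0, 0, 0, 0, 0, 0, 0, 0, 0, 1, 0, 0, 0, 0, 0, 0, 0, 0, 0, 0, 0, 0, 0, 0, 0, (-1)]))) (.node (.leaf ([])) (.leaf ([0, 0, 0, 0, 0, 0, 0, 0, 0, 0, 0, 0, 0, 0, 0, 0, 0, 0, 0, 0, 0, 0, 0, 0, 0, 0, 0, 0, 0, 0, 0, 0, 0, 0, 0, 0, 0, 0, 0, 0, 0, 0, 0, 0, 0, 0, 0, 0, 0, 0, 0, 1])))) (.node (.node (.leaf ([0, 0, 0, 0, 0, 0, 0, 0, 0, 0, 0, 0, 0, 0, 0, 0, 0, 0, 0, 0, 0, 0, 0, 0, 0, 0, 0, 0, 0, 0, 0, 0, 0, 0, 0, 0, 0, 0, 0, 0, 0, 0, 0, 0, 0, 0, 0, 0, 0, 0, 0, 1])) (.leaf ([0, 0, 0, 0, 0, 0, 0, 0, 0, 0, 0, 0, 0, 0, 0, 0, 0, 0, 0, 0, 0, 0, 0, 0, 0, 0, 0, 0, 0, 0, 0, 0, 0, 0, 0, 0, 0, 0, 0, 0, 0, 0, 0, 0, 0, 0, 0, 0, 0, 0, 0, 1]))) (.node (.leaf ([0, 0, 0, 0, 0, 0, 0, 0, 0, 0, 0, 0, 0, 0,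 0, 0, 0, 0, 0, 0, 0, 0, 0, 0, 0, 0, 0, 0, 0, 0, 0, 0, 0, 0, 0, 0, 0, 0, 0, 0, 0, 0, 0, 0, 0, 0, 0, 0, 0, 0, 0, 1])) (.leaf ([])))))

/-- data -/
def val0_01101 : Trie (Vec) := .node (.node (.node (.node (.node (.leaf ([])) (.leaf ([3229482, 17644277, 9934868, (-18326713), (-20685861), (-4547707), 14006593, 7912369, (-13350167), 3708384, 442982, 23347835, (-3486983), 19354919, (-4581224), (-17549899), 0, 0, 0, 0, 0, 0, 0, 0, (-2437836), (-3785547), 2532067, 283343, (-1240619), 425631, 17623, (-12861), (-37959), (-61113), (-5422), 339, (-30313), (-30996), (-30590), (-46385), (-8197), (-30276), 27465, (-8962), 3974, (-29737), (-59420), 46392, (-24112), (-1212), (-31498), 541, (-118), (-163), (-118), 56, 15, (-17), (-1), 60, 20, (-59), 106, (-15), 35, (-110), 16, 12, (-2), 31, (-13), 21, (-21), 74, (-11)]))) (.leaf ([0, 0, 0, 0, 0, 0, 0, 0, 0, 0, 0, 0, 0, 0, 0, 0, 0, 0, 0, 0, 0, 0, 0, 0, 0, 0, 0, 0, 0, 0, 0, 0, 0, 0, 0, 0, 0, 0, 0, 0, 0, 0, 0, 0, 0, 0, 0, 0,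 0, 0, 0, 1]))) (.node (.leaf ([(-52687), (-100576), (-35040), 302290, 284059, (-9365), (-268498), (-136855), 195226, (-88716), (-55105), (-437731), 134374, (-299923), 68424, 347518, 0, 0, 0, 0, 0, 0, 0, 0, 38832, 72939, (-43339), (-4254), 25570, (-13863), (-367), 1159, 283, 608, (-149), 6, 429, 824, 804, 553, (-187), 193, (-458), (-534), 157, 218, 589, (-446), 615, 116, 437, (-22), 7, 4, 4, (-2), 0, 1, 0, 0, 2, 0, 2, 1, (-1), (-1), (-1), (-2), (-2), (-2), 0, (-1), 4, (-3), 1])) (.leaf ([0, 0, 0, 0, 0, 0, 0, 0, 0, 0, 0, 0, 0, 0, 0, 0, 0, 0, 0, 0, 0, 0, 0, 0, 0, 0, 0, 0, 0, 0, 0, 0, 0, 0, 0, 0, 0, 0, 0, 0, 0, 0, 0, 0, 0, 0, 0, 0, 0, 0, 0, 1])))) (.node (.node (.leaf ([])) (.leaf ([0, 0, 0, 0, 0, 0, 0, 0, 0, 0, 0, 0, 0, 0, 0, 0, 0, 0, 0, 0, 0, 0, 0, 0, 0, 0, 0, 0, 0, 0, 0, 0, 0, 0, 0, 0, 0, 0, 0, 0, 0, 0, 0, 0, 0, 0, 0, 0, 0, 0, 0, 1]))) (.node (.leaf ([0, 0, 0, 0, 0, 0, 0, 0, 0, 0, 0, 0, 0, 0, 0, 0, 0, 0, 0, 0, 0, 0, 0, 0, 0, 0, 0, 0, 0, 0, 0, 0, 0, 0, 0,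 0, 0, 0, 0, 0, 0, 0, 0, 0, 0, 0, 0, 0, 0, 0, 0, 1])) (.leaf ([0, 0, 0, 0, 0, 0, 0, 0, 0, 0, 0, 0, 0, 0, 0, 0, 0, 0, 0, 0, 0, 0, 0, 0, 0, 0, 0, 0, 0, 0, 0, 0, 0, 0, 0, 0, 0, 0, 0, 0, 0, 0, 0, 0, 0, 0, 0, 0, 0, 0, 0, 1]))))) (.node (.node (.node (.leaf ([])) (.leaf ([0, 0, 0, 0, 0, 0, 0, 0, 0, 0, 0, 0, 0, 0, 0, 0, 0, 0, 0, 0, 0, 0, 0, 0, 0, 0, 0, 0, 0, 0, 0, 0, 0, 0, 0, 0, 0, 0, 0, 0, 0, 0, 0, 0, 0, 0, 0, 0, 0, 0, 0, 0, 0, 0, 0, 0, 0, 0, 0, 0, 0, 0, 0, 1]))) (.node (.leaf ([])) (.leaf ([0, 0, 0, 0, 0, 0, 0, 0, 0, 0, 0, 0, 0, 0, 0, 0, 0, 0, 0, 0, 0, 0, 0, 0, 0, 0, 0, 0, 0, 0, 0, 0, 0, 0, 0, 0, 0, 0, 0, 0, 0, 0, 0, 0, 0, 0, 0, 0, 0, 0, 0, 1])))) (.node (.node (.leaf ([])) (.leaf ([0, 0, 0, 0, 0, 0, 0, 0, 0, 0, 0, 0, 0, 0, 0, 0, 0, 0, 0, 0, 0, 0, 0, 0, 0, 0, 0, 0, 0, 0, 0, 0, 0, 0, 0, 0, 0, 0, 0, 0, 0, 0, 0, 0, 0, 0, 0, 0, 0, 0, 0, 1, 0, 0, 0, 0, 0, 0, 0, 0, 0, 0, 0, 0, (-1)]))) (.node (.leaf ([0, 0, 0, 0, 0, 0, 0, 0, 0, 0, 0, 0, 0, 0, 0, 0, 0, 0, 0, 0, 0, 0,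 0, 0, 0, 0, 0, 0, 0, 0, 0, 0, 0, 0, 0, 0, 0, 0, 0, 0, 0, 0, 0, 0, 0, 0, 0, 0, 0, 0, 0, 0, 0, 0, 0, 0, 0, 0, 0, 0, 0, 0, 1])) (.leaf ([11254322, 58192637, 32371829, (-63893022), (-71129940), (-14347053), 49329241, 27666688, (-46106535), 13400978, 2346740, 82118353, (-13444388), 67065320, (-15880359), (-61976144), 0, 0, 0, 0, 0, 0, 0, 0, (-8478275), (-13350186), 8841254, 985739, (-4407771), 1606543, 63736, (-58538), (-125112), (-205889), (-14027), 1350, (-103806), (-112476), (-111118), (-156685), (-24432), (-100834), 95074, (-19564), 9915, (-96679), (-198598), 155288, (-86947), (-5982), (-107765), 1858, (-503), (-486), (-316), 180, 10, (-85), 13, 103, 57, (-127), 294, (-59), 95, (-241), 77, 59, 46, 122, (-44), 85, (-119), 214, (-94)])))))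

/-- data -/
def val0_01110 : Trie (Vec) := .node (.node (.node (.node (.node (.leaf ([])) (.leaf ([(-3565), (-20586), (-8622), 16635, 22632, 4362, (-15104), (-7136), 12034, (-3042), 663, (-18007), 3977, (-17827), 3491, 19227, 0, 0, 0, 0, 0, 0, 0, 0, 2771, 3733, (-2692), (-365), 1251, (-334), (-15), (-93), 56, 91, 10, (-3), 27, 18, 16, 72, 46, 67, (-31), 58, 12, 40, 79, (-68), 3, 8, 47, 0, 0, 0, 1, (-1)]))) (.leaf ([]))) (.node (.leaf ([])) (.leaf ([])))) (.node (.node (.leaf ([])) (.leaf ([]))) (.node (.leaf ([])) (.leaf ([]))))) (.node (.node (.node (.leaf ([])) (.leaf ([0, 0, 0, 0, 0, 0, 0, 0, 0, 0, 0, 0, 0, 0, 0, 0, 0, 0, 0, 0, 0, 0, 0, 0, 0, 0, 0, 0, 0, 0, 0, 0, 0, 0, 0, 0, 0, 0, 0, 0, 0, 0, 0, 0, 0, 0, 0, 0, 0, 0, 0, 1]))) (.node (.leaf ([0, 0, 0, 0, 0, 0, 0, 0, 0, 0, 0, 0, 0, 0, 0, 0, 0, 0, 0, 0, 0, 0, 0, 0, 0, 0, 0, 0, 0, 0, 0, 0, 0, 0, 0, 0, 0, 0, 0, 0, 0, 0, 0, 0, 0, 0, 0, 0, 0, 0, 0, (-1), 0, 0, 1, 0, 0, 0, 0, 0, 0, 0, 1])) (.leaf ([(-2299935),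 (-13076884), (-7537187), 13193559, 14913800, 3515001, (-9941798), (-5689636), 9688199, (-2608395), (-231252), (-16838513), 2273676, (-14005629), 3337945, 12418452, 0, 0, 0, 0, 0, 0, 0, 0, 1741646, 2696355, (-1811524), (-199781), 875529, (-286131), (-12431), 9601, 28206, 44255, 4562, (-65), 22312, 21987, 21739, 33928, 5438, 21629, (-19928), 7153, (-3655), 22308, 43660, (-33469), 17356, 501, 23115, (-448), 71, 163, 114, (-54), (-7), 4, 27, (-79), (-7), 76, (-79), 11, (-39), 101, (-32), (-11), (-8), (-34), 6, (-29), 23, (-76), 3])))) (.node (.node (.leaf ([])) (.leaf ([4825352, 28783444, 16657401, (-27637614), (-31714794), (-7950594), 20670916, 11890176, (-20468087), 5271335, 127000, 34823926, (-4270926), 29512043, (-7026256), (-25742982), 0, 0, 0, 0, 0, 0, 0, 0, (-3698865), (-5586329), 3808121, 431051, (-1805616), 544410, 25306, (-7225), (-62797), (-96756), (-10471), 265, (-47479), (-41865), (-42089), (-75929), (-15849), (-50300), 42380, (-23757), 8269, (-48158),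 (-95078), 72840, (-33375), (-1669), (-50495), 586, (-24), (-306), (-267), 113, 26, 32, (-79), 161, 42, (-231), 193, 45, 132, (-212), 96, (-35), 12, 59, 16, 59, (-67), 211, (-11)]))) (.node (.leaf ([])) (.leaf ([0, 0, 0, 0, 0, 0, 0, 0, 0, 0, 0, 0, 0, 0, 0, 0, 0, 0, 0, 0, 0, 0, 0, 0, 0, 0, 0, 0, 0, 0, 0, 0, 0, 0, 0, 0, 0, 0, 0, 0, 0, 0, 0, 0, 0, 0, 0, 0, 0, 0, 0, 1])))))

/-- data -/
def val0_011110 : Trie (Vec) := .node (.node (.node (.node (.leaf ([(-163271), (-870180), (-514135), 960872, 1046884, 231065, (-726963), (-417463), 699142, (-200693), (-37888), (-1265476), 184163, (-1015593), 244482, 909930, 0, 0, 0, 0, 0, 0, 0, 0, 123513, 199109, (-131032), (-13524), 64728, (-22746), (-932), 1349, 1923, 2973, 224, 20, 1640, 1762, 1760, 2337, 132, 1327, (-1480), 129, (-192), 1506, 3002, (-2177), 1410, 61, 1716, (-32), 7, 12, 10, (-6), 0, 0, 5, (-9), 0, 9, (-4), 0, (-4), 5, (-6), (-1), (-4), (-4), 0, (-4), 5, (-8), 1])) (.leaf ([31869351, 162550328, 89906169, (-180840628),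 (-200888823), (-39518007), 140351213, 78402732, (-130170902), 38300732, 7219404, 232902132, (-39120139), 189620009, (-44805749), (-176509225), 0, 0, 0, 0, 0, 0, 0, 0, (-24061923), (-37939430), 25089250, 2804537, (-12553255), 4623540, 180555, (-162977), (-351921), (-581323), (-35170), 4135, (-293213), (-319399), (-316551), (-446925), (-70647), (-287148), 271975, (-54570), 23224, (-269765), (-559866), 436448, (-245440), (-19865), (-308622), 5130, (-1696), (-1408), (-718), 517, 183, (-323), 70, 253, 242, (-426), 847, (-123), 308, (-563), 150, 108, 269, 414, (-116), 298, (-346), 595, (-252)]))) (.leaf ([0, 0, 0, 0, 0, 0, 0, 0, 0, 0, 0, 0, 0, 0, 0, 0, 0, 0, 0, 0, 0, 0, 0, 0, 0, 0, 0, 0, 0, 0, 0, 0, 0, 0, 0, 0, 0, 0, 0, 0, 0, 0, 0, 0, 0, 0, 0, 0, 0, 0, 0, 1]))) (.node (.leaf ([])) (.leaf ([0, 0, 0, 0, 0, 0, 0, 0, 0, 0, 0, 0, 0, 0, 0, 0, 0, 0, 0, 0, 0, 0, 0, 0, 0, 0, 0, 0, 0, 0, 0, 0, 0, 0, 0, 0, 0, 0, 0, 0, 0, 0, 0, 0, 0, 0, 0, 0, 0, 0, 0, 1])))) (.node (.node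 (.leaf ([0, 0, 0, 0, 0, 0, 0, 0, 0, 0, 0, 0, 0, 0, 0, 0, 0, 0, 0, 0, 0, 0, 0, 0, 0, 0, 0, 0, 0, 0, 0, 0, 0, 0, 0, 0, 0, 0, 0, 0, 0, 0, 0, 0, 0, 0, 0, 0, 0, 0, 0, 1])) (.leaf ([0, 0, 0, 0, 0, 0, 0, 0, 0, 0, 0, 0, 0, 0, 0, 0, 0, 0, 0, 0, 0, 0, 0, 0, 0, 0, 0, 0, 0, 0, 0, 0, 0, 0, 0, 0, 0, 0, 0, 0, 0, 0, 0, 0, 0, 0, 0, 0, 0, 0, 0, 1]))) (.node (.leaf ([(-33259), (-231211), (-132986), 183294, 225407, 68519, (-134628), (-77846), 139919, (-28984), 9316, (-217783), 16358, (-200001), 46382, 166252, 0, 0, 0, 0, 0, 0, 0, 0, 25628, 35721, (-25602), (-3124), 11284, (-2332), (-168), (-182), 493, 759, 138, (-7), 321, 224, 217, 555, 198, 420, (-285), 305, (-92), 393, 729, (-586), 173, (-10), 341, 2, 0, (-1), 0, 0, 0, 0, 0, 1, 0, 0, 0, 0, 0, 0, (-1), 0, 0, 0, 0, 0, 1, 0, 1])) (.leaf ([136888, (-2796741), (-2257882), (-482655), 215160, 1517326, 1097121, 289176, 144983, 589290, 808020, 1146850, (-1576240), 61807, 46275, (-1594333), 0, 0, 0, 0, 0, 0, 0, 0, (-68845), (-289664),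 104186, 10104, (-135301), 148043, 2517, (-12151), 5889, 4306, 4466, 403, 1604, (-5727), (-5454), 3298, 2675, 2981, 127, 10629, (-4735), 5143, 6031, (-3455), (-3403), (-1820), 1792, 74, (-120), 103, 63, (-29), (-19), (-39), 67, (-112), (-8), 116, (-71), (-26), (-56), 115, (-54), 21, 24, (-1), (-12), (-21), (-6), (-73), (-24)]))))

/-- data -/
def val0_011111 : Trie (Vec) := .node (.node (.node (.leaf ([])) (.leaf ([]))) (.node (.leaf ([])) (.leaf ([0, 0, 0, 0, 0, 0, 0, 0, 0, 0, 0, 0, 0, 0, 0, 0, 0, 0, 0, 0, 0, 0, 0, 0, 0, 0, 0, 0, 0, 0, 0, 0, 0, 0, 0, 0, 0, 0, 0, 0, 0, 0, 0, 0, 0, 0, 0, 0, 0, 0, 0, 1])))) (.node (.node (.leaf ([])) (.leaf ([3388, (-51260), (-35706), (-21811), (-1990), 26238, 27791, 11414, (-6684), 14826, 18282, 45795, (-31750), 14827, (-3377), (-38572), 0, 0, 0, 0, 0, 0, 0, 0, (-1827), (-8002), 3187, 64, (-3343), 3139, 49, (-392), 101, 92, 94, (-3), (-15), (-152), (-154), 79, 119, 103, 23, 271, (-74), 88, 92, (-85), (-120), (-32), (-6), (-2),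 1, 1, 0, 0, 0, 0, 1, 0, 0, 0, 0, 0, 0, 0, (-1), (-1), 0, 0, 0, (-1)]))) (.node (.leaf ([0, 0, 0, 0, 0, 0, 0, 0, 0, 0, 0, 0, 0, 0, 0, 0, 0, 0, 0, 0, 0, 0, 0, 0, 0, 0, 0, 0, 0, 0, 0, 0, 0, 0, 0, 0, 0, 0, 0, 0, 0, 0, 0, 0, 0, 0, 0, 0, 0, 0, 0, 1])) (.leaf ([(-279444), (-1171593), (-620210), 1594163, 1689019, 233109, (-1274370), (-697632), 1114227, (-375087), (-126791), (-2114259), 443269, (-1640357), 388365, 1615470, 0, 0, 0, 0, 0, 0, 0, 0, 208804, 346163, (-221622), (-23943), 117052, (-50176), (-1739), 2587, 2577, 4540, (-87), (-42), 2474, 3181, 3181, 3490, 248, 2098, (-2363), (-460), 112, 1857, 4307, (-3307), 2431, 302, 2607, (-35), 17, 6, 1, (-3), 0, 4, (-2), 4, (-3), 0, (-5), 1, (-2), (-1), (-2), (-1), (-3), (-3), 1, (-2), 3, (-2), 4]))))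

/-- data -/
def val0_10000 : Trie (Vec) := .node (.node (.node (.node (.node (.leaf ([])) (.leaf ([407733, 2428053, 1405658, (-2332119), (-2674925), (-672630), 1753352, 1004627, (-1726601), 444473, 13591, 2954766, (-363590), 2493776, (-590173), (-2185601), 0, 0, 0, 0, 0, 0, 0, 0, (-310900), (-473812), 321863, 35732, (-152672), 46118, 2162, (-1103), (-5314), (-8163), (-998), 0, (-4011), (-3736), (-3688), (-6387), (-1167), (-4102), 3615, (-1787), 713, (-4241), (-8106), 6187, (-2934), (-65), (-4213), 91, (-12), (-33), (-23), 11, 0, 0, (-8), 15, (-2), (-17), 8, (-3), 8, (-16), 9, 4, 5, 9, (-1), 6, (-8), 16, (-2)]))) (.leaf ([]))) (.node (.leaf ([])) (.leaf ([])))) (.node (.node (.leaf ([])) (.leaf ([]))) (.node (.leaf ([0, 0, 0, 0, 0, 0, 0, 0, 0, 0, 0, 0, 0, 0, 0, 0, 0, 0, 0, 0, 0, 0, 0, 0, 0, 0, 0, 0, 0, 0, 0, 0, 0, 0, 0, 0, 0, 0, 0, 0, 0, 0, 0, 0, 0, 0, 0, 0, 0, 0, 0, 0, 1])) (.leaf ([]))))) (.node (.node (.node (.node (.leaf ([])) (.leaf ([3366541, 22101942,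 13199153, (-19451959), (-22709453), (-6549974), 14093363, 8318427, (-14691325), 3422276, (-347648), 24315709, (-2131405), 21021356, (-5043919), (-17425255), 0, 0, 0, 0, 0, 0, 0, 0, (-2571591), (-3825181), 2646224, 293963, (-1207724), 309036, 16852, (-4418), (-47367), (-70621), (-11062), (-221), (-34608), (-28624), (-28183), (-53907), (-10649), (-35239), 29686, (-19506), 9366, (-38327), (-70876), 53928, (-23298), 939, (-35653), 667, (-16), (-296), (-252), 103, (-5), 26, (-97), 194, (-5), (-185), 132, (-9), 81, (-220), 96, 21, 10, 60, (-10), 61, (-45), 162, (-1)]))) (.leaf ([]))) (.node (.leaf ([0, 0, 0, 0, 0, 0, 0, 0, 0, 0, 0, 0, 0, 0, 0, 0, 0, 0, 0, 0, 0, 0, 0, 0, 0, 0, 0, 0, 0, 0, 0, 0, 0, 0, 0, 0, 0, 0, 0, 0, 0, 0, 0, 0, 0, 0, 0, 0, 0, 0, 0, 0, 1])) (.leaf ([(-36556), (-79813), (-30400), 208545, 199613, (-3247), (-178384), (-92987), 135953, (-59848), (-34461), (-291815), 87160, (-205216), 48502, 229964, 0, 0, 0, 0, 0, 0, 0, 0, 26645, 48745, (-29248), (-3014),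 17247, (-9342), (-265), 630, 182, 437, (-125), (-9), 289, 518, 522, 323, (-62), 163, (-295), (-317), 105, 96, 389, (-294), 389, 82, 309, (-1), 3, (-1), (-2), 0, 0, 1, (-1), 2, (-1), (-1), (-1), 0, 0, (-1), 0, 0, 0, 0, 0, 0, 0, 1, 1])))) (.node (.node (.leaf ([])) (.leaf ([(-240035), (-1549943), (-936268), 1400837, 1612563, 459902, (-1008223), (-599275), 1055491, (-251355), 14865, (-1768020), 159333, (-1509040), 365282, 1246758, 0, 0, 0, 0, 0, 0, 0, 0, 182496, 274839, (-188684), (-20679), 86891, (-23330), (-1200), 675, 3285, 4916, 721, 21, 2512, 2131, 2107, 3657, 608, 2346, (-2126), 1145, (-709), 2630, 4961, (-3734), 1758, (-68), 2550, (-49), 3, 25, 12, (-8), (-1), (-1), 7, (-16), (-1), 14, (-14), 1, (-7), 19, (-6), (-1), 1, (-4), 0, (-5), 1, (-11), (-1)]))) (.node (.leaf ([557668, 3276927, 1963350, (-3267924), (-3654890), (-922692), 2385415, 1404477, (-2418803), 635177, 46248, 4198921, (-492761), 3474187, (-846829), (-2965882), 0, 0, 0, 0, 0, 0, 0, 0, (-418636),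 (-654605), 438565, 46713, (-210255), 67416, 2992, (-3551), (-6811), (-10579), (-1177), (-16), (-5647), (-5529), (-5486), (-7712), (-824), (-4722), 4822, (-1173), 1294, (-5431), (-10584), 7947, (-4535), 90, (-5611), 106, (-13), (-44), (-26), 13, 1, (-1), (-9), 29, 4, (-21), 26, (-3), 9, (-33), 10, 3, (-2), 7, (-1), 8, (-1), 18])) (.leaf ([])))))

/-- data -/
def val0_10001 : Trie (Vec) := .node (.node (.node (.node (.node (.leaf ([])) (.leaf ([]))) (.leaf ([]))) (.node (.leaf ([])) (.leaf ([0, 0, 0, 0, 0, 0, 0, 0, 0, 0, 0, 0, 0, 0, 0, 0, 0, 0, 0, 0, 0, 0, 0, 0, 0, 0, 0, 0, 0, 0, 0, 0, 0, 0, 0, 0, 0, 0, 0, 0, 0, 0, 0, 0, 0, 0, 0, 0, 0, 0, 0, 0, 1])))) (.node (.node (.leaf ([])) (.leaf ([]))) (.node (.leaf ([])) (.leaf ([6563, (-737607), (-552350), 7515, 189398, 359435, 150909, 15741, 112296, 108384, 178730, 123366, (-321658), (-103050), 36232, (-236406), 0, 0, 0, 0, 0, 0, 0, 0, 1048, (-39537), 6660, 149, (-21713), 29271, 335, (-2483), 1463, 1368, 1075, 77,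 462, (-997), (-969), 962, 672, 852, (-115), 2301, (-1045), 1356, 1673, (-1111), (-581), (-403), 463, 9, (-21), 17, 11, (-5), 0, (-7), 13, (-21), (-1), 21, (-10), (-3), (-7), 20, (-10), 3, 2, (-2), (-2), (-5), (-2), (-10), (-3)]))))) (.node (.node (.node (.leaf ([])) (.leaf ([]))) (.node (.leaf ([])) (.leaf ([546800, 2836539, 1578487, (-3106306), (-3461053), (-701760), 2404384, 1346361, (-2242330), 651050, 113122, 3996307, (-653063), 3264729, (-771149), (-3020989), 0, 0, 0, 0, 0, 0, 0, 0, (-413155), (-650180), 430972, 47930, (-214529), 77539, 3108, (-2770), (-6168), (-10069), (-697), 56, (-5072), (-5460), (-5405), (-7782), (-1213), (-4973), 4680, (-1055), 447, (-4771), (-9746), 7568, (-4212), (-305), (-5315), 93, (-25), (-26), (-18), 10, 2, (-4), (-1), 7, 3, (-9), 13, (-2), 6, (-11), 5, 2, 4, 8, (-2), 5, (-7), 13, (-4)])))) (.node (.node (.leaf ([])) (.leaf ([]))) (.node (.leaf ([])) (.leaf ([(-198598), (-1358081), (-790752), 1113601, 1346120, 402904, (-817006),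 (-474440), 847337, (-183339), 43011, (-1350435), 106953, (-1212311), 283924, 1009493, 0, 0, 0, 0, 0, 0, 0, 0, 153126, 218339, (-154615), (-18153), 68819, (-15176), (-993), (-764), 2971, 4464, 755, (-23), 1982, 1444, 1416, 3410, 1019, 2430, (-1760), 1721, (-476), 2340, 4373, (-3382), 1121, (-31), 2151, (-27), 5, 8, 5, (-6), 3, (-1), 6, (-3), 0, 7, (-4), 0, (-3), 4, (-9), (-1), (-3), (-4), 0, (-4), 6, (-6), 3])))))

/-- data -/
def val0_10010 : Trie (Vec) := .node (.node (.node (.node (.node (.leaf ([])) (.leaf ([55037, 365320, 186587, (-278837), (-364940), (-96024), 217250, 117272, (-209646), 44479, (-17650), 307181, (-35754), 300315, (-66288), (-271260), 0, 0, 0, 0, 0, 0, 0, 0, (-42604), (-55738), 40820, 5756, (-18226), 4257, 272, 818, (-764), (-1312), (-193), 51, (-422), (-274), (-265), (-959), (-549), (-854), 439, (-701), 43, (-609), (-1179), 1013, (-151), (-13), (-541), 1, (-10), 3, 9, (-2), 3, (-4), 5, (-8), 4, 6, 2, 0, (-1), 4, (-3), 0, (-2), (-1),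 0, (-1), 2, (-5), (-1)]))) (.leaf ([0, 0, 0, 0, 0, 0, 0, 0, 0, 0, 0, 0, 0, 0, 0, 0, 0, 0, 0, 0, 0, 0, 0, 0, 0, 0, 0, 0, 0, 0, 0, 0, 0, 0, 0, 0, 0, 0, 0, 0, 0, 0, 0, 0, 0, 0, 0, 0, 0, 0, 0, 0, 1]))) (.node (.leaf ([])) (.leaf ([402415, 5030198, 3391484, (-2539509), (-3458644), (-1938603), 1357939, 1034467, (-2245254), 124835, (-567672), 2846537, 706646, 3042707, (-770712), (-1525246), 0, 0, 0, 0, 0, 0, 0, 0, (-328946), (-376221), 320334, 34995, (-90016), (-49673), 942, 6234, (-10764), (-12962), (-4547), (-343), (-6101), (-739), (-847), (-10180), (-2985), (-6884), 4302, (-9369), 4346, (-9111), (-14272), 10018, (-1417), 1370, (-6257), 76, 80, (-113), (-96), 38, 5, 33, (-63), 111, 0, (-107), 58, 13, 47, (-111), 50, (-8), (-10), 12, 5, 24, (-4), 75, 19])))) (.node (.node (.leaf ([])) (.leaf ([(-11444), (-135851), (-77257), 53014, 91048, 46855, (-34828), (-20788), 47871, 1349, 19570, (-41274), (-15968), (-65284), 13256, 40493, 0, 0, 0, 0, 0, 0, 0, 0, 9351, 8030,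 (-8019), (-1365), 2079, 1582, (-21), (-519), 296, 429, 146, (-9), 118, (-50), (-62), 293, 223, 291, (-95), 402, (-86), 246, 402, (-347), (-49), (-21), 145, (-2), 1, 1, (-1), 0, 0, 0, 0, 1, (-1), 0, (-1), 0, 0, 1, 0, 0, 0, 0, 0, 0, 0, 1]))) (.node (.leaf ([])) (.leaf ([0, 0, 0, 0, 0, 0, 0, 0, 0, 0, 0, 0, 0, 0, 0, 0, 0, 0, 0, 0, 0, 0, 0, 0, 0, 0, 0, 0, 0, 0, 0, 0, 0, 0, 0, 0, 0, 0, 0, 0, 0, 0, 0, 0, 0, 0, 0, 0, 0, 0, 0, 0, 0, 1]))))) (.node (.node (.node (.leaf ([])) (.leaf ([]))) (.node (.leaf ([])) (.leaf ([0, 0, 0, 0, 0, 0, 0, 0, 0, 0, 0, 0, 0, 0, 0, 0, 0, 0, 0, 0, 0, 0, 0, 0, 0, 0, 0, 0, 0, 0, 0, 0, 0, 0, 0, 0, 0, 0, 0, 0, 0, 0, 0, 0, 0, 0, 0, 0, 0, 0, 0, 0, 1])))) (.node (.node (.leaf ([])) (.leaf ([]))) (.node (.leaf ([])) (.leaf ([])))))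

/-- data -/
def val0_10011 : Trie (Vec) := .node (.node (.node (.node (.node (.leaf ([])) (.leaf ([]))) (.leaf ([0, 0, 0, 0, 0, 0, 0, 0, 0, 0, 0, 0, 0, 0, 0, 0, 0, 0, 0, 0, 0, 0, 0, 0, 0, 0, 0, 0, 0, 0, 0, 0, 0, 0, 0, 0, 0, 0, 0, 0, 0, 0, 0, 0, 0, 0, 0, 0, 0, 0, 0, 0, 1]))) (.node (.leaf ([])) (.leaf ([(-21481), 632473, 490229, 76443, (-87668), (-327487), (-211066), (-51365), (-48106), (-121626), (-174490), (-223363), 328082, 11452, (-14500), 310349, 0, 0, 0, 0, 0, 0, 0, 0, 10788, 55512, (-18255), (-1617), 26734, (-30260), (-431), 2403, (-1247), (-1033), (-1032), (-79), (-314), 1090, 1071, (-688), (-583), (-653), (-32), (-2157), 1004, (-1195), (-1349), 864, 657, 429, (-293), (-7), 22, (-17), (-13), 5, 0, 7, (-13), 21, 0, (-20), 10, 2, 7, (-21), 10, (-2), (-3), 2, 2, 5, 2, 10, 3])))) (.node (.node (.leaf ([])) (.leaf ([]))) (.node (.leaf ([])) (.leaf ([114546, 2399187, 1629743, (-688687), (-1236026), (-992433), 162665, 246314, (-745803), (-123271), (-415115),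 494288, 608155, 933490, (-245181), (-96297), 0, 0, 0, 0, 0, 0, 0, 0, (-95263), (-43718), 76979, 11988, 4253, (-50946), (-118), 6273, (-4602), (-5641), (-2748), (-40), (-2050), 1362, 1396, (-3269), (-2316), (-3223), 993, (-5786), 2713, (-4016), (-5910), 4587, 625, 996, (-1926), (-65), 50, (-11), (-13), 0, 2, 10, (-16), 27, 8, (-24), 31, 5, 5, (-47), 17, (-5), (-23), (-8), 0, 0, 13, 6, 1]))))) (.node (.node (.node (.leaf ([])) (.leaf ([]))) (.node (.leaf ([])) (.leaf ([])))) (.node (.node (.leaf ([])) (.leaf ([(-2141), (-46236), (-24899), 4738, 21941, 17041, (-2498), (-1219), 7486, 4789, 9979, 6859, (-10640), (-9630), 759, 1956, 0, 0, 0, 0, 0, 0, 0, 0, 1878, (-30), (-1209), (-349), (-279), 1161, 1, (-223), 97, 133, 74, (-3), 11, (-40), (-49), 95, 88, 103, (-9), 164, (-30), 109, 129, (-127), (-38), (-13), 19, 2, 0, (-2), 1, 0, 0, 0, (-1), 0, 0, (-1), 0, 0, 1, 0, 1, 0, 0, 0, 0, 1]))) (.node (.leaf ([])) (.leaf ([])))))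

/-- data -/
def val0_10100 : Trie (Vec) := .node (.node (.node (.node (.node (.leaf ([])) (.leaf ([361014, 2131823, 1250112, (-2083761), (-2364973), (-592342), 1545186, 896075, (-1541542), 401411, 20319, 2652770, (-321696), 2219843, (-532852), (-1924431), 0, 0, 0, 0, 0, 0, 0, 0, (-272406), (-420624), 283655, 30862, (-135511), 42499, 1920, (-1600), (-4520), (-7028), (-824), 0, (-3576), (-3444), (-3405), (-5268), (-807), (-3330), 3140, (-1143), 717, (-3633), (-6991), 5315, (-2760), 6, (-3654), 67, (-9), (-26), (-17), 8, 1, (-1), (-5), 16, 1, (-13), 14, (-2), 5, (-19), 5, 2, 0, 5, (-1), 5, (-2), 10]))) (.leaf ([]))) (.node (.leaf ([])) (.leaf ([])))) (.node (.node (.leaf ([0, 0, 0, 0, 0, 0, 0, 0, 0, 0, 0, 0, 0, 0, 0, 0, 0, 0, 0, 0, 0, 0, 0, 0, 0, 0, 0, 0, 0, 0, 0, 0, 0, 0, 0, 0, 0, 0, 0, 0, 0, 0, 0, 0, 0, 0, 0, 0, 0, 0, 0, 0, 1])) (.leaf ([0, 0, 0, 0, 0, 0, 0, 0, 0, 0, 0, 0, 0, 0, 0, 0, 0, 0, 0, 0, 0, 0, 0, 0, 0, 0, 0, 0, 0, 0, 0, 0, 0, 0, 0, 0, 0, 0, 0, 0,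 0, 0, 0, 0, 0, 0, 0, 0, 0, 0, 0, 0, 1, 0, 0, 0, 0, 0, 0, 0, 0, 0, 0, 0, 0, 0, 0, 0, (-1)]))) (.node (.leaf ([])) (.leaf ([]))))) (.node (.node (.node (.node (.leaf ([])) (.leaf ([(-409289), (-2418690), (-1399266), 2342574, 2680182, 666966, (-1763144), (-1009556), 1731902, (-449394), (-18562), (-2973118), 372106, (-2502416), 592569, 2198712, 0, 0, 0, 0, 0, 0, 0, 0, 311861, 476677, (-323197), (-35792), 153783, (-47051), (-2184), 1218, 5294, 8147, 972, 0, 4021, 3783, 3737, 6378, 1136, 4079, (-3628), 1713, (-695), 4218, 8090, (-6168), 2971, 74, 4219, (-91), 13, 33, 23, (-11), 0, 0, 8, (-15), 2, 17, (-8), 3, (-8), 16, (-9), (-4), (-5), (-9), 1, (-6), 8, (-16), 2]))) (.leaf ([2286728, 12986181, 7500369, (-13136304), (-14824898), (-3494787), 9890590, 5665693, (-9645574), 2600344, 238368, 16785326, (-2264275), 13943266, (-3326206), (-12353678), 0, 0, 0, 0, 0, 0, 0, 0, (-1730998), (-2683931), 1801868, 198186, (-871399), 285258, 12368, (-9926), (-28014), (-43912),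 (-4483), 47, (-22267), (-21957), (-21726), (-33584), (-5244), (-21349), 19852, (-6887), 3671, (-22098), (-43367), 33165, (-17368), (-499), (-23040), 446, (-68), (-164), (-112), 55, 7, (-3), (-29), 81, 7, (-78), 80, (-10), 42, (-101), 34, 10, 7, 33, (-5), 30, (-24), 78, (-3)]))) (.node (.leaf ([])) (.leaf ([815827, 2947025, 1340712, (-4477082), (-4759039), (-407559), 3745005, 1965942, (-3048394), 1113556, 438863, 5884720, (-1494375), 4535086, (-1043829), (-4787583), 0, 0, 0, 0, 0, 0, 0, 0, (-607215), (-1004189), 637840, 73485, (-347612), 161629, 5168, (-6385), (-6403), (-12752), 815, 345, (-6354), (-9208), (-9100), (-9743), (-1453), (-6414), 6545, 1613, (-1164), (-4473), (-11355), 9488, (-6652), (-1244), (-6847), 104, (-89), 14, 30, (-5), 8, (-27), 36, (-50), 13, 40, 3, (-8), (-13), 35, (-23), 4, 9, 4, (-7), (-6), (-5), (-20), (-17)])))) (.node (.node (.leaf ([])) (.leaf ([]))) (.node (.leaf ([])) (.leaf ([(-1235337), (-10743151), (-6601186), 7067089, 9084319,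 3589673, (-4741175), (-2958137), 5688710, (-849746), 793601, (-8183014), (-253598), (-7975031), 1903886, 5712620, 0, 0, 0, 0, 0, 0, 0, 0, 974288, 1269787, (-961977), (-114774), 373411, (-10342), (-5088), (-12576), 23278, 32155, 7913, 129, 13790, 6024, 5905, 24952, 8498, 18155, (-11257), 18020, (-6059), 19023, 32553, (-24851), 5276, (-1345), 14877, (-125), (-67), 106, 133, (-48), 12, (-36), 73, (-90), (-4), 119, (-64), (-17), (-50), 111, (-79), 4, 2, (-22), 1, (-28), 33, (-93), 2])))))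

/-- data -/
def val0_10101 : Trie (Vec) := .node (.node (.node (.node (.node (.leaf ([])) (.leaf ([]))) (.leaf ([]))) (.node (.leaf ([])) (.leaf ([0, 0, 0, 0, 0, 0, 0, 0, 0, 0, 0, 0, 0, 0, 0, 0, 0, 0, 0, 0, 0, 0, 0, 0, 0, 0, 0, 0, 0, 0, 0, 0, 0, 0, 0, 0, 0, 0, 0, 0, 0, 0, 0, 0, 0, 0, 0, 0, 0, 0, 0, 0, 1, 0, 0, 0, 0, 0, 0, 0, 0, 0, 0, 0, 0, (-1)])))) (.node (.node (.leaf ([])) (.leaf ([]))) (.node (.leaf ([])) (.leaf ([]))))) (.node (.node (.node (.leaf ([])) (.leaf ([]))) (.node (.leaf ([])) (.leaf ([0, 0, 0, 0, 0, 0, 0, 0, 0, 0, 0, 0, 0, 0, 0, 0, 0, 0, 0, 0, 0, 0, 0, 0, 0, 0, 0, 0, 0, 0, 0, 0, 0, 0, 0, 0, 0, 0, 0, 0, 0, 0, 0, 0, 0, 0, 0, 0, 0, 0, 0, 0, 0, 0, 0, 0, 0, 0, 0, 0, 0, 0, 0, 0, 0, 0, 0, 0, 0, 0, 0, 1])))) (.node (.node (.leaf ([])) (.leaf ([0, 0, 0, 0, 0, 0, 0, 0, 0, 0, 0, 0, 0, 0, 0, 0, 0, 0, 0, 0, 0, 0, 0, 0, 0, 0, 0, 0, 0, 0, 0, 0, 0, 0, 0, 0, 0, 0, 0, 0, 0, 0, 0, 0, 0, 0, 0, 0, 0, 0, 0, 0, 1]))) (.node (.leaf ([])) (.leaf ([])))))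

/-- data -/
def val0_10110 : Trie (Vec) := .node (.node (.node (.node (.node (.leaf ([])) (.leaf ([]))) (.leaf ([]))) (.node (.leaf ([])) (.leaf ([])))) (.node (.node (.leaf ([])) (.leaf ([(-84394), (-611112), (-355045), 470843, 584285, 184609, (-343540), (-200078), 362178, (-73168), 26436, (-563918), 33567, (-517204), 120655, 423284, 0, 0, 0, 0, 0, 0, 0, 0, 65724, 91480, (-65815), (-7866), 28346, (-5292), (-409), (-414), 1330, 1952, 392, (-2), 820, 585, 560, 1597, 472, 1104, (-749), 846, (-243), 1123, 1936, (-1527), 438, (-42), 889, (-24), 4, 7, 8, (-2), 1, 0, 2, (-3), 1, 3, 0, 1, (-1), 3, (-2), (-2), (-2), (-2), 1, (-2), 2, (-4)]))) (.node (.leaf ([])) (.leaf ([562007, 4417214, 2690008, (-3220604), (-3991427), (-1419386), 2207561, 1355088, (-2529833), 455764, (-245836), 3825364, (-60869), 3564276, (-857256), (-2686859), 0, 0, 0, 0, 0, 0, 0, 0, (-434982), (-594808), 434758, 51217, (-180605), 23636, 2514, 3114, (-9269), (-13418), (-2873), (-9), (-6044),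 (-3522), (-3463), (-9919), (-3058), (-7156), 4986, (-6025), 2475, (-7586), (-13453), 10351, (-2991), 487, (-6314), 67, 10, (-49), (-29), 14, 5, 5, (-17), 34, 7, (-35), 35, 1, 14, (-47), 16, (-2), (-6), 7, (-2), 10, 2, 22, 1]))))) (.node (.node (.node (.leaf ([0, 0, 0, 0, 0, 0, 0, 0, 0, 0, 0, 0, 0, 0, 0, 0, 0, 0, 0, 0, 0, 0, 0, 0, 0, 0, 0, 0, 0, 0, 0, 0, 0, 0, 0, 0, 0, 0, 0, 0, 0, 0, 0, 0, 0, 0, 0, 0, 0, 0, 0, 0, 1])) (.leaf ([0, 0, 0, 0, 0, 0, 0, 0, 0, 0, 0, 0, 0, 0, 0, 0, 0, 0, 0, 0, 0, 0, 0, 0, 0, 0, 0, 0, 0, 0, 0, 0, 0, 0, 0, 0, 0, 0, 0, 0, 0, 0, 0, 0, 0, 0, 0, 0, 0, 0, 0, 0, 0, 0, 0, 0, 0, 0, 1]))) (.node (.leaf ([])) (.leaf ([])))) (.node (.node (.leaf ([0, 0, 0, 0, 0, 0, 0, 0, 0, 0, 0, 0, 0, 0, 0, 0, 0, 0, 0, 0, 0, 0, 0, 0, 0, 0, 0, 0, 0, 0, 0, 0, 0, 0, 0, 0, 0, 0, 0, 0, 0, 0, 0, 0, 0, 0, 0, 0, 0, 0, 0, 0, 1])) (.leaf ([(-112729), (-10267040), (-7532352), 1265371, 3633370, 4774100, 995386, (-313565), 2262751, 1106788, 2185806, (-13624), (-3794171),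 (-2533104), 752206, (-1840233), 0, 0, 0, 0, 0, 0, 0, 0, 162286, (-250937), (-76968), (-13984), (-191605), 339069, 3607, (-30638), 20989, 20774, 13570, 932, 7935, (-10697), (-10360), 15008, 8799, 12416, (-3023), 29490, (-13272), 18690, 24684, (-16665), (-5736), (-5171), 8028, 107, (-293), 214, 193, (-69), 3, (-96), 174, (-268), (-6), 256, (-142), (-43), (-102), 274, (-152), 26, 54, (-11), (-16), (-53), (-9), (-157), (-35)]))) (.node (.leaf ([])) (.leaf ([(-205625), 1406802, 1066899, 1248288, 617011, (-843540), (-1408465), (-617312), 569532, (-636715), (-681044), (-2302314), 1251860, (-1033440), 229381, 1908499, 0, 0, 0, 0, 0, 0, 0, 0, 130220, 396206, (-185231), (-8322), 152836, (-124682), (-2306), 15402, (-2142), (-1838), (-2970), 182, 1018, 6760, 6600, (-109), (-4321), (-2753), (-1713), (-9433), 2934, (-1704), (-1581), 1611, 4949, 1141, 522, (-290), 49, 45, 77, (-22), 18, 0, (-2), (-15), 34, (-8), 40, 25, 1, (-10), 11, (-23), (-24), (-18), (-1), (-3), 23,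 (-19), (-10)])))))

/-- data -/
def val0_10111 : Trie (Vec) := .node (.node (.node (.node (.node (.leaf ([])) (.leaf ([(-2161305), (-14689973), (-8806947), 12466550, 14715209, 4427580, (-8939896), (-5314272), 9483324, (-2116483), 355582, (-15428646), 1163974, (-13526883), 3248453, 11023685, 0, 0, 0, 0, 0, 0, 0, 0, 1654138, 2422628, (-1692560), (-190251), 760528, (-179189), (-10463), (-351), 31374, 46409, 7673, 91, 22387, 17314, 17100, 35099, 7858, 23542, (-18975), 14583, (-6606), 25233, 46512, (-35545), 14250, (-802), 23107, (-341), (-11), 173, 148, (-63), (-4), (-21), 59, (-127), (-10), 121, (-111), (-2), (-56), 160, (-61), (-4), 16, (-23), 2, (-32), 16, (-104), (-6)]))) (.leaf ([]))) (.node (.leaf ([])) (.leaf ([0, 0, 0, 0, 0, 0, 0, 0, 0, 0, 0, 0, 0, 0, 0, 0, 0, 0, 0, 0, 0, 0, 0, 0, 0, 0, 0, 0, 0, 0, 0, 0, 0, 0, 0, 0, 0, 0, 0, 0, 0, 0, 0, 0, 0, 0, 0, 0, 0, 0, 0, 0, 0, 0, 0, 0, 0, 0, 0, 0, 1])))) (.node (.node (.leaf ([])) (.leaf ([]))) (.node (.leaf ([]))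 (.leaf ([572178, 3603266, 2255073, (-3449485), (-3842458), (-1084709), 2434613, 1479749, (-2591023), 644244, 12519, 4457528, (-404065), 3699357, (-918008), (-3005034), 0, 0, 0, 0, 0, 0, 0, 0, (-431570), (-675174), 455163, 46364, (-213362), 61715, 3000, (-4118), (-7548), (-11040), (-1425), (-139), (-6233), (-5618), (-5672), (-8191), (-498), (-4751), 5069, (-1394), 1761, (-5957), (-11418), 8241, (-4847), 216, (-6103), 90, 19, (-57), (-48), 19, (-3), 10, (-25), 49, 2, (-43), 38, 2, 22, (-53), 29, 0, (-9), 5, 3, 11, (-7), 35, (-1)]))))) (.node (.node (.node (.leaf ([])) (.leaf ([0, 0, 0, 0, 0, 0, 0, 0, 0, 0, 0, 0, 0, 0, 0, 0, 0, 0, 0, 0, 0, 0, 0, 0, 0, 0, 0, 0, 0, 0, 0, 0, 0, 0, 0, 0, 0, 0, 0, 0, 0, 0, 0, 0, 0, 0, 0, 0, 0, 0, 0, 0, 0, 0, 0, 0, 0, 0, 0, 0, 0, 1]))) (.node (.leaf ([])) (.leaf ([(-549027), (-2818085), (-1564690), 3119590, 3466666, 690808, (-2418245), (-1352628), 2247924, (-658517), (-121132), (-4020052), 667120, (-3274333), 773881, 3039990, 0,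 0, 0, 0, 0, 0, 0, 0, 414282, 654250, (-432697), (-47982), 216144, (-79051), (-3136), 2925, 6128, 10036, 649, (-58), 5076, 5536, 5484, 7751, 1169, 4938, (-4694), 940, (-401), 4729, 9711, (-7533), 4266, 326, 5328, (-92), 26, 25, 18, (-10), (-2), 4, 1, (-7), (-3), 9, (-13), 2, (-6), 11, (-5), (-2), (-4), (-7), 2, (-5), 7, (-13), 4])))) (.node (.node (.leaf ([])) (.leaf ([]))) (.node (.leaf ([])) (.leaf ([(-1015014), (-4729601), (-2478192), 5654432, 6239271, 1024038, (-4495433), (-2456731), 4003566, (-1252123), (-308474), (-7279877), 1422243, (-5863770), 1370955, 5684025, 0, 0, 0, 0, 0, 0, 0, 0, 759577, 1210634, (-791893), (-90164), 406768, (-162794), (-5978), 5637, 10102, 17774, 612, (-273), 8695, 10472, 10277, 13343, 2330, 8840, (-8300), 685, (-75), 7692, 16603, (-13425), 7821, 831, 9108, (-167), 77, 12, 2, (-4), 1, 20, (-20), 28, (-8), (-22), (-9), 11, 7, (-12), 7, (-9), (-8), (-9), 7, 0, 10, 6, 18])))))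

/-- data -/
def val0_11000 : Trie (Vec) := .node (.node (.node (.node (.node (.leaf ([])) (.leaf ([14330115, 95690650, 57261602, (-82776560), (-97135812), (-28593994), 59684520, 35348940, (-62735755), 14325613, (-1901100), 102936933, (-8435347), 89633252, (-21517560), (-73694247), 0, 0, 0, 0, 0, 0, 0, 0, (-10980244), (-16181285), 11255960, 1262260, (-5099011), 1251584, 70681, (-5005), (-205028), (-304819), (-48082), (-628), (-148333), (-117218), (-116187), (-232279), (-49915), (-154430), 126847, (-91824), 41355, (-164235), (-305445), 232190, (-96105), 3780, (-154027), 2415, 20, (-1232), (-959), 428, 33, 128, (-408), 817, 48, (-832), 660, 23, 394, (-967), 422, 14, (-15), 215, (-2), 246, (-156), 698, 3]))) (.leaf ([113341, 495970, 252661, (-625165), (-682748), (-98728), 499551, 271002, (-438849), 141977, 39949, 800581, (-169086), 642066, (-150095), (-633603), 0, 0, 0, 0, 0, 0, 0, 0, (-84166), (-134015), 87265, 10195, (-45640), 19087, 676, (-380), (-1035),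 (-1977), (-2), 64, (-939), (-1143), (-1134), (-1285), (-353), (-977), 922, (-65), (-47), (-724), (-1790), 1429, (-835), (-125), (-1082), 4, (-14), 3, 11, (-2), 3, (-5), 6, (-10), 5, 8, 3, 0, (-1), 7, (-3), (-1), (-1), 0, 0, 0, 3, (-6), (-2)]))) (.node (.leaf ([(-15605), (-145463), (-85009), 82245, 115674, 48011, (-56175), (-33897), 67633, (-7117), 14347, (-86258), (-6780), (-94452), 21379, 67514, 0, 0, 0, 0, 0, 0, 0, 0, 12419, 14430, (-11677), (-1618), 4179, 383, (-63), (-311), 308, 447, 125, (-4), 154, 39, 32, 333, 171, 279, (-134), 303, (-77), 260, 431, (-357), 26, (-20), 172, 0, 1, 0, 0, 0, 0, 0, 0, 0, 0, 0, 0, 0, 0, 0, (-1)])) (.leaf ([0, 0, 0, 0, 0, 0, 0, 0, 0, 0, 0, 0, 0, 0, 0, 0, 0, 0, 0, 0, 0, 0, 0, 0, 0, 0, 0, 0, 0, 0, 0, 0, 0, 0, 0, 0, 0, 0, 0, 0, 0, 0, 0, 0, 0, 0, 0, 0, 0, 0, 0, 0, 1])))) (.node (.node (.leaf ([])) (.leaf ([23207, 127558, 71995, (-130965), (-148086), (-33334), 100168, 56600, (-95367), 26048, 2512, 165875, (-24568), 138588, (-32542),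 (-125464), 0, 0, 0, 0, 0, 0, 0, 0, (-17485), (-27030), 18141, 2027, (-8868), 2981, 141, (-116), (-271), (-445), (-47), 5, (-217), (-224), (-223), (-323), (-59), (-214), 201, (-59), 32, (-222), (-430), 335, (-181), (-11), (-221), (-1), 1, 1, (-1), 0, 0, 0, 1, 0, 0, 0, 0, 0, 0, 0, (-1), 0, 0, 0, 0, (-1)]))) (.node (.leaf ([])) (.leaf ([0, 0, 0, 0, 0, 0, 0, 0, 0, 0, 0, 0, 0, 0, 0, 0, 0, 0, 0, 0, 0, 0, 0, 0, 0, 0, 0, 0, 0, 0, 0, 0, 0, 0, 0, 0, 0, 0, 0, 0, 0, 0, 0, 0, 0, 0, 0, 0, 0, 0, 0, 0, 1, 0, 0, 0, (-1)]))))) (.node (.node (.node (.node (.leaf ([0, 0, 0, 0, 0, 0, 0, 0, 0, 0, 0, 0, 0, 0, 0, 0, 0, 0, 0, 0, 0, 0, 0, 0, 0, 0, 0, 0, 0, 0, 0, 0, 0, 0, 0, 0, 0, 0, 0, 0, 0, 0, 0, 0, 0, 0, 0, 0, 0, 0, 0, 0, 1])) (.leaf ([]))) (.leaf ([]))) (.node (.leaf ([0, 0, 0, 0, 0, 0, 0, 0, 0, 0, 0, 0, 0, 0, 0, 0, 0, 0, 0, 0, 0, 0, 0, 0, 0, 0, 0, 0, 0, 0, 0, 0, 0, 0, 0, 0, 0, 0, 0, 0, 0, 0, 0, 0, 0, 0, 0, 0, 0, 0, 0, 0, 0, 0, 0, 0, 0, 0, 0, 0, 0, 0, 0, 0, 0, 0, 1])) (.leaf ([0,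 0, 0, 0, 0, 0, 0, 0, 0, 0, 0, 0, 0, 0, 0, 0, 0, 0, 0, 0, 0, 0, 0, 0, 0, 0, 0, 0, 0, 0, 0, 0, 0, 0, 0, 0, 0, 0, 0, 0, 0, 0, 0, 0, 0, 0, 0, 0, 0, 0, 0, 0, 1, 0, 0, 0, 0, 0, (-1)])))) (.node (.node (.leaf ([])) (.leaf ([]))) (.node (.leaf ([0, 0, 0, 0, 0, 0, 0, 0, 0, 0, 0, 0, 0, 0, 0, 0, 0, 0, 0, 0, 0, 0, 0, 0, 0, 0, 0, 0, 0, 0, 0, 0, 0, 0, 0, 0, 0, 0, 0, 0, 0, 0, 0, 0, 0, 0, 0, 0, 0, 0, 0, 0, 1])) (.leaf ([])))))

/-- data -/
def val0_11001 : Trie (Vec) := .node (.node (.node (.node (.node (.leaf ([])) (.leaf ([178335, (-52180), (-104315), (-1099576), (-876142), 197244, 997299, 507886, (-665771), 384679, 304373, 1727899, (-607574), 1044716, (-252313), (-1303193), 0, 0, 0, 0, 0, 0, 0, 0, (-127956), (-279425), 153583, 11834, (-100212), 64031, 1491, (-6972), (-200), (-941), 1261, (-71), (-1448), (-3689), (-3728), (-1426), 1652, 310, 1677, 3738, (-1059), 67, (-1010), 405, (-2789), (-558), (-1421), 102, (-28), (-22), (-21), 11, (-6), (-2), (-6), 12, (-9), (-8),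 (-12), (-6), 3, 8, 4, 7, 20, 13, 1, 9, (-14), 13, (-1)]))) (.leaf ([]))) (.node (.leaf ([(-2286728), (-12986181), (-7500369), 13136304, 14824898, 3494787, (-9890590), (-5665693), 9645574, (-2600344), (-238368), (-16785326), 2264275, (-13943266), 3326206, 12353678, 0, 0, 0, 0, 0, 0, 0, 0, 1730998, 2683931, (-1801868), (-198186), 871399, (-285258), (-12368), 9926, 28014, 43912, 4483, (-47), 22267, 21957, 21726, 33584, 5244, 21349, (-19852), 6887, (-3671), 22098, 43367, (-33165), 17368, 499, 23040, (-446), 69, 164, 112, (-55), (-7), 3, 29, (-81), (-7), 78, (-80), 10, (-42), 101, (-34), (-10), (-7), (-33), 5, (-30), 24, (-78), 3])) (.leaf ([0, 0, 0, 0, 0, 0, 0, 0, 0, 0, 0, 0, 0, 0, 0, 0, 0, 0, 0, 0, 0, 0, 0, 0, 0, 0, 0, 0, 0, 0, 0, 0, 0, 0, 0, 0, 0, 0, 0, 0, 0, 0, 0, 0, 0, 0, 0, 0, 0, 0, 0, 0, 0, 0, 0, 0, 0, 0, 0, 0, 0, 0, 0, 0, 0, 0, 0, 0, 1])))) (.node (.node (.leaf ([])) (.leaf ([]))) (.node (.leaf ([])) (.leaf ([]))))) (.node (.node (.node (.leaf ([])) (.leaf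 ([]))) (.node (.leaf ([])) (.leaf ([])))) (.node (.node (.leaf ([])) (.leaf ([]))) (.node (.leaf ([0, 0, 0, 0, 0, 0, 0, 0, 0, 0, 0, 0, 0, 0, 0, 0, 0, 0, 0, 0, 0, 0, 0, 0, 0, 0, 0, 0, 0, 0, 0, 0, 0, 0, 0, 0, 0, 0, 0, 0, 0, 0, 0, 0, 0, 0, 0, 0, 0, 0, 0, 0, 1, 0, 0, 0, 0, 0, 0, 0, 0, 0, 0, 0, 0, 0, 0, 0, 0, 0, 0, 0, 0, 0, (-1)])) (.leaf ([12240, 62748, 37493, (-72245), (-77248), (-16336), 53197, 31174, (-52261), 15285, 3166, 93808, (-14052), 75430, (-18690), (-66411), 0, 0, 0, 0, 0, 0, 0, 0, (-9360), (-14580), 9662, 1102, (-4799), 1772, 78, (-69), (-126), (-216), 4, 5, (-124), (-116), (-123), (-151), (-26), (-101), 113, (-9), 18, (-67), (-194), 143, (-95), (-17), (-129), (-1), 0, 0, 1, 0, 0, 0, 0, 0, 1, 0, 0, 0, 0, 1, 0, (-1), 1])))))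

/-- data -/
def val0_110100 : Trie (Vec) := .node (.node (.node (.node (.leaf ([])) (.leaf ([0, 0, 0, 0, 0, 0, 0, 0, 0, 0, 0, 0, 0, 0, 0, 0, 0, 0, 0, 0, 0, 0, 0, 0, 0, 0, 0, 0, 0, 0, 0, 0, 0, 0, 0, 0, 0, 0, 0, 0, 0, 0, 0, 0, 0, 0, 0, 0, 0, 0, 0, 0, 1]))) (.leaf ([]))) (.node (.leaf ([])) (.leaf ([16119, 134331, 77229, (-85471), (-114991), (-42551), 60848, 35745, (-67766), 9848, (-10897), 93096, 656, 96109, (-21751), (-74074), 0, 0, 0, 0, 0, 0, 0, 0, (-12841), (-15752), 12216, 1657, (-4773), 229, 93, 214, (-277), (-418), (-94), 6, (-151), (-66), (-70), (-334), (-146), (-262), 146, (-245), 56, (-233), (-401), 326, (-52), (-7), (-172), (-7), 0, 3, 1, 0, 0, 0, 1, 0, 1, 0, 0, 1, (-1), 1, (-1), (-1), 1, 0, 0, (-1)])))) (.node (.node (.leaf ([])) (.leaf ([(-526086), (-2696591), (-1505795), 3003189, 3325887, 663524, (-2326463), (-1303106), 2164456, (-636747), (-123145), (-3890857), 641632, (-3153262), 746416, 2925069, 0, 0, 0, 0, 0, 0, 0, 0, 396616, 630364, (-415719),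 (-45531), 207821, (-76349), (-2950), 3201, 5876, 9559, 632, (-31), 4906, 5437, 5366, 7436, 948, 4597, (-4539), 722, (-417), 4614, 9341, (-7194), 4186, 270, 5138, (-115), 31, 33, 20, (-12), (-1), 5, 3, (-12), (-1), 12, (-13), 4, (-6), 14, (-4), (-5), (-7), (-9), 2, (-7), 7, (-13), 2]))) (.node (.leaf ([])) (.leaf ([(-29218007), (-160313822), (-90724342), 166337313, 187501297, 41592791, (-126828142), (-71827388), 121297087, (-33604580), (-3998152), (-212229900), 31263469, (-175796683), 41694776, 158830248, 0, 0, 0, 0, 0, 0, 0, 0, 22120474, 34303616, (-22962783), (-2571623), 11224240, (-3825966), (-160240), 114948, 345061, 554693, 48947, (-2831), 276175, 279736, 276765, 423619, 74281, 275455, (-250849), 83141, (-36835), 268886, 539521, (-418548), 217659, 11292, 289233, (-4866), 1244, 1549, 928, (-549), (-134), 191, 117, (-539), (-193), 637, (-893), 102, (-363), 833, (-276), (-100), (-176), (-391), 95, (-317), 301, (-700), 180]))))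

/-- data -/
def val0_110101 : Trie (Vec) := .node (.node (.node (.leaf ([])) (.leaf ([]))) (.node (.leaf ([119261, 793124, 458940, (-670505), (-804453), (-230878), 494744, 286309, (-506577), 114630, (-19595), 819929, (-73744), 726503, (-170761), (-612796), 0, 0, 0, 0, 0, 0, 0, 0, (-91699), (-132528), 92975, 10871, (-41974), 10230, 600, 193, (-1703), (-2576), (-424), 6, (-1162), (-928), (-906), (-2024), (-531), (-1387), 1037, (-873), 299, (-1392), (-2533), 1999, (-723), 22, (-1214), 23, (-3), (-7), (-7), 3, 0, 0, (-1), 4, 0, (-4), 3, 0, 1, (-5), 1, 1, 1, 2, (-1), 1, (-1), 4])) (.leaf ([3797725, 16697166, 9000817, (-21708579), (-23190876), (-3536018), 17198602, 9481592, (-15279311), 4999446, 1557413, 28705247, (-5708890), 22433137, (-5320953), (-21762986), 0, 0, 0, 0, 0, 0, 0, 0, (-2834874), (-4675534), 3006770, 323909, (-1570927), 656331, 22870, (-35456), (-36288), (-62704), (-287), 411, (-34098), (-43048), (-42703), (-48175), (-3027), (-28525), 32092, 5094,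 (-42), (-27251), (-60202), 46503, (-33054), (-3363), (-35162), 733, (-251), (-167), (-75), 63, 11, (-50), 22, 19, 17, (-16), 83, (-31), 28, (-39), 10, 27, 36, 48, (-13), 33, (-49), 62, (-32)])))) (.node (.node (.leaf ([])) (.leaf ([(-2047352), (-1744979), 671970, 11101799, 10301763, (-1612662), (-10365448), (-5026160), 6777538, (-3589089), (-2452951), (-15760196), 6041932, (-10558179), 2368549, 13557697, 0, 0, 0, 0, 0, 0, 0, 0, 1485302, 2786361, (-1627354), (-178561), 1019229, (-615839), (-15804), 38244, 4840, 20303, (-10175), (-1089), 12655, 30866, 30658, 17127, (-2994), 8543, (-15723), (-22772), 10294, 922, 15231, (-14140), 21589, 6218, 13666, (-291), 359, (-130), (-148), 34, (-19), 106, (-160), 232, (-25), (-199), 56, 35, 68, (-210), 116, (-22), (-61), (-10), 23, 30, 30, 102, 54]))) (.node (.leaf ([(-9126), (-72489), (-40206), 46503, 63166, 22046, (-33919), (-19278), 36699, (-5411), 5823, (-49327), 783, (-51780), 11414, 41616, 0, 0, 0, 0, 0, 0, 0, 0,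 7028, 8615, (-6655), (-921), 2692, (-218), (-38), (-156), 152, 244, 53, (-7), 84, 31, 28, 166, 97, 145, (-81), 146, (-25), 121, 226, (-189), 21, 1, 95, 2, 0, (-1), (-1), 0, 0, 0, 0, 1, 1, 0, 1, 0, 0, (-1), 0, 0, 0, 0, 0, 0, 0, 1])) (.leaf ([7607224, 36072960, 19777573, (-43445922), (-47242368), (-8273269), 34156247, 18930902, (-30918679), 9637510, 2490064, 56963743, (-10447558), 45268093, (-10698205), (-43102376), 0, 0, 0, 0, 0, 0, 0, 0, (-5702913), (-9269567), 6028263, 648127, (-3086342), 1214559, 44140, (-60718), (-79672), (-131999), (-5174), 556, (-69663), (-83148), (-82120), (-103564), (-9295), (-61683), 65243, (-267), 1930, (-61951), (-128650), 98774, (-63915), (-5288), (-72265), 1904, (-470), (-489), (-367), 176, 17, (-66), (-3), 140, (-1), (-120), 142, (-69), 96, (-148), 13, 57, 87, 126, (-23), 72, (-115), 212, (-3)]))))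

/-- data -/
def val0_11011 : Trie (Vec) := .node (.node (.node (.node (.node (.leaf ([])) (.leaf ([(-659443), (-3872402), (-2253604), 3790464, 4312081, 1066844, (-2828323), (-1631002), 2799858, (-732280), (-37915), (-4814646), 600314, (-4037057), 964513, 3525286, 0, 0, 0, 0, 0, 0, 0, 0, 498881, 767714, (-518427), (-56891), 248103, (-77812), (-3546), 2536, 8300, 12901, 1460, (-7), 6502, 6209, 6166, 9782, 1637, 6261, (-5779), 2303, (-1202), 6593, 12807, (-9733), 4942, 74, 6719, (-120), 13, 49, 32, (-14), (-2), 0, 10, (-27), (-1), 24, (-21), 4, (-10), 31, (-9), (-2), (-2), (-11), 2, (-9), 3, (-20)]))) (.leaf ([]))) (.node (.leaf ([])) (.leaf ([])))) (.node (.node (.leaf ([])) (.leaf ([]))) (.node (.leaf ([(-258283), (-2784219), (-1813210), 1549654, 2067850, 1020465, (-917062), (-637203), 1319323, (-119926), 274744, (-1766640), (-276105), (-1810561), 446358, 1066919, 0, 0, 0, 0, 0, 0, 0, 0, 203079, 251521, (-201035), (-22011), 66027, 15759, (-727), (-2643),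 5881, 7518, 2529, 139, 3364, 1080, 964, 5687, 1604, 3818, (-2472), 4617, (-2157), 5233, 8083, (-5961), 1148, (-790), 3341, (-128), (-21), 61, 59, (-18), 8, (-11), 27, (-50), 9, 40, (-14), 4, (-13), 46, (-20), (-7), 1, (-11), 0, (-11), 6, (-30), (-4)])) (.leaf ([]))))) (.node (.node (.node (.leaf ([])) (.leaf ([]))) (.node (.leaf ([])) (.leaf ([(-8699857), (-42859844), (-23741462), 49707803, 54495838, 10178794, (-38645729), (-21597722), 35596589, (-10777760), (-2410598), (-64565619), 11265000, (-51935327), 12334515, 48646535, 0, 0, 0, 0, 0, 0, 0, 0, 6562475, 10481138, (-6879056), (-758385), 3481045, (-1325530), (-50291), 55714, 93191, 154191, 6485, (-877), 80355, 89781, 89640, 119808, 15317, 74910, (-74238), 7897, (-4843), 69999, 148740, (-114989), 69770, 6492, 83863, (-1220), 328, 374, 283, (-147), (-28), 42, 10, (-105), (-61), 173, (-247), (-5), (-122), 184, (-78), 0, (-54), (-94), 7, (-73), 117, (-222), 65])))) (.node (.node (.leaf ([])) (.leaf ([240035,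 1549943, 936268, (-1400837), (-1612563), (-459902), 1008223, 599275, (-1055491), 251355, (-14865), 1768020, (-159333), 1509040, (-365282), (-1246758), 0, 0, 0, 0, 0, 0, 0, 0, (-182496), (-274839), 188684, 20679, (-86891), 23330, 1200, (-675), (-3285), (-4916), (-721), (-21), (-2512), (-2131), (-2107), (-3657), (-608), (-2346), 2126, (-1145), 709, (-2630), (-4961), 3734, (-1758), 68, (-2550), 49, (-2), (-25), (-12), 8, 1, 1, (-7), 16, 1, (-14), 14, (-1), 7, (-19), 6, 1, (-1), 4, 0, 5, (-1), 11, 1]))) (.node (.leaf ([])) (.leaf ([0, 0, 0, 0, 0, 0, 0, 0, 0, 0, 0, 0, 0, 0, 0, 0, 0, 0, 0, 0, 0, 0, 0, 0, 0, 0, 0, 0, 0, 0, 0, 0, 0, 0, 0, 0, 0, 0, 0, 0, 0, 0, 0, 0, 0, 0, 0, 0, 0, 0, 0, 0, 1])))))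

/-- data -/
def val0_11100 : Trie (Vec) := .node (.node (.node (.node (.node (.leaf ([])) (.leaf ([0, 0, 0, 0, 0, 0, 0, 0, 0, 0, 0, 0, 0, 0, 0, 0, 0, 0, 0, 0, 0, 0, 0, 0, 0, 0, 0, 0, 0, 0, 0, 0, 0, 0, 0, 0, 0, 0, 0, 0, 0, 0, 0, 0, 0, 0, 0, 0, 0, 0, 0, 0, 1]))) (.leaf ([]))) (.node (.leaf ([0, 0, 0, 0, 0, 0, 0, 0, 0, 0, 0, 0, 0, 0, 0, 0, 0, 0, 0, 0, 0, 0, 0, 0, 0, 0, 0, 0, 0, 0, 0, 0, 0, 0, 0, 0, 0, 0, 0, 0, 0, 0, 0, 0, 0, 0, 0, 0, 0, 0, 0, 0, 1])) (.leaf ([])))) (.node (.node (.leaf ([])) (.leaf ([(-12240), (-62748), (-37493), 72245, 77248, 16336, (-53197), (-31174), 52261, (-15285), (-3166), (-93808), 14052, (-75430), 18690, 66411, 0, 0, 0, 0, 0, 0, 0, 0, 9360, 14580, (-9662), (-1102), 4799, (-1772), (-78), 69, 126, 216, (-4), (-5), 124, 116, 123, 151, 26, 101, (-113), 9, (-18), 67, 194, (-143), 95, 17, 129, 1, 1, 0, (-1), 0, 0, 0, 0, 0, (-1), 0, 0, 0, 0, (-1), 0, 1, (-1)]))) (.node (.leaf ([])) (.leaf ([]))))) (.node (.node (.node (.leaf ([])) (.leaf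 ([]))) (.node (.leaf ([])) (.leaf ([0, 0, 0, 0, 0, 0, 0, 0, 0, 0, 0, 0, 0, 0, 0, 0, 0, 0, 0, 0, 0, 0, 0, 0, 0, 0, 0, 0, 0, 0, 0, 0, 0, 0, 0, 0, 0, 0, 0, 0, 0, 0, 0, 0, 0, 0, 0, 0, 0, 0, 0, 0, 0, 0, 0, 0, 1])))) (.node (.node (.leaf ([])) (.leaf ([(-1735691), (-17352245), (-11256212), 10458053, 13531496, 6236630, (-6423024), (-4342277), 8714513, (-1018565), 1520891, (-12175358), (-1298146), (-12053750), 2975353, 7562211, 0, 0, 0, 0, 0, 0, 0, 0, 1377586, 1757686, (-1369475), (-151980), 483197, 59444, (-6029), (-15973), 37242, 47969, 14140, 865, 22245, 7766, 7701, 37317, 10332, 25297, (-16752), 28255, (-12575), 31278, 50932, (-37190), 8169, (-3643), 22808, (-366), (-206), 307, 341, (-114), 25, (-96), 186, (-294), 24, 292, (-125), (-25), (-120), 290, (-163), 0, 9, (-47), (-8), (-70), 46, (-224), (-28)]))) (.node (.leaf ([])) (.leaf ([0, 0, 0, 0, 0, 0, 0, 0, 0, 0, 0, 0, 0, 0, 0, 0, 0, 0, 0, 0, 0, 0, 0, 0, 0, 0, 0, 0, 0, 0, 0, 0, 0, 0, 0, 0, 0, 0, 0, 0, 0, 0,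 0, 0, 0, 0, 0, 0, 0, 0, 0, 0, 1])))))

/-- data -/
def val0_11101 : Trie (Vec) := .node (.node (.node (.node (.node (.leaf ([])) (.leaf ([]))) (.leaf ([]))) (.node (.leaf ([])) (.leaf ([977, 39180, 20900, 1371, (-14721), (-14993), (-2252), (-1398), (-2918), (-5763), (-9782), (-14259), 11617, 2978, 692, 3988, 0, 0, 0, 0, 0, 0, 0, 0, (-975), 1222, 349, 219, 657, (-1248), (-8), 216, (-82), (-108), (-69), 3, 1, 49, 57, (-83), (-83), (-90), (-2), (-155), 23, (-98), (-104), 105, 45, 18, (-6), (-2), 1, 2, (-1), 0, 0, 0, 1, 0, 0, 1, 0, 0, (-1), 0, (-1), 0, 0, 0, 0, (-1)])))) (.node (.node (.leaf ([0, 0, 0, 0, 0, 0, 0, 0, 0, 0, 0, 0, 0, 0, 0, 0, 0, 0, 0, 0, 0, 0, 0, 0, 0, 0, 0, 0, 0, 0, 0, 0, 0, 0, 0, 0, 0, 0, 0, 0, 0, 0, 0, 0, 0, 0, 0, 0, 0, 0, 0, 0, 1])) (.leaf ([3649921, 27856607, 17188227, (-21305261), (-25780658), (-8958233), 14679000, 9016896, (-16626314), 3201358, (-1267083), 25987694, (-733618), 23503932, (-5687083), (-17907825), 0, 0, 0, 0, 0, 0, 0, 0, (-2813676),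 (-3989299), 2860725, 319040, (-1213677), 192226, 16301, 7833, (-59338), (-84293), (-17601), (-565), (-40258), (-26483), (-25994), (-63593), (-14984), (-42617), 33057, (-32945), 15339, (-49038), (-86285), 64737, (-22633), 3326, (-41512), 791, 54, (-429), (-332), 143, 6, 54, (-165), 317, (-2), (-290), 201, (-3), 127, (-340), 151, 14, (-12), 73, (-2), 87, (-40), 230, 22]))) (.node (.leaf ([])) (.leaf ([]))))) (.node (.node (.node (.leaf ([])) (.leaf ([]))) (.node (.leaf ([0, 0, 0, 0, 0, 0, 0, 0, 0, 0, 0, 0, 0, 0, 0, 0, 0, 0, 0, 0, 0, 0, 0, 0, 0, 0, 0, 0, 0, 0, 0, 0, 0, 0, 0, 0, 0, 0, 0, 0, 0, 0, 0, 0, 0, 0, 0, 0, 0, 0, 0, 0, 0, 0, 0, 0, 0, 0, 0, 0, 0, 0, 0, 0, 0, 1])) (.leaf ([])))) (.node (.node (.leaf ([])) (.leaf ([(-12758), (-32482), (-13268), 71651, 70506, 1090, (-62027), (-32061), 47074, (-19793), (-10697), (-99711), 28907, (-71510), 16378, 79946, 0, 0, 0, 0, 0, 0, 0, 0, 9246, 16863, (-10211), (-1025), 5899, (-3055), (-93), 234, 75, 161, (-22), (-1),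 99, 187, 183, 117, (-27), 56, (-98), (-110), 30, 66, 150, (-122), 142, 22, 100, 1, 0, (-1), 1, 0, 0, 0, (-1), 0, 0, (-1), 0, 0, 0, 0, 1, 0, 0, 0, 0, 1]))) (.node (.leaf ([])) (.leaf ([0, 0, 0, 0, 0, 0, 0, 0, 0, 0, 0, 0, 0, 0, 0, 0, 0, 0, 0, 0, 0, 0, 0, 0, 0, 0, 0, 0, 0, 0, 0, 0, 0, 0, 0, 0, 0, 0, 0, 0, 0, 0, 0, 0, 0, 0, 0, 0, 0, 0, 0, 0, 1, (-1)])))))

/-- data -/
def val0_11110 : Trie (Vec) := .node (.node (.node (.node (.node (.leaf ([])) (.leaf ([(-1554213), (-6644724), (-3433267), 8738172, 9408754, 1318284, (-7055888), (-3821929), 6110049, (-2033199), (-647129), (-11487717), 2431770, (-9008334), 2103842, 8953190, 0, 0, 0, 0, 0, 0, 0, 0, 1161498, 1905370, (-1226356), (-135057), 644357, (-272611), (-9408), 12793, 14662, 25898, 54, (-294), 13445, 17373, 17143, 20096, 2075, 12339, (-13068), (-1396), 675, 11098, 24496, (-19307), 13037, 1590, 14115, (-318), 126, 53, 21, (-21), (-6), 28, (-23), 16, (-6), (-10), (-16), 15, (-3), (-7), 13, (-11), (-22), (-22),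 6, (-7), 21, (-13), 12]))) (.leaf ([0, 0, 0, 0, 0, 0, 0, 0, 0, 0, 0, 0, 0, 0, 0, 0, 0, 0, 0, 0, 0, 0, 0, 0, 0, 0, 0, 0, 0, 0, 0, 0, 0, 0, 0, 0, 0, 0, 0, 0, 0, 0, 0, 0, 0, 0, 0, 0, 0, 0, 0, 0, 1]))) (.node (.leaf ([])) (.leaf ([(-95756), (-185918), (-89333), 580866, 525101, (-7958), (-491951), (-262226), 380137, (-170427), (-107229), (-857324), 238936, (-576987), 139039, 633154, 0, 0, 0, 0, 0, 0, 0, 0, 70764, 136563, (-80372), (-7234), 47357, (-25706), (-704), 2455, 521, 1029, (-341), 24, 872, 1578, 1578, 973, (-487), 235, (-878), (-1137), 268, 315, 1042, (-653), 1215, 197, 897, (-42), 13, 11, 5, (-6), 1, 1, 3, (-4), 2, 4, 1, 1, (-4), (-2), (-4), (-2), (-6), (-4), (-1), (-4), 7, (-7), 1])))) (.node (.node (.leaf ([])) (.leaf ([0, 0, 0, 0, 0, 0, 0, 0, 0, 0, 0, 0, 0, 0, 0, 0, 0, 0, 0, 0, 0, 0, 0, 0, 0, 0, 0, 0, 0, 0, 0, 0, 0, 0, 0, 0, 0, 0, 0, 0, 0, 0, 0, 0, 0, 0, 0, 0, 0, 0, 0, 0, 1]))) (.node (.leaf ([])) (.leaf ([(-31896), (-1048544), (-725597), 206019,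 459759, 454755, 4934, (-67110), 269289, 85035, 203648, (-90397), (-318916), (-325548), 85258, (-57424), 0, 0, 0, 0, 0, 0, 0, 0, 31006, (-2351), (-22014), (-3750), (-10219), 28490, 183, (-3180), 2143, 2380, 1309, 58, 815, (-870), (-856), 1691, 1080, 1478, (-427), 2917, (-1174), 1883, 2621, (-1918), (-500), (-444), 847, 21, (-24), 12, 11, (-3), 1, (-7), 14, (-18), 0, 19, (-9), (-2), (-5), 21, (-12), 1, 4, (-1), (-2), (-4), (-1), (-8), (-2)]))))) (.node (.node (.node (.leaf ([])) (.leaf ([]))) (.node (.leaf ([0, 0, 0, 0, 0, 0, 0, 0, 0, 0, 0, 0, 0, 0, 0, 0, 0, 0, 0, 0, 0, 0, 0, 0, 0, 0, 0, 0, 0, 0, 0, 0, 0, 0, 0, 0, 0, 0, 0, 0, 0, 0, 0, 0, 0, 0, 0, 0, 0, 0, 0, 0, 1])) (.leaf ([])))) (.node (.node (.leaf ([(-119261), (-793124), (-458940), 670505, 804453, 230878, (-494744), (-286309), 506577, (-114630), 19595, (-819929), 73744, (-726503), 170761, 612796, 0, 0, 0, 0, 0, 0, 0, 0, 91699, 132528, (-92975), (-10871), 41974, (-10230), (-600), (-193), 1703, 2576, 424,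 (-6), 1162, 928, 906, 2024, 531, 1387, (-1037), 873, (-299), 1392, 2533, (-1999), 723, (-22), 1214, (-23), 4, 7, 7, (-3), 0, 0, 1, (-4), 0, 4, (-3), 0, (-1), 5, (-1), (-1), (-1), (-2), 1, (-1), 1, (-4)])) (.leaf ([(-2165301), (-9391002), (-4869929), 12157921, 13137538, 1893733, (-9774848), (-5309984), 8519077, (-2804635), (-860067), (-15927591), 3323604, (-12541560), 2934975, 12394065, 0, 0, 0, 0, 0, 0, 0, 0, 1617236, 2639831, (-1703439), (-188892), 891348, (-374819), (-13146), 17158, 20448, 36154, 291, (-436), 18571, 23912, 23566, 27897, 3148, 17345, (-17949), (-1699), 616, 15479, 34017, (-27132), 17937, 2075, 19321, (-407), 170, 50, 23, (-21), (-1), 40, (-38), 37, (-10), (-29), (-22), 23, 6, (-15), 16, (-20), (-25), (-26), 13, (-5), 27, (-7), 26]))) (.node (.leaf ([])) (.leaf ([])))))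

/-- data -/
def val0_11111 : Trie (Vec) := .node (.node (.node (.node (.node (.leaf ([])) (.leaf ([(-44141143), (-213770875), (-116223799), 249972569, 274883514, 49353859, (-196234338), (-108657908), 178359591, (-54584710), (-12670658), (-324044058), 58794789, (-260698302), 61454386, 247471370, 0, 0, 0, 0, 0, 0, 0, 0, 33243753, 53037792, (-34780080), (-3877217), 17672954, (-6825875), (-254832), 265338, 464178, 782962, 32393, (-6802), 398872, 457099, 453025, 603383, 86619, 383349, (-375359), 40043, (-16783), 352836, 749287, (-585768), 348548, 33623, 420845, (-7374), 2803, 1779, 728, (-656), (-308), 588, (-295), (-84), (-359), 327, (-1035), 216, (-328), 450, (-14), (-158), (-475), (-590), 175, (-381), 482, (-655), 373]))) (.leaf ([]))) (.node (.leaf ([])) (.leaf ([])))) (.node (.node (.leaf ([])) (.leaf ([(-2768), (-2668), (-972), 16766, 14115, (-1378), (-14026), (-7537), 10594, (-5246), (-3636), (-24936), 7652, (-16091), 3992, 18166, 0, 0, 0, 0, 0, 0, 0,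 0, 1958, 3889, (-2221), (-209), 1390, (-840), (-22), 85, 5, 22, (-15), 0, 24, 49, 50, 10, (-18), (-3), (-25), (-49), 8, 0, 22, (-13), 39, 9, 23, (-1), 0, 1, 0, 0, 0, 0, 0, 0, 0, 0, 0, 0, 0, 0, 0, 0, 0, (-1)]))) (.node (.leaf ([0, 0, 0, 0, 0, 0, 0, 0, 0, 0, 0, 0, 0, 0, 0, 0, 0, 0, 0, 0, 0, 0, 0, 0, 0, 0, 0, 0, 0, 0, 0, 0, 0, 0, 0, 0, 0, 0, 0, 0, 0, 0, 0, 0, 0, 0, 0, 0, 0, 0, 0, 0, 0, 0, 0, 0, 0, 0, 0, 0, 0, 0, 0, 0, 0, 0, 0, 0, 0, 0, 0, 0, 0, 0, 1])) (.leaf ([]))))) (.node (.node (.node (.leaf ([])) (.leaf ([0, 0, 0, 0, 0, 0, 0, 0, 0, 0, 0, 0, 0, 0, 0, 0, 0, 0, 0, 0, 0, 0, 0, 0, 0, 0, 0, 0, 0, 0, 0, 0, 0, 0, 0, 0, 0, 0, 0, 0, 0, 0, 0, 0, 0, 0, 0, 0, 0, 0, 0, 0, 1]))) (.node (.leaf ([])) (.leaf ([(-14644), (-102326), (-57173), 79308, 99809, 29678, (-59408), (-33774), 60136, (-12571), 4557, (-92077), 7381, (-86549), 19798, 73482, 0, 0, 0, 0, 0, 0, 0, 0, 11365, 15761, (-11355), (-1357), 5014, (-1031), (-91), (-85), 217, 333, 55, (-5), 129, 97, 104, 274, 99,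 199, (-128), 143, (-18), 177, 317, (-250), 74, 7, 150, 5, 1, (-3), 1, 0, 0, 0, (-1), 0, (-1), 0, 0, (-1), 1, (-1), 1, 1, (-1), 0, 0, 1])))) (.node (.node (.leaf ([])) (.leaf ([]))) (.node (.leaf ([])) (.leaf ([85768, 566990, 330605, (-487534), (-580001), (-165316), 359211, 208597, (-368022), 84865, (-11552), 602934, (-54630), 528066, (-124936), (-444897), 0, 0, 0, 0, 0, 0, 0, 0, (-66160), (-96683), 67459, 7716, (-30515), 7610, 434, 54, (-1236), (-1839), (-298), 4, (-838), (-694), (-678), (-1500), (-352), (-984), 759, (-605), 200, (-1012), (-1822), 1414, (-536), 28, (-884), 24, (-3), (-7), (-8), 2, (-1), 0, (-2), 3, (-1), (-3), 0, (-1), 1, (-3), 2, 2, 2, 2, (-1), 1, (-2), 4])))))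

/-- data -/
def val0 : Trie (Vec) := .node (.node (.node (.node (.node (val0_00000) (val0_00001)) (.node (val0_00010) (val0_00011))) (.node (.node (val0_00100) (.node (val0_001010) (val0_001011))) (.node (val0_00110) (val0_00111)))) (.node (.node (.node (val0_01000) (val0_01001)) (.node (val0_01010) (val0_01011))) (.node (.node (val0_01100) (val0_01101)) (.node (val0_01110) (.node (val0_011110) (val0_011111)))))) (.node (.node (.node (.node (val0_10000) (val0_10001)) (.node (val0_10010) (val0_10011))) (.node (.node (val0_10100) (val0_10101)) (.node (val0_10110) (val0_10111)))) (.node (.node (.node (val0_11000) (val0_11001)) (.node (.node (val0_110100) (val0_110101)) (val0_11011))) (.node (.node (val0_11100) (val0_11101)) (.node (val0_11110) (val0_11111)))))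

/-- data -/
def rank0_00 : Trie (ℕ) := .node (.node (.node (.node (.node (.node (.node (.node (.leaf 0) (.leaf 272)) (.leaf 0)) (.node (.leaf 27) (.leaf 209))) (.node (.node (.leaf 14) (.leaf 0)) (.node (.leaf 0) (.leaf 0)))) (.node (.node (.node (.node (.leaf 9) (.leaf 252)) (.leaf 145)) (.node (.leaf 0) (.leaf 80))) (.node (.node (.leaf 0) (.leaf 205)) (.node (.leaf 44) (.leaf 0))))) (.node (.node (.node (.node (.node (.leaf 0) (.leaf 242)) (.leaf 0)) (.node (.leaf 0) (.leaf 174))) (.node (.node (.leaf 18) (.leaf 180)) (.node (.leaf 0) (.leaf 87)))) (.node (.node (.node (.leaf 0) (.leaf 61)) (.node (.leaf 35) (.leaf 189))) (.node (.node (.leaf 24) (.leaf 261)) (.node (.leaf 47) (.leaf 95)))))) (.node (.node (.node (.node (.node (.node (.leaf 4) (.leaf 99)) (.leaf 0)) (.node (.leaf 0) (.leaf 74))) (.node (.node (.leaf 0) (.leaf 0)) (.node (.leaf 0) (.leaf 85)))) (.node (.node (.node (.leaf 0) (.leaf 59)) (.node (.leaf 34) (.leaf 0))) (.node (.node (.leaf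 0) (.leaf 0)) (.node (.leaf 224) (.leaf 92))))) (.node (.node (.node (.node (.node (.leaf 7) (.leaf 102)) (.leaf 239)) (.node (.leaf 184) (.leaf 77))) (.node (.node (.leaf 134) (.leaf 251)) (.node (.leaf 0) (.leaf 89)))) (.node (.node (.node (.leaf 0) (.leaf 62)) (.node (.leaf 36) (.leaf 153))) (.node (.node (.leaf 0) (.leaf 0)) (.node (.leaf 0) (.leaf 97))))))) (.node (.node (.node (.node (.node (.node (.node (.leaf 0) (.leaf 98)) (.leaf 0)) (.node (.leaf 28) (.leaf 197))) (.node (.node (.leaf 0) (.leaf 0)) (.node (.leaf 0) (.leaf 0)))) (.node (.node (.node (.node (.leaf 10) (.leaf 241)) (.leaf 0)) (.node (.leaf 33) (.leaf 0))) (.node (.node (.leaf 144) (.leaf 70)) (.node (.leaf 0) (.leaf 258))))) (.node (.node (.node (.node (.node (.leaf 0) (.leaf 274)) (.leaf 256)) (.node (.leaf 30) (.leaf 166))) (.node (.node (.leaf 19) (.leaf 0)) (.node (.leaf 0) (.leaf 179)))) (.node (.node (.node (.leaf 12) (.leaf 0)) (.node (.leaf 0) (.leaf 168))) (.node (.node (.leaf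 25) (.leaf 204)) (.node (.leaf 48) (.leaf 96)))))) (.node (.node (.node (.node (.node (.node (.leaf 5) (.leaf 100)) (.leaf 53)) (.node (.leaf 194) (.leaf 75))) (.node (.node (.leaf 0) (.leaf 65)) (.node (.leaf 0) (.leaf 86)))) (.node (.node (.node (.leaf 0) (.leaf 240)) (.node (.leaf 0) (.leaf 82))) (.node (.node (.leaf 0) (.leaf 247)) (.node (.leaf 46) (.leaf 249))))) (.node (.node (.node (.node (.node (.leaf 8) (.leaf 248)) (.leaf 0)) (.node (.leaf 32) (.leaf 78))) (.node (.node (.leaf 0) (.leaf 68)) (.node (.leaf 43) (.leaf 91)))) (.node (.node (.node (.leaf 0) (.leaf 63)) (.node (.leaf 0) (.leaf 0))) (.node (.node (.leaf 183) (.leaf 73)) (.node (.leaf 0) (.leaf 231)))))))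

/-- data -/
def rank0_01 : Trie (ℕ) := .node (.node (.node (.node (.node (.node (.node (.node (.leaf 3) (.leaf 263)) (.leaf 51)) (.node (.leaf 147) (.leaf 229))) (.node (.node (.leaf 15) (.leaf 142)) (.node (.leaf 38) (.leaf 0)))) (.node (.node (.node (.node (.leaf 0) (.leaf 128)) (.leaf 58)) (.node (.leaf 0) (.leaf 0))) (.node (.node (.leaf 165) (.leaf 191)) (.node (.leaf 0) (.leaf 0))))) (.node (.node (.node (.node (.node (.leaf 6) (.leaf 101)) (.leaf 54)) (.node (.leaf 0) (.leaf 173))) (.node (.node (.leaf 0) (.leaf 66)) (.node (.leaf 0) (.leaf 217)))) (.node (.node (.node (.leaf 0) (.leaf 0)) (.node (.leaf 0) (.leaf 201))) (.node (.node (.leaf 266) (.leaf 72)) (.node (.leaf 190) (.leaf 0)))))) (.node (.node (.node (.node (.node (.node (.leaf 0) (.leaf 130)) (.leaf 0)) (.node (.leaf 29) (.leaf 0))) (.node (.node (.leaf 17) (.leaf 238)) (.node (.leaf 40) (.leaf 226)))) (.node (.node (.node (.leaf 11) (.leaf 151)) (.node (.leaf 196) (.leaf 0))) (.node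 (.node (.leaf 23) (.leaf 270)) (.node (.leaf 0) (.leaf 93))))) (.node (.node (.node (.node (.node (.leaf 0) (.leaf 129)) (.leaf 56)) (.node (.leaf 31) (.leaf 200))) (.node (.node (.leaf 20) (.leaf 0)) (.node (.leaf 42) (.leaf 90)))) (.node (.node (.node (.leaf 13) (.leaf 148)) (.node (.leaf 37) (.leaf 132))) (.node (.node (.leaf 26) (.leaf 139)) (.node (.leaf 49) (.leaf 0))))))) (.node (.node (.node (.node (.node (.node (.node (.leaf 0) (.leaf 260)) (.leaf 52)) (.node (.leaf 0) (.leaf 0))) (.node (.node (.leaf 16) (.leaf 64)) (.node (.leaf 39) (.leaf 0)))) (.node (.node (.node (.leaf 182) (.leaf 150)) (.node (.leaf 0) (.leaf 81))) (.node (.node (.leaf 22) (.leaf 71)) (.node (.leaf 45) (.leaf 0))))) (.node (.node (.node (.node (.node (.leaf 0) (.leaf 232)) (.leaf 55)) (.node (.leaf 193) (.leaf 76))) (.node (.node (.leaf 0) (.leaf 67)) (.node (.leaf 41) (.leaf 88)))) (.node (.node (.node (.leaf 0) (.leaf 138)) (.node (.leaf 0) (.leaf 83))) (.node (.node (.leaf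 0) (.leaf 152)) (.node (.leaf 137) (.leaf 273)))))) (.node (.node (.node (.node (.node (.node (.leaf 0) (.leaf 206)) (.leaf 0)) (.node (.leaf 0) (.leaf 0))) (.node (.node (.leaf 0) (.leaf 0)) (.node (.leaf 0) (.leaf 0)))) (.node (.node (.node (.leaf 0) (.leaf 60)) (.node (.leaf 163) (.leaf 221))) (.node (.node (.leaf 0) (.leaf 268)) (.node (.leaf 0) (.leaf 94))))) (.node (.node (.node (.node (.node (.leaf 186) (.leaf 275)) (.leaf 57)) (.node (.leaf 0) (.leaf 79))) (.node (.node (.leaf 21) (.leaf 69)) (.node (.leaf 161) (.leaf 246)))) (.node (.node (.node (.leaf 0) (.leaf 0)) (.node (.leaf 0) (.leaf 84))) (.node (.node (.leaf 0) (.leaf 162)) (.node (.leaf 50) (.leaf 188)))))))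

/-- data -/
def rank0_10 : Trie (ℕ) := .node (.node (.node (.node (.node (.node (.node (.node (.leaf 0) (.leaf 212)) (.leaf 0)) (.node (.leaf 0) (.leaf 0))) (.node (.node (.leaf 0) (.leaf 0)) (.node (.leaf 111) (.leaf 0)))) (.node (.node (.node (.node (.leaf 0) (.leaf 250)) (.leaf 0)) (.node (.leaf 109) (.leaf 181))) (.node (.node (.leaf 0) (.leaf 202)) (.node (.leaf 227) (.leaf 0))))) (.node (.node (.node (.node (.node (.leaf 1) (.leaf 0)) (.leaf 0)) (.node (.leaf 0) (.leaf 120))) (.node (.node (.leaf 0) (.leaf 0)) (.node (.leaf 0) (.leaf 215)))) (.node (.node (.node (.leaf 0) (.leaf 0)) (.node (.leaf 0) (.leaf 198))) (.node (.node (.leaf 0) (.leaf 0)) (.node (.leaf 0) (.leaf 225)))))) (.node (.node (.node (.node (.node (.node (.leaf 0) (.leaf 223)) (.leaf 113)) (.node (.leaf 0) (.leaf 237))) (.node (.node (.leaf 0) (.leaf 175)) (.node (.leaf 0) (.leaf 126)))) (.node (.node (.node (.leaf 0) (.leaf 0)) (.node (.leaf 0) (.leaf 121))) (.node (.node (.leaf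 0) (.leaf 0)) (.node (.leaf 0) (.leaf 0))))) (.node (.node (.node (.node (.node (.leaf 0) (.leaf 0)) (.leaf 115)) (.node (.leaf 0) (.leaf 211))) (.node (.node (.leaf 0) (.leaf 0)) (.node (.leaf 0) (.leaf 230)))) (.node (.node (.node (.leaf 0) (.leaf 0)) (.node (.leaf 0) (.leaf 0))) (.node (.node (.leaf 0) (.leaf 171)) (.node (.leaf 0) (.leaf 0))))))) (.node (.node (.node (.node (.node (.node (.node (.leaf 0) (.leaf 207)) (.leaf 0)) (.node (.leaf 0) (.leaf 0))) (.node (.node (.leaf 105) (.leaf 157)) (.node (.leaf 0) (.leaf 0)))) (.node (.node (.node (.node (.leaf 0) (.leaf 214)) (.leaf 213)) (.node (.leaf 0) (.leaf 220))) (.node (.node (.leaf 0) (.leaf 0)) (.node (.leaf 0) (.leaf 259))))) (.node (.node (.node (.node (.node (.leaf 0) (.leaf 0)) (.leaf 0)) (.node (.leaf 0) (.leaf 156))) (.node (.node (.leaf 0) (.leaf 0)) (.node (.leaf 0) (.leaf 0)))) (.node (.node (.node (.leaf 0) (.leaf 0)) (.node (.leaf 0) (.leaf 146))) (.node (.node (.leaf 0) (.leaf 118))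 (.node (.leaf 0) (.leaf 0)))))) (.node (.node (.node (.node (.node (.node (.leaf 0) (.leaf 0)) (.leaf 0)) (.node (.leaf 0) (.leaf 0))) (.node (.node (.leaf 0) (.leaf 187)) (.node (.leaf 0) (.leaf 222)))) (.node (.node (.node (.leaf 104) (.leaf 133)) (.node (.leaf 0) (.leaf 0))) (.node (.node (.leaf 107) (.leaf 243)) (.node (.leaf 0) (.leaf 257))))) (.node (.node (.node (.node (.node (.leaf 0) (.leaf 234)) (.leaf 0)) (.node (.leaf 0) (.leaf 135))) (.node (.node (.leaf 0) (.leaf 0)) (.node (.leaf 0) (.leaf 245)))) (.node (.node (.node (.leaf 0) (.leaf 136)) (.node (.leaf 0) (.leaf 203))) (.node (.node (.leaf 0) (.leaf 0)) (.node (.leaf 0) (.leaf 233)))))))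

/-- data -/
def rank0_11 : Trie (ℕ) := .node (.node (.node (.node (.node (.node (.node (.node (.leaf 0) (.leaf 271)) (.leaf 236)) (.node (.leaf 154) (.leaf 119))) (.node (.node (.leaf 0) (.leaf 169)) (.node (.leaf 0) (.leaf 158)))) (.node (.node (.node (.node (.leaf 103) (.leaf 0)) (.leaf 0)) (.node (.leaf 141) (.leaf 159))) (.node (.node (.leaf 0) (.leaf 0)) (.node (.leaf 112) (.leaf 0))))) (.node (.node (.node (.node (.node (.leaf 0) (.leaf 228)) (.leaf 0)) (.node (.leaf 208) (.leaf 143))) (.node (.node (.leaf 0) (.leaf 0)) (.node (.leaf 0) (.leaf 0)))) (.node (.node (.node (.leaf 0) (.leaf 0)) (.node (.leaf 0) (.leaf 0))) (.node (.node (.leaf 0) (.leaf 0)) (.node (.leaf 155) (.leaf 167)))))) (.node (.node (.node (.node (.node (.node (.leaf 0) (.leaf 125)) (.leaf 0)) (.node (.leaf 0) (.leaf 177))) (.node (.node (.leaf 0) (.leaf 210)) (.node (.leaf 0) (.leaf 269)))) (.node (.node (.node (.leaf 0) (.leaf 0)) (.node (.leaf 195) (.leaf 253))) (.node (.node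 (.leaf 0) (.leaf 264)) (.node (.leaf 176) (.leaf 265))))) (.node (.node (.node (.node (.node (.leaf 0) (.leaf 219)) (.leaf 0)) (.node (.leaf 0) (.leaf 0))) (.node (.node (.leaf 2) (.leaf 0)) (.node (.leaf 235) (.leaf 0)))) (.node (.node (.node (.leaf 0) (.leaf 0)) (.node (.leaf 0) (.leaf 267))) (.node (.node (.leaf 0) (.leaf 199)) (.node (.leaf 0) (.leaf 123))))))) (.node (.node (.node (.node (.node (.node (.node (.leaf 0) (.leaf 124)) (.leaf 0)) (.node (.leaf 108) (.leaf 0))) (.node (.node (.leaf 0) (.leaf 170)) (.node (.leaf 0) (.leaf 0)))) (.node (.node (.node (.leaf 0) (.leaf 0)) (.node (.leaf 0) (.leaf 131))) (.node (.node (.leaf 0) (.leaf 255)) (.node (.leaf 0) (.leaf 122))))) (.node (.node (.node (.node (.node (.leaf 0) (.leaf 0)) (.leaf 0)) (.node (.leaf 0) (.leaf 172))) (.node (.node (.leaf 106) (.leaf 262)) (.node (.leaf 0) (.leaf 0)))) (.node (.node (.node (.leaf 0) (.leaf 0)) (.node (.leaf 140) (.leaf 0))) (.node (.node (.leaf 0) (.leaf 164))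 (.node (.leaf 0) (.leaf 127)))))) (.node (.node (.node (.node (.node (.node (.leaf 0) (.leaf 244)) (.leaf 114)) (.node (.leaf 0) (.leaf 218))) (.node (.node (.leaf 0) (.leaf 117)) (.node (.leaf 0) (.leaf 216)))) (.node (.node (.node (.leaf 0) (.leaf 0)) (.node (.leaf 110) (.leaf 0))) (.node (.node (.leaf 192) (.leaf 254)) (.node (.leaf 0) (.leaf 0))))) (.node (.node (.node (.node (.node (.leaf 0) (.leaf 276)) (.leaf 0)) (.node (.leaf 0) (.leaf 0))) (.node (.node (.leaf 0) (.leaf 160)) (.node (.leaf 149) (.leaf 0)))) (.node (.node (.node (.leaf 0) (.leaf 116)) (.node (.leaf 0) (.leaf 178))) (.node (.node (.leaf 0) (.leaf 0)) (.node (.leaf 0) (.leaf 185)))))))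

/-- data -/
def rank0 : Trie (ℕ) := .node (.node (rank0_00) (rank0_01)) (.node (rank0_10) (rank0_11))

/-- data -/
def tree0 : Trie (ℕ × ℕ) := .node (.node (.node (.node (.node (.node (.node (.node (.node (.leaf (0, 0)) (.leaf (237, 1))) (.leaf (95, 1))) (.node (.leaf (43, 0)) (.leaf (148, 1)))) (.node (.node (.leaf (22, 0)) (.leaf (120, 1))) (.node (.leaf (70, 1)) (.leaf (190, 1))))) (.node (.node (.node (.node (.leaf (10, 0)) (.leaf (267, 1))) (.leaf (105, 1))) (.node (.leaf (57, 1)) (.leaf (167, 0)))) (.node (.node (.leaf (31, 1)) (.leaf (133, 1))) (.node (.leaf (83, 0)) (.leaf (215, 1)))))) (.node (.node (.node (.node (.node (.leaf (4, 1)) (.leaf (247, 1))) (.leaf (101, 1))) (.node (.leaf (50, 1)) (.leaf (155, 1)))) (.node (.node (.leaf (27, 0)) (.leaf (127, 1))) (.node (.leaf (76, 1)) (.leaf (199, 0))))) (.node (.node (.node (.leaf (15, 1)) (.leaf (114, 0))) (.node (.leaf (63, 0)) (.leaf (174, 1)))) (.node (.node (.leaf (38, 0)) (.leaf (141, 1))) (.node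 (.leaf (90, 0)) (.leaf (226, 0))))))) (.node (.node (.node (.node (.node (.node (.leaf (2, 0)) (.leaf (241, 0))) (.leaf (98, 1))) (.node (.leaf (47, 1)) (.leaf (153, 0)))) (.node (.node (.leaf (24, 1)) (.leaf (124, 1))) (.node (.leaf (72, 1)) (.leaf (195, 0))))) (.node (.node (.node (.leaf (12, 1)) (.leaf (108, 0))) (.node (.leaf (60, 0)) (.leaf (170, 1)))) (.node (.node (.leaf (35, 1)) (.leaf (136, 1))) (.node (.leaf (86, 1)) (.leaf (222, 0)))))) (.node (.node (.node (.node (.node (.leaf (7, 0)) (.leaf (253, 0))) (.leaf (103, 1))) (.node (.leaf (53, 1)) (.leaf (160, 0)))) (.node (.node (.leaf (29, 1)) (.leaf (130, 1))) (.node (.leaf (79, 1)) (.leaf (210, 0))))) (.node (.node (.node (.leaf (19, 1)) (.leaf (117, 0))) (.node (.leaf (67, 0)) (.leaf (180, 1)))) (.node (.node (.leaf (40, 1)) (.leaf (144, 1))) (.node (.leaf (93, 1)) (.leaf (231, 0)))))))) (.node (.node (.node (.node (.node (.node (.node (.leaf (0, 1)) (.leaf (240, 0))) (.leaf (97, 1))) (.node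 (.leaf (46, 0)) (.leaf (151, 1)))) (.node (.node (.leaf (23, 1)) (.leaf (123, 1))) (.node (.leaf (71, 1)) (.leaf (192, 1))))) (.node (.node (.node (.node (.leaf (11, 0)) (.leaf (273, 1))) (.leaf (106, 1))) (.node (.leaf (59, 0)) (.leaf (169, 1)))) (.node (.node (.leaf (33, 1)) (.leaf (135, 0))) (.node (.leaf (84, 1)) (.leaf (219, 1)))))) (.node (.node (.node (.node (.node (.leaf (5, 1)) (.leaf (250, 1))) (.leaf (102, 1))) (.node (.leaf (52, 0)) (.leaf (157, 1)))) (.node (.node (.leaf (28, 0)) (.leaf (128, 1))) (.node (.leaf (78, 1)) (.leaf (207, 1))))) (.node (.node (.node (.leaf (17, 0)) (.leaf (115, 1))) (.node (.leaf (64, 1)) (.leaf (178, 1)))) (.node (.node (.leaf (39, 0)) (.leaf (142, 1))) (.node (.leaf (91, 0)) (.leaf (227, 0))))))) (.node (.node (.node (.node (.node (.node (.leaf (3, 0)) (.leaf (243, 0))) (.leaf (100, 0))) (.node (.leaf (48, 1)) (.leaf (154, 0)))) (.node (.node (.leaf (25, 1)) (.leaf (126, 0))) (.node (.leaf (74, 1)) (.leaf (197,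 0))))) (.node (.node (.node (.leaf (13, 1)) (.leaf (110, 1))) (.node (.leaf (61, 1)) (.leaf (173, 0)))) (.node (.node (.leaf (36, 1)) (.leaf (138, 1))) (.node (.leaf (89, 0)) (.leaf (224, 1)))))) (.node (.node (.node (.node (.node (.leaf (8, 0)) (.leaf (264, 1))) (.leaf (104, 1))) (.node (.leaf (55, 0)) (.leaf (162, 0)))) (.node (.node (.leaf (30, 1)) (.leaf (132, 0))) (.node (.leaf (81, 0)) (.leaf (213, 0))))) (.node (.node (.node (.leaf (20, 1)) (.leaf (119, 0))) (.node (.leaf (68, 1)) (.leaf (185, 1)))) (.node (.node (.leaf (41, 1)) (.leaf (146, 0))) (.node (.leaf (94, 1)) (.leaf (234, 1))))))))) (.node (.node (.node (.node (.node (.node (.node (.node (.leaf (0, 0)) (.leaf (239, 1))) (.leaf (96, 0))) (.node (.leaf (44, 1)) (.leaf (149, 1)))) (.node (.node (.leaf (23, 0)) (.leaf (122, 1))) (.node (.leaf (71, 0)) (.leaf (191, 1))))) (.node (.node (.node (.node (.leaf (10, 1)) (.leaf (268, 1))) (.leaf (106, 0))) (.node (.leaf (58, 1)) (.leaf (168, 1))))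 (.node (.node (.leaf (32, 1)) (.leaf (134, 1))) (.node (.leaf (83, 1)) (.leaf (217, 1)))))) (.node (.node (.node (.node (.node (.leaf (5, 0)) (.leaf (249, 0))) (.leaf (102, 0))) (.node (.leaf (51, 1)) (.leaf (156, 1)))) (.node (.node (.leaf (27, 1)) (.leaf (128, 0))) (.node (.leaf (77, 1)) (.leaf (205, 1))))) (.node (.node (.node (.leaf (16, 1)) (.leaf (114, 1))) (.node (.leaf (63, 1)) (.leaf (177, 1)))) (.node (.node (.leaf (38, 1)) (.leaf (142, 0))) (.node (.leaf (90, 1)) (.leaf (226, 1))))))) (.node (.node (.node (.node (.node (.node (.leaf (2, 1)) (.leaf (241, 1))) (.leaf (99, 1))) (.node (.leaf (48, 0)) (.leaf (153, 1)))) (.node (.node (.leaf (25, 0)) (.leaf (125, 1))) (.node (.leaf (73, 0)) (.leaf (195, 1))))) (.node (.node (.node (.leaf (13, 0)) (.leaf (108, 1))) (.node (.leaf (60, 1)) (.leaf (172, 1)))) (.node (.node (.leaf (36, 0)) (.leaf (137, 1))) (.node (.leaf (88, 1)) (.leaf (224, 0)))))) (.node (.node (.node (.node (.node (.leaf (7, 1)) (.leaf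 (262, 1))) (.leaf (104, 0))) (.node (.leaf (54, 0)) (.leaf (160, 1)))) (.node (.node (.leaf (30, 0)) (.leaf (131, 1))) (.node (.leaf (80, 0)) (.leaf (212, 0))))) (.node (.node (.node (.leaf (20, 0)) (.leaf (118, 1))) (.node (.leaf (68, 0)) (.leaf (184, 1)))) (.node (.node (.leaf (41, 0)) (.leaf (145, 1))) (.node (.leaf (94, 0)) (.leaf (233, 1)))))))) (.node (.node (.node (.node (.node (.node (.node (.leaf (1, 1)) (.leaf (240, 1))) (.leaf (98, 0))) (.node (.leaf (46, 1)) (.leaf (152, 1)))) (.node (.node (.leaf (24, 0)) (.leaf (124, 0))) (.node (.leaf (72, 0)) (.leaf (194, 1))))) (.node (.node (.node (.leaf (11, 1)) (.leaf (107, 1))) (.node (.leaf (59, 1)) (.leaf (170, 0)))) (.node (.node (.leaf (34, 0)) (.leaf (136, 0))) (.node (.leaf (86, 0)) (.leaf (220, 1)))))) (.node (.node (.node (.node (.node (.leaf (6, 1)) (.leaf (252, 1))) (.leaf (103, 0))) (.node (.leaf (52, 1)) (.leaf (159, 0)))) (.node (.node (.leaf (28, 1)) (.leaf (130, 0))) (.node (.leaf (79,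 0)) (.leaf (209, 0))))) (.node (.node (.node (.leaf (18, 1)) (.leaf (116, 1))) (.node (.leaf (66, 1)) (.leaf (180, 0)))) (.node (.node (.leaf (39, 1)) (.leaf (143, 1))) (.node (.leaf (92, 1)) (.leaf (227, 1))))))) (.node (.node (.node (.node (.node (.node (.leaf (3, 1)) (.leaf (244, 1))) (.leaf (100, 1))) (.node (.leaf (49, 1)) (.leaf (154, 1)))) (.node (.node (.leaf (26, 1)) (.leaf (126, 1))) (.node (.leaf (75, 1)) (.leaf (198, 1))))) (.node (.node (.node (.leaf (14, 1)) (.leaf (113, 0))) (.node (.leaf (62, 1)) (.leaf (173, 1)))) (.node (.node (.leaf (37, 1)) (.leaf (139, 1))) (.node (.leaf (89, 1)) (.leaf (225, 0)))))) (.node (.node (.node (.node (.node (.leaf (9, 1)) (.leaf (266, 1))) (.leaf (105, 0))) (.node (.leaf (56, 1)) (.leaf (164, 0)))) (.node (.node (.leaf (31, 0)) (.leaf (133, 0))) (.node (.leaf (82, 1)) (.leaf (214, 1))))) (.node (.node (.node (.leaf (21, 1)) (.leaf (119, 1))) (.node (.leaf (69, 1)) (.leaf (188, 0)))) (.node (.node (.leaf (42,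 1)) (.leaf (147, 1))) (.node (.leaf (95, 0)) (.leaf (235, 1)))))))))

/-- data -/
def cert0 : Trie (ℕ × ℕ × ℕ) := .node (.node (.node (.node (.node (.node (.node (.node (.node (.leaf (0, 0, 3)) (.leaf (10, 212, 49))) (.leaf (5, 1, 16))) (.node (.leaf (2, 126, 1)) (.leaf (18, 211, 18)))) (.node (.node (.leaf (2, 59, 1)) (.leaf (4, 6, 14))) (.node (.leaf (2, 231, 1)) (.leaf (7, 88, 22))))) (.node (.node (.node (.node (.leaf (2, 25, 1)) (.leaf (11, 45, 29))) (.leaf (21, 0, 10))) (.node (.leaf (2, 170, 1)) (.leaf (17, 25, 122)))) (.node (.node (.leaf (2, 94, 1)) (.leaf (5, 27, 6))) (.node (.leaf (3, 32, 4)) (.leaf (9, 192, 100)))))) (.node (.node (.node (.node (.node (.leaf (2, 10, 1)) (.leaf (11, 10, 81))) (.leaf (13, 0, 10))) (.node (.leaf (2, 146, 1)) (.leaf (2, 205, 1)))) (.node (.node (.leaf (2, 79, 1)) (.leaf (3, 122, 1))) (.node (.leaf (3, 4, 4)) (.leaf (8, 255, 76))))) (.node (.node (.node (.leaf (2, 39, 1)) (.leaf (2, 220, 0))) (.node (.leaf (2, 210,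 1)) (.leaf (6, 94, 51)))) (.node (.node (.leaf (2, 105, 1)) (.leaf (6, 209, 74))) (.node (.leaf (3, 69, 4)) (.leaf (10, 147, 62))))))) (.node (.node (.node (.node (.node (.node (.leaf (2, 3, 1)) (.leaf (10, 243, 57))) (.leaf (9, 0, 10))) (.node (.leaf (2, 133, 1)) (.leaf (5, 10, 23)))) (.node (.node (.leaf (2, 68, 1)) (.leaf (5, 17, 23))) (.node (.leaf (2, 249, 1)) (.leaf (7, 248, 7))))) (.node (.node (.node (.leaf (2, 31, 1)) (.leaf (25, 0, 9))) (.node (.leaf (2, 195, 1)) (.leaf (3, 51, 4)))) (.node (.node (.leaf (2, 100, 1)) (.leaf (8, 157, 40))) (.node (.leaf (3, 47, 4)) (.leaf (10, 104, 84)))))) (.node (.node (.node (.node (.node (.leaf (2, 20, 1)) (.leaf (11, 22, 93))) (.leaf (17, 0, 8))) (.node (.leaf (2, 160, 1)) (.leaf (5, 11, 14)))) (.node (.node (.leaf (2, 86, 1)) (.leaf (4, 12, 14))) (.node (.leaf (3, 16, 4)) (.leaf (9, 119, 99))))) (.node (.node (.node (.leaf (2, 48, 1)) (.leaf (3, 92, 2))) (.node (.leaf (2, 224, 1)) (.leaf (7, 33, 67)))) (.node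 (.node (.leaf (2, 114, 1)) (.leaf (5, 13, 23))) (.node (.leaf (3, 134, 4)) (.leaf (10, 198, 44)))))))) (.node (.node (.node (.node (.node (.node (.node (.leaf (2, 0, 1)) (.leaf (10, 225, 24))) (.leaf (7, 0, 12))) (.node (.leaf (2, 130, 1)) (.leaf (3, 37, 4)))) (.node (.node (.leaf (2, 63, 1)) (.leaf (5, 3, 7))) (.node (.leaf (2, 241, 1)) (.leaf (7, 112, 80))))) (.node (.node (.node (.node (.leaf (2, 28, 1)) (.leaf (11, 82, 110))) (.leaf (23, 0, 8))) (.node (.leaf (2, 180, 1)) (.leaf (20, 28, 6)))) (.node (.node (.leaf (2, 96, 1)) (.leaf (5, 111, 16))) (.node (.leaf (3, 35, 4)) (.leaf (9, 234, 51)))))) (.node (.node (.node (.node (.node (.leaf (2, 13, 1)) (.leaf (11, 20, 61))) (.leaf (15, 0, 11))) (.node (.leaf (2, 154, 1)) (.leaf (3, 174, 3)))) (.node (.node (.leaf (2, 81, 1)) (.leaf (4, 9, 15))) (.node (.leaf (3, 9, 4)) (.leaf (9, 25, 72))))) (.node (.node (.node (.leaf (2, 43, 1)) (.leaf (3, 64, 2))) (.node (.leaf (2, 213, 1)) (.leaf (7, 9, 29)))) (.node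 (.node (.leaf (2, 108, 1)) (.leaf (3, 166, 0))) (.node (.leaf (3, 120, 4)) (.leaf (10, 187, 73))))))) (.node (.node (.node (.node (.node (.node (.leaf (2, 7, 1)) (.leaf (10, 263, 100))) (.leaf (11, 0, 12))) (.node (.leaf (2, 136, 1)) (.leaf (11, 248, 17)))) (.node (.node (.leaf (2, 72, 1)) (.leaf (5, 91, 13))) (.node (.leaf (3, 0, 4)) (.leaf (8, 155, 58))))) (.node (.node (.node (.leaf (2, 36, 1)) (.leaf (2, 149, 0))) (.node (.leaf (2, 199, 1)) (.leaf (4, 42, 11)))) (.node (.node (.leaf (2, 103, 1)) (.leaf (4, 18, 14))) (.node (.leaf (3, 56, 4)) (.leaf (10, 117, 25)))))) (.node (.node (.node (.node (.node (.leaf (2, 23, 1)) (.leaf (11, 33, 81))) (.leaf (19, 0, 12))) (.node (.leaf (2, 164, 1)) (.leaf (8, 81, 79)))) (.node (.node (.leaf (2, 90, 1)) (.leaf (4, 66, 9))) (.node (.leaf (3, 21, 4)) (.leaf (9, 164, 92))))) (.node (.node (.node (.leaf (2, 54, 1)) (.leaf (3, 110, 4))) (.node (.leaf (2, 226, 1)) (.leaf (7, 63, 46)))) (.node (.node (.leaf (2, 119, 1))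 (.leaf (5, 167, 16))) (.node (.leaf (4, 26, 15)) (.leaf (10, 209, 23))))))))) (.node (.node (.node (.node (.node (.node (.node (.node (.leaf (1, 0, 7)) (.leaf (10, 221, 25))) (.leaf (6, 0, 14))) (.node (.leaf (2, 128, 1)) (.leaf (2, 70, 0)))) (.node (.node (.leaf (2, 60, 1)) (.leaf (4, 29, 12))) (.node (.leaf (2, 240, 1)) (.leaf (7, 105, 39))))) (.node (.node (.node (.node (.leaf (2, 27, 1)) (.leaf (11, 60, 86))) (.leaf (22, 0, 12))) (.node (.leaf (2, 173, 1)) (.leaf (19, 29, 69)))) (.node (.node (.leaf (2, 95, 1)) (.leaf (5, 46, 15))) (.node (.leaf (3, 33, 4)) (.leaf (9, 232, 83)))))) (.node (.node (.node (.node (.node (.leaf (2, 11, 1)) (.leaf (11, 12, 20))) (.leaf (14, 0, 11))) (.node (.leaf (2, 153, 1)) (.leaf (3, 99, 2)))) (.node (.node (.leaf (2, 80, 1)) (.leaf (3, 148, 4))) (.node (.leaf (3, 6, 4)) (.leaf (8, 265, 3))))) (.node (.node (.node (.leaf (2, 41, 1)) (.leaf (3, 29, 2))) (.node (.leaf (2, 212, 1)) (.leaf (6, 218, 48)))) (.node (.node (.leaf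 (2, 106, 1)) (.leaf (7, 81, 28))) (.node (.leaf (3, 101, 4)) (.leaf (10, 161, 109))))))) (.node (.node (.node (.node (.node (.node (.leaf (2, 5, 1)) (.leaf (10, 254, 51))) (.leaf (10, 0, 7))) (.node (.leaf (2, 135, 1)) (.leaf (7, 69, 32)))) (.node (.node (.leaf (2, 71, 1)) (.leaf (5, 20, 18))) (.node (.leaf (2, 253, 1)) (.leaf (8, 118, 32))))) (.node (.node (.node (.leaf (2, 34, 1)) (.leaf (2, 147, 0))) (.node (.leaf (2, 197, 1)) (.leaf (3, 237, 4)))) (.node (.node (.leaf (2, 102, 1)) (.leaf (6, 89, 14))) (.node (.leaf (3, 53, 4)) (.leaf (10, 107, 88)))))) (.node (.node (.node (.node (.node (.leaf (2, 22, 1)) (.leaf (11, 24, 42))) (.leaf (18, 0, 11))) (.node (.leaf (2, 162, 1)) (.leaf (5, 261, 16)))) (.node (.node (.leaf (2, 89, 1)) (.leaf (4, 13, 12))) (.node (.leaf (3, 18, 4)) (.leaf (9, 162, 60))))) (.node (.node (.node (.leaf (2, 52, 1)) (.leaf (3, 107, 3))) (.node (.leaf (2, 225, 1)) (.leaf (7, 36, 38)))) (.node (.node (.leaf (2, 117, 1)) (.leaf (5,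 39, 25))) (.node (.leaf (4, 0, 13)) (.leaf (10, 202, 104)))))))) (.node (.node (.node (.node (.node (.node (.node (.leaf (2, 2, 1)) (.leaf (10, 241, 48))) (.leaf (8, 0, 12))) (.node (.leaf (2, 132, 1)) (.leaf (4, 37, 19)))) (.node (.node (.leaf (2, 67, 1)) (.leaf (5, 4, 11))) (.node (.leaf (2, 243, 1)) (.leaf (7, 232, 38))))) (.node (.node (.node (.node (.leaf (2, 30, 1)) (.leaf (11, 87, 84))) (.leaf (24, 0, 11))) (.node (.leaf (2, 188, 1)) (.leaf (22, 14, 113)))) (.node (.node (.leaf (2, 98, 1)) (.leaf (6, 99, 51))) (.node (.leaf (3, 42, 4)) (.leaf (10, 7, 34)))))) (.node (.node (.node (.node (.node (.leaf (2, 17, 1)) (.leaf (11, 21, 36))) (.leaf (16, 0, 9))) (.node (.leaf (2, 159, 1)) (.leaf (4, 53, 19)))) (.node (.node (.leaf (2, 83, 1)) (.leaf (4, 10, 13))) (.node (.leaf (3, 12, 4)) (.leaf (9, 100, 49))))) (.node (.node (.node (.leaf (2, 46, 1)) (.leaf (3, 66, 4))) (.node (.leaf (2, 222, 1)) (.leaf (7, 12, 32)))) (.node (.node (.leaf (2, 113, 1)) (.leaf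 (4, 47, 10))) (.node (.leaf (3, 131, 4)) (.leaf (10, 189, 52))))))) (.node (.node (.node (.node (.node (.node (.leaf (2, 8, 1)) (.leaf (11, 1, 52))) (.leaf (12, 0, 11))) (.node (.leaf (2, 142, 1)) (.leaf (18, 209, 88)))) (.node (.node (.leaf (2, 73, 1)) (.leaf (2, 191, 1))) (.node (.leaf (3, 1, 4)) (.leaf (8, 191, 99))))) (.node (.node (.node (.leaf (2, 38, 1)) (.leaf (2, 187, 0))) (.node (.leaf (2, 209, 1)) (.leaf (6, 28, 8)))) (.node (.node (.leaf (2, 104, 1)) (.leaf (5, 19, 16))) (.node (.leaf (3, 61, 4)) (.leaf (10, 131, 35)))))) (.node (.node (.node (.node (.node (.leaf (2, 24, 1)) (.leaf (11, 40, 80))) (.leaf (20, 0, 7))) (.node (.leaf (2, 167, 1)) (.leaf (11, 121, 88)))) (.node (.node (.leaf (2, 91, 1)) (.leaf (4, 89, 17))) (.node (.leaf (3, 26, 4)) (.leaf (9, 174, 50))))) (.node (.node (.node (.leaf (2, 55, 1)) (.leaf (4, 1, 13))) (.node (.leaf (2, 227, 1)) (.leaf (7, 68, 74)))) (.node (.node (.leaf (2, 124, 1)) (.leaf (6, 123, 21))) (.node (.leaf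 (5, 0, 16)) (.leaf (10, 211, 9)))))))))

/-- data -/
def pot0 : Trie (Vec) := .node (.node (.node (.node (.node (.node (.node (.node (.node (.leaf ([])) (.leaf ([4, 10]))) (.leaf ([3, 7]))) (.node (.leaf ([3, 5])) (.leaf ([3, 8])))) (.node (.node (.leaf ([2, 4])) (.leaf ([4, 7]))) (.node (.leaf ([2, 7])) (.leaf ([4, 8]))))) (.node (.node (.node (.node (.leaf ([1, 3])) (.leaf ([7, 9]))) (.leaf ([2, 8]))) (.node (.leaf ([1, 7])) (.leaf ([4, 8])))) (.node (.node (.leaf ([2, 5])) (.leaf ([4, 7]))) (.node (.leaf ([2, 7])) (.leaf ([3, 10])))))) (.node (.node (.node (.node (.node (.leaf ([1, 2])) (.leaf ([4, 10]))) (.leaf ([4, 6]))) (.node (.leaf ([3, 5])) (.leaf ([4, 8])))) (.node (.node (.leaf ([4, 3])) (.leaf ([4, 7]))) (.node (.leaf ([2, 7])) (.leaf ([6, 7]))))) (.node (.node (.node (.leaf ([1, 4])) (.leaf ([6, 5]))) (.node (.leaf ([4, 5])) (.leaf ([3, 9])))) (.node (.node (.leaf ([2, 5])) (.leaf ([3, 8]))) (.node (.leaf ([4, 6])) (.leaf ([4, 9]))))))) (.node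 (.node (.node (.node (.node (.node (.leaf ([1, 1])) (.leaf ([5, 9]))) (.leaf ([2, 8]))) (.node (.leaf ([3, 5])) (.leaf ([6, 6])))) (.node (.node (.leaf ([1, 5])) (.leaf ([4, 7]))) (.node (.leaf ([3, 6])) (.leaf ([7, 6]))))) (.node (.node (.node (.leaf ([2, 3])) (.leaf ([3, 7]))) (.node (.leaf ([5, 4])) (.leaf ([3, 9])))) (.node (.node (.leaf ([2, 5])) (.leaf ([4, 7]))) (.node (.leaf ([4, 6])) (.leaf ([4, 9])))))) (.node (.node (.node (.node (.node (.leaf ([2, 2])) (.leaf ([5, 10]))) (.leaf ([2, 8]))) (.node (.leaf ([2, 6])) (.leaf ([5, 7])))) (.node (.node (.leaf ([3, 4])) (.leaf ([3, 8]))) (.node (.leaf ([2, 7])) (.leaf ([5, 8]))))) (.node (.node (.node (.leaf ([2, 4])) (.leaf ([5, 6]))) (.node (.leaf ([3, 6])) (.leaf ([4, 8])))) (.node (.node (.leaf ([4, 4])) (.leaf ([2, 9]))) (.node (.leaf ([4, 6])) (.leaf ([7, 7])))))))) (.node (.node (.node (.node (.node (.node (.node (.leaf ([0, 1])) (.leaf ([4, 10]))) (.leaf ([3, 7]))) (.node (.leaf ([3, 5])) (.leaf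 ([2, 9])))) (.node (.node (.leaf ([2, 4])) (.leaf ([3, 8]))) (.node (.leaf ([2, 7])) (.leaf ([3, 9]))))) (.node (.node (.node (.node (.leaf ([3, 2])) (.leaf ([5, 12]))) (.leaf ([3, 7]))) (.node (.leaf ([2, 6])) (.leaf ([4, 8])))) (.node (.node (.leaf ([3, 4])) (.leaf ([4, 7]))) (.node (.leaf ([5, 5])) (.leaf ([5, 8])))))) (.node (.node (.node (.node (.node (.leaf ([0, 3])) (.leaf ([3, 11]))) (.leaf ([3, 7]))) (.node (.leaf ([3, 5])) (.leaf ([4, 8])))) (.node (.node (.leaf ([3, 4])) (.leaf ([3, 8]))) (.node (.leaf ([3, 6])) (.leaf ([5, 8]))))) (.node (.node (.node (.leaf ([1, 4])) (.leaf ([5, 6]))) (.node (.leaf ([3, 6])) (.leaf ([4, 8])))) (.node (.node (.leaf ([2, 5])) (.leaf ([2, 9]))) (.node (.leaf ([4, 6])) (.leaf ([3, 10]))))))) (.node (.node (.node (.node (.node (.node (.leaf ([2, 1])) (.leaf ([5, 9]))) (.leaf ([4, 6]))) (.node (.leaf ([2, 6])) (.leaf ([6, 6])))) (.node (.node (.leaf ([1, 5])) (.leaf ([4, 7]))) (.node (.leaf ([3, 6])) (.leaf ([6, 7])))))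 (.node (.node (.node (.leaf ([1, 4])) (.leaf ([3, 7]))) (.node (.leaf ([4, 5])) (.leaf ([4, 8])))) (.node (.node (.leaf ([1, 6])) (.leaf ([3, 8]))) (.node (.leaf ([4, 6])) (.leaf ([4, 9])))))) (.node (.node (.node (.node (.node (.leaf ([2, 2])) (.leaf ([4, 11]))) (.leaf ([2, 8]))) (.node (.leaf ([3, 5])) (.leaf ([4, 8])))) (.node (.node (.leaf ([2, 5])) (.leaf ([3, 8]))) (.node (.leaf ([3, 6])) (.leaf ([4, 9]))))) (.node (.node (.node (.leaf ([2, 4])) (.leaf ([4, 7]))) (.node (.leaf ([3, 6])) (.leaf ([3, 9])))) (.node (.node (.leaf ([3, 5])) (.leaf ([4, 7]))) (.node (.leaf ([3, 7])) (.leaf ([5, 9]))))))))) (.node (.node (.node (.node (.node (.node (.node (.node (.leaf ([1])) (.leaf ([4, 10]))) (.leaf ([3, 7]))) (.node (.leaf ([3, 5])) (.leaf ([2, 9])))) (.node (.node (.leaf ([3, 3])) (.leaf ([4, 7]))) (.node (.leaf ([3, 6])) (.leaf ([3, 9]))))) (.node (.node (.node (.node (.leaf ([0, 4])) (.leaf ([5, 11]))) (.leaf ([4, 6]))) (.node (.leaf ([2, 6])) (.leaf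 ([4, 8])))) (.node (.node (.leaf ([2, 5])) (.leaf ([4, 7]))) (.node (.leaf ([1, 8])) (.leaf ([4, 9])))))) (.node (.node (.node (.node (.node (.leaf ([1, 2])) (.leaf ([4, 10]))) (.leaf ([4, 6]))) (.node (.leaf ([3, 5])) (.leaf ([5, 7])))) (.node (.node (.leaf ([3, 4])) (.leaf ([4, 7]))) (.node (.leaf ([2, 7])) (.leaf ([4, 9]))))) (.node (.node (.node (.leaf ([1, 4])) (.leaf ([5, 6]))) (.node (.leaf ([3, 6])) (.leaf ([4, 8])))) (.node (.node (.leaf ([1, 6])) (.leaf ([3, 8]))) (.node (.leaf ([3, 7])) (.leaf ([3, 10]))))))) (.node (.node (.node (.node (.node (.node (.leaf ([0, 2])) (.leaf ([4, 10]))) (.leaf ([4, 6]))) (.node (.leaf ([3, 5])) (.leaf ([5, 7])))) (.node (.node (.leaf ([2, 4])) (.leaf ([4, 7]))) (.node (.leaf ([4, 5])) (.leaf ([6, 7]))))) (.node (.node (.node (.leaf ([2, 3])) (.leaf ([2, 8]))) (.node (.leaf ([4, 5])) (.leaf ([3, 9])))) (.node (.node (.leaf ([2, 5])) (.leaf ([4, 7]))) (.node (.leaf ([4, 6])) (.leaf ([5, 8])))))) (.node (.node (.node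 (.node (.node (.leaf ([1, 3])) (.leaf ([5, 10]))) (.leaf ([3, 7]))) (.node (.leaf ([2, 6])) (.leaf ([4, 8])))) (.node (.node (.leaf ([3, 4])) (.leaf ([3, 8]))) (.node (.leaf ([2, 7])) (.leaf ([4, 9]))))) (.node (.node (.node (.leaf ([3, 3])) (.leaf ([4, 7]))) (.node (.leaf ([4, 5])) (.leaf ([3, 9])))) (.node (.node (.leaf ([4, 4])) (.leaf ([4, 7]))) (.node (.leaf ([4, 6])) (.leaf ([4, 10])))))))) (.node (.node (.node (.node (.node (.node (.node (.leaf ([1, 1])) (.leaf ([3, 11]))) (.leaf ([3, 7]))) (.node (.leaf ([2, 6])) (.leaf ([6, 6])))) (.node (.node (.leaf ([2, 4])) (.leaf ([5, 6]))) (.node (.leaf ([4, 5])) (.leaf ([2, 10]))))) (.node (.node (.node (.leaf ([2, 3])) (.leaf ([3, 7]))) (.node (.leaf ([1, 7])) (.leaf ([4, 8])))) (.node (.node (.leaf ([3, 4])) (.leaf ([5, 6]))) (.node (.leaf ([5, 5])) (.leaf ([4, 9])))))) (.node (.node (.node (.node (.node (.leaf ([2, 2])) (.leaf ([7, 8]))) (.leaf ([3, 7]))) (.node (.leaf ([2, 6])) (.leaf ([4, 8])))) (.node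 (.node (.leaf ([2, 5])) (.leaf ([4, 7]))) (.node (.leaf ([3, 6])) (.leaf ([5, 8]))))) (.node (.node (.node (.leaf ([3, 3])) (.leaf ([4, 7]))) (.node (.leaf ([3, 6])) (.leaf ([5, 7])))) (.node (.node (.leaf ([1, 6])) (.leaf ([3, 8]))) (.node (.leaf ([3, 7])) (.leaf ([2, 11]))))))) (.node (.node (.node (.node (.node (.node (.leaf ([1, 2])) (.leaf ([4, 10]))) (.leaf ([3, 7]))) (.node (.leaf ([2, 6])) (.leaf ([5, 7])))) (.node (.node (.leaf ([1, 5])) (.leaf ([3, 8]))) (.node (.leaf ([2, 7])) (.leaf ([6, 7]))))) (.node (.node (.node (.leaf ([2, 3])) (.leaf ([2, 8]))) (.node (.leaf ([3, 6])) (.leaf ([3, 9])))) (.node (.node (.leaf ([2, 5])) (.leaf ([3, 8]))) (.node (.leaf ([3, 7])) (.leaf ([4, 9])))))) (.node (.node (.node (.node (.node (.leaf ([1, 3])) (.leaf ([3, 12]))) (.leaf ([3, 7]))) (.node (.leaf ([2, 6])) (.leaf ([5, 7])))) (.node (.node (.leaf ([3, 4])) (.leaf ([5, 6]))) (.node (.leaf ([2, 7])) (.leaf ([4, 9]))))) (.node (.node (.node (.leaf ([2, 4]))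 (.leaf ([3, 8]))) (.node (.leaf ([3, 6])) (.leaf ([3, 9])))) (.node (.node (.leaf ([3, 5])) (.leaf ([3, 8]))) (.node (.leaf ([4, 6])) (.leaf ([5, 9])))))))))

/-- the table -/
def table0 : Table where
  size := 275
  ngen := 2
  next g x := next0.getK (2 * g + x)
  prev g x := prev0.getK (2 * g + x)
  lab g x := lab0.getK (2 * g + x)
  val g x := val0.getK (2 * g + x)
  rank g x := rank0.getK (2 * g + x)
  tree g := tree0.getK g
  cert j := cert0.getK j
  nded := 276
  rels := [⟨[(1, true), (0, true), (1, true), (1, true), (0, false), (1, false), (0, false), (1, false)], [(0, true)], []⟩,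
    ⟨[(0, true), (1, true), (1, true), (0, true), (1, true), (1, true), (0, true), (1, true), (0, false), (1, false), (1, false), (0, false), (1, false), (1, false), (0, false)], [(1, true)], []⟩,
    ⟨[(0, true), (0, true)], [], [0, 0, 0, 0, 0, 0, 0, 0, 0, 0, 0, 0, 0, 0, 0, 0, 0, 0, 0, 0, 0, 0, 0, 0, 0, 0, 0, 0, 0, 0, 0, 0, 0, 0, 0, 0, 0, 0, 0, 0, 0, 0, 0, 0, 0, 0, 0, 0, 0, 0, 0, 1]⟩,
    ⟨[(1, true), (1, true), (1, true), (1, true), (1, true)], [], [0, 0, 0, 0, 0, 0, 0, 0, 0, 0, 0, 0, 0, 0, 0, 0, 0, 0, 0, 0, 0, 0, 0, 0, 0, 0, 0, 0, 0, 0, 0, 0, 0, 0, 0, 0, 0, 0, 0, 0, 0, 0, 0, 0, 0, 0, 0, 0, 0, 0, 0, 0, 1]⟩,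
    ⟨[(0, true), (1, true), (0, true), (1, true), (0, true), (1, true), (0, true), (1, true), (0, true), (1, true), (0, true), (1, true), (0, true), (1, true), (0, false), (1, false), (1, false), (1, false), (1, false), (0, false), (1, false), (1, false), (1, false), (1, false)], [], [0, 0, 0, 0, 0, 0, 0, 0, 0, 0, 0, 0, 0, 0, 0, 0, 0, 0, 0, 0, 0, 0, 0, 0, 0, 0, 0, 0, 0, 0, 0, 0, 0, 0, 0, 0, 0, 0, 0, 0, 0, 0, 0, 0, 0, 0, 0, 0, 0, 0, 0, 0, 0, 1]⟩,
    ⟨[(0, true), (1, true), (0, true), (1, true), (1, true), (1, true), (1, true), (0, true), (1, true), (0, true), (1, true), (1, true), (1, true), (1, true), (0, true), (1, true), (0, true), (1, false), (0, false), (1, false), (1, false), (1, false), (1, false), (0, false), (1, false), (0, false), (1, false), (1, false), (1, false), (1, false), (0, false), (1, false)], [], [0, 0, 0, 0, 0, 0, 0, 0, 0, 0, 0, 0, 0, 0, 0, 0, 0, 0, 0, 0, 0, 0, 0, 0, 0, 0, 0, 0, 0, 0, 0, 0, 0, 0, 0, 0, 0, 0, 0, 0, 0, 0, 0, 0, 0, 0, 0,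 0, 0, 0, 0, 0, 0, 0, 1]⟩,
    ⟨[(1, true), (0, true), (1, true), (0, true), (1, true), (0, true), (1, true), (1, true), (1, true), (0, true), (1, true), (1, true), (1, true), (1, true), (0, true), (1, false), (1, false), (1, false), (1, false), (0, false), (1, false), (1, false), (1, false), (0, false), (1, false), (0, false), (1, true), (0, false), (1, true), (0, false), (1, true), (0, false), (1, false), (0, false), (1, false), (0, true), (1, true), (1, true), (0, true), (1, true), (1, true), (0, true), (1, false), (0, false), (1, false), (1, false), (0, false), (1, false), (1, false), (0, false), (1, true), (0, true), (1, true), (1, true), (0, false), (1, true), (0, false), (1, true), (0, false), (1, false), (0, false), (1, false), (0, true), (1, true), (1, true), (0, true), (1, true), (1, true), (0, true), (1, false), (0, false), (1, false), (1, false), (0, false), (1, false), (1, false), (0, false)], [], [0, 0, 0, 0, 0, 0, 0, 0, 0, 0, 0, 0, 0, 0, 0,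 0, 0, 0, 0, 0, 0, 0, 0, 0, 0, 0, 0, 0, 0, 0, 0, 0, 0, 0, 0, 0, 0, 0, 0, 0, 0, 0, 0, 0, 0, 0, 0, 0, 0, 0, 0, 0, 0, 0, 0, 1]⟩,
    ⟨[(0, true), (1, true), (1, true), (1, true), (0, true), (1, true), (1, true), (0, true), (1, true), (1, true), (1, true), (0, true), (1, true), (0, false), (1, false), (0, false), (1, false), (1, false), (0, false), (1, false), (1, false), (0, true), (1, true), (0, true), (1, false), (0, true), (1, false), (1, false), (0, false), (1, false), (0, true), (1, true), (1, true), (0, true), (1, true), (1, true), (0, true), (1, true), (1, true), (0, false), (1, false), (1, false), (0, false), (1, false), (1, false), (0, false), (1, true), (0, true), (1, true), (0, true), (1, false), (0, true), (1, false), (1, false), (0, false), (1, false), (0, true), (1, true), (1, true), (0, true), (1, true), (1, true), (0, true), (1, false), (0, false), (1, false), (1, false), (0, false), (1, false), (1, false), (0, false), (1, true), (0, true), (1,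 true), (0, true), (1, false), (0, true), (1, false), (1, false), (0, false), (1, false)], [], [0, 0, 0, 0, 0, 0, 0, 0, 0, 0, 0, 0, 0, 0, 0, 0, 0, 0, 0, 0, 0, 0, 0, 0, 0, 0, 0, 0, 0, 0, 0, 0, 0, 0, 0, 0, 0, 0, 0, 0, 0, 0, 0, 0, 0, 0, 0, 0, 0, 0, 0, 0, 0, 0, 0, 0, 1]⟩,
    ⟨[(1, true), (1, true), (0, true), (1, true), (1, true), (1, true), (0, true), (1, true), (1, true), (0, true), (1, true), (1, true), (0, true), (1, false), (1, false), (1, false), (0, false), (1, false), (0, false), (1, false), (1, false), (0, false), (1, false), (0, false), (1, false), (0, true), (1, true), (1, true), (0, true), (1, true), (1, true), (0, true), (1, false), (0, false), (1, false), (1, false), (0, false), (1, false), (1, false), (0, false), (1, true), (0, true), (1, true), (0, true), (1, false), (0, true), (1, false), (0, true), (1, false), (1, false), (0, false), (1, false), (0, true), (1, true), (1, true), (0, true), (1, true), (1, true), (0, true), (1, false), (1, false),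 (0, false), (1, false), (1, false), (0, false), (1, false), (1, false), (0, false), (1, true), (0, true), (1, true), (0, true), (1, false), (0, true), (1, false), (0, true), (1, false), (1, false), (0, false), (1, false), (0, true), (1, true), (1, true), (0, true), (1, true), (1, true), (0, true), (1, false), (1, false), (0, false), (1, false), (1, false), (0, false), (1, false), (1, false), (0, false), (1, true), (0, true), (1, true), (0, true), (1, false), (1, false), (0, false), (1, false)], [], [0, 0, 0, 0, 0, 0, 0, 0, 0, 0, 0, 0, 0, 0, 0, 0, 0, 0, 0, 0, 0, 0, 0, 0, 0, 0, 0, 0, 0, 0, 0, 0, 0, 0, 0, 0, 0, 0, 0, 0, 0, 0, 0, 0, 0, 0, 0, 0, 0, 0, 0, 0, 0, 0, 0, 0, 0, 1]⟩,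
    ⟨[(1, true), (1, true), (1, true), (1, true), (0, true), (1, true), (0, true), (1, true), (0, true), (1, true), (1, true), (0, false), (1, false), (0, false), (1, false), (1, false), (0, false), (1, false), (0, true), (1, true), (1, true), (0, true), (1, true), (0, false), (1, false), (1, false), (0, false), (1, false), (1, false), (0, false), (1, true), (0, true), (1, true), (1, true), (0, false), (1, true), (0, false), (1, true), (0, false), (1, false), (0, false), (1, false), (0, true), (1, true), (1, true), (0, true), (1, true), (1, true), (0, true), (1, true), (0, false), (1, false), (1, false), (0, false), (1, false), (1, false), (0, false), (1, true), (0, true), (1, true), (0, true), (1, false), (1, false), (0, false), (1, false), (0, true), (1, true), (1, true), (0, true), (1, true), (1, true), (0, true), (1, false), (0, false), (1, false), (1, false), (0, false), (1, false), (1, false), (0, false), (1, true), (0, true), (1, true), (0, true),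 (1, false), (0, true), (1, false), (0, true), (1, false), (1, false), (0, false), (1, false), (0, true), (1, true), (1, true), (0, true), (1, true), (1, true), (0, true), (1, false), (0, false), (1, false), (1, false), (0, false), (1, false), (1, false), (0, false), (1, true), (0, true), (1, true), (0, true), (1, false), (0, true), (1, false), (1, false), (0, false), (1, false)], [], [0, 0, 0, 0, 0, 0, 0, 0, 0, 0, 0, 0, 0, 0, 0, 0, 0, 0, 0, 0, 0, 0, 0, 0, 0, 0, 0, 0, 0, 0, 0, 0, 0, 0, 0, 0, 0, 0, 0, 0, 0, 0, 0, 0, 0, 0, 0, 0, 0, 0, 0, 0, 0, 0, 0, 0, 0, 0, 1]⟩,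
    ⟨[(0, true), (1, true), (1, true), (0, true), (1, true), (0, true), (1, true), (0, true), (1, false), (0, false), (1, true), (0, true), (1, false), (1, false), (0, false), (1, false), (1, false), (0, false), (1, false), (1, false), (0, false), (1, true), (0, true), (1, true), (1, true), (0, false), (1, false), (0, false), (1, false), (0, true), (1, true), (1, true), (0, true), (1, true), (1, true), (0, true), (1, false), (0, false), (1, false), (1, false), (0, false), (1, false), (1, false), (0, false), (1, true), (0, true), (1, true), (1, true), (0, false), (1, true), (0, false), (1, false), (0, false), (1, false), (0, true), (1, true), (1, true), (0, true), (1, true), (1, true), (0, true), (1, true), (0, false), (1, false), (1, false), (0, false), (1, false), (1, false), (0, false), (1, true), (0, true), (1, true), (1, true), (0, false), (1, false), (0, false), (1, false), (0, true), (1, true), (1, true), (0, true), (1, true), (1, true), (0, true),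 (1, false), (0, false), (1, false), (1, false), (0, false), (1, false), (1, false), (0, false), (1, true), (0, true), (1, true), (1, true), (0, false), (1, true), (0, false), (1, false), (0, false), (1, false), (0, true), (1, true), (1, true), (0, true), (1, true), (1, true), (0, true), (1, false), (1, false), (0, false), (1, false), (1, false), (0, false), (1, false), (1, false), (0, false)], [], [0, 0, 0, 0, 0, 0, 0, 0, 0, 0, 0, 0, 0, 0, 0, 0, 0, 0, 0, 0, 0, 0, 0, 0, 0, 0, 0, 0, 0, 0, 0, 0, 0, 0, 0, 0, 0, 0, 0, 0, 0, 0, 0, 0, 0, 0, 0, 0, 0, 0, 0, 0, 0, 0, 0, 0, 0, 0, 0, 1]⟩,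
    ⟨[(0, true), (1, true), (1, true), (0, true), (1, true), (1, true), (1, true), (1, true), (0, true), (1, true), (1, true), (0, true), (1, true), (0, false), (1, false), (1, false), (0, false), (1, false), (0, false), (1, false), (0, false), (1, false), (1, false), (1, false), (0, false), (1, true), (0, true), (1, true), (1, true), (0, false), (1, false), (0, false), (1, false), (0, true), (1, true), (1, true), (0, true), (1, true), (1, true), (0, true), (1, true), (1, true), (0, false), (1, false), (1, false), (0, false), (1, false), (1, false), (0, false), (1, true), (0, true), (1, true), (1, true), (0, false), (1, false), (0, false), (1, false), (0, true), (1, true), (1, true), (0, true), (1, true), (1, true), (0, true), (1, true), (0, false), (1, false), (1, false), (0, false), (1, false), (1, false), (0, false), (1, true), (0, true), (1, true), (0, true), (1, false), (1, false), (0, false), (1, false), (0, true), (1, true), (1, true), (0, true),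 (1, true), (1, true), (0, true), (1, false), (1, false), (0, false), (1, false), (1, false), (0, false), (1, false), (1, false), (0, false), (1, true), (0, true), (1, true), (1, true), (0, false), (1, false), (0, false), (1, false), (0, true), (1, true), (1, true), (0, true), (1, true), (1, true), (0, true), (1, false), (1, false), (0, false), (1, false), (1, false), (0, false), (1, false), (1, false), (0, false)], [], [0, 0, 0, 0, 0, 0, 0, 0, 0, 0, 0, 0, 0, 0, 0, 0, 0, 0, 0, 0, 0, 0, 0, 0, 0, 0, 0, 0, 0, 0, 0, 0, 0, 0, 0, 0, 0, 0, 0, 0, 0, 0, 0, 0, 0, 0, 0, 0, 0, 0, 0, 0, 0, 0, 0, 0, 0, 0, 0, 0, 1]⟩,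
    ⟨[(0, true), (1, true), (0, true), (1, true), (1, true), (1, true), (0, true), (1, true), (1, true), (1, true), (0, true), (1, true), (0, false), (1, false), (0, false), (1, false), (1, false), (1, false), (0, false), (1, false), (1, false), (0, false), (1, true), (0, true), (1, true), (0, true), (1, false), (1, false), (0, false), (1, false), (0, true), (1, true), (1, true), (0, true), (1, true), (1, true), (0, true), (1, true), (0, false), (1, false), (1, false), (0, false), (1, false), (1, false), (0, false), (1, true), (0, true), (1, true), (0, true), (1, false), (1, false), (0, false), (1, false), (0, true), (1, true), (1, true), (0, true), (1, true), (1, true), (0, true), (1, false), (0, false), (1, false), (1, false), (0, false), (1, false), (1, false), (0, false), (1, true), (0, true), (1, true), (1, true), (0, false), (1, true), (0, false), (1, true), (0, false), (1, true), (0, false), (1, false), (0, false), (1, false), (0, true), (1, true),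 (1, true), (0, true), (1, true), (1, true), (0, true), (1, false), (1, false), (0, false), (1, false), (1, false), (0, false), (1, false), (1, false), (0, false), (1, true), (0, true), (1, true), (0, true), (1, false), (0, true), (1, false), (1, false), (0, false), (1, false), (0, true), (1, true), (1, true), (0, true), (1, true), (1, true), (0, true), (1, false), (0, false), (1, false), (1, false), (0, false), (1, false), (1, false), (0, false)], [], [0, 0, 0, 0, 0, 0, 0, 0, 0, 0, 0, 0, 0, 0, 0, 0, 0, 0, 0, 0, 0, 0, 0, 0, 0, 0, 0, 0, 0, 0, 0, 0, 0, 0, 0, 0, 0, 0, 0, 0, 0, 0, 0, 0, 0, 0, 0, 0, 0, 0, 0, 0, 0, 0, 0, 0, 0, 0, 0, 0, 0, 1]⟩,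
    ⟨[(0, true), (1, true), (1, true), (0, true), (1, true), (1, true), (1, true), (1, true), (0, true), (1, true), (0, true), (1, false), (0, false), (1, false), (1, false), (0, true), (1, false), (0, false), (1, false), (1, false), (0, false), (1, false), (1, false), (0, false), (1, true), (0, true), (1, true), (0, true), (1, false), (1, false), (0, false), (1, false), (0, true), (1, true), (1, true), (0, true), (1, true), (1, true), (0, true), (1, false), (1, false), (0, false), (1, false), (1, false), (0, false), (1, false), (1, false), (0, false), (1, true), (0, true), (1, true), (1, true), (0, false), (1, true), (0, false), (1, true), (0, false), (1, false), (0, false), (1, false), (0, true), (1, true), (1, true), (0, true), (1, true), (1, true), (0, true), (1, true), (0, false), (1, false), (1, false), (0, false), (1, false), (1, false), (0, false), (1, true), (0, true), (1, true), (1, true), (0, false), (1, true), (0, false), (1, true), (0, false),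 (1, false), (0, false), (1, false), (0, true), (1, true), (1, true), (0, true), (1, true), (1, true), (0, true), (1, false), (0, false), (1, false), (1, false), (0, false), (1, false), (1, false), (0, false), (1, true), (0, true), (1, true), (1, true), (0, false), (1, false), (0, false), (1, false), (0, true), (1, true), (1, true), (0, true), (1, true), (1, true), (0, true), (1, false), (0, false), (1, false), (1, false), (0, false), (1, false), (1, false), (0, false)], [], [0, 0, 0, 0, 0, 0, 0, 0, 0, 0, 0, 0, 0, 0, 0, 0, 0, 0, 0, 0, 0, 0, 0, 0, 0, 0, 0, 0, 0, 0, 0, 0, 0, 0, 0, 0, 0, 0, 0, 0, 0, 0, 0, 0, 0, 0, 0, 0, 0, 0, 0, 0, 0, 0, 0, 0, 0, 0, 0, 0, 0, 0, 1]⟩,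
    ⟨[(0, true), (1, true), (0, true), (1, true), (0, true), (1, true), (1, true), (0, true), (1, true), (1, true), (1, true), (0, true), (1, false), (1, false), (1, false), (0, false), (1, false), (1, false), (0, false), (1, false), (1, false), (0, true), (1, true), (1, true), (0, false), (1, false), (0, false), (1, false), (0, true), (1, true), (1, true), (0, true), (1, true), (1, true), (0, true), (1, false), (0, false), (1, false), (1, false), (0, false), (1, false), (1, false), (0, false), (1, true), (0, true), (1, true), (0, true), (1, false), (0, true), (1, false), (0, true), (1, false), (0, true), (1, false), (1, false), (0, false), (1, false), (0, true), (1, true), (1, true), (0, true), (1, true), (1, true), (0, true), (1, false), (1, false), (0, false), (1, false), (1, false), (0, false), (1, false), (1, false), (0, false), (1, true), (0, true), (1, true), (1, true), (0, false), (1, true), (0, false), (1, false), (0, false), (1, false), (0, true),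 (1, true), (1, true), (0, true), (1, true), (1, true), (0, true), (1, false), (0, false), (1, false), (1, false), (0, false), (1, false), (1, false), (0, false), (1, true), (0, true), (1, true), (0, true), (1, false), (0, true), (1, false), (0, true), (1, false), (1, false), (0, false), (1, false), (0, true), (1, true), (1, true), (0, true), (1, true), (1, true), (0, true), (1, false), (0, false), (1, false), (1, false), (0, false), (1, false), (1, false), (0, false)], [], [0, 0, 0, 0, 0, 0, 0, 0, 0, 0, 0, 0, 0, 0, 0, 0, 0, 0, 0, 0, 0, 0, 0, 0, 0, 0, 0, 0, 0, 0, 0, 0, 0, 0, 0, 0, 0, 0, 0, 0, 0, 0, 0, 0, 0, 0, 0, 0, 0, 0, 0, 0, 0, 0, 0, 0, 0, 0, 0, 0, 0, 0, 0, 1]⟩,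
    ⟨[(1, true), (1, true), (1, true), (0, true), (1, true), (0, true), (1, true), (0, true), (1, true), (0, true), (1, true), (0, true), (1, false), (0, false), (1, false), (0, false), (1, false), (1, false), (1, false), (1, false), (0, false), (1, false), (0, true), (1, true), (0, true), (1, false), (0, true), (1, false), (1, false), (0, false), (1, false), (0, true), (1, true), (1, true), (0, true), (1, true), (1, true), (0, true), (1, false), (0, false), (1, false), (1, false), (0, false), (1, false), (1, false), (0, false), (1, true), (0, true), (1, true), (1, true), (0, false), (1, true), (0, false), (1, true), (0, false), (1, true), (0, false), (1, false), (0, false), (1, false), (0, true), (1, true), (1, true), (0, true), (1, true), (1, true), (0, true), (1, true), (0, false), (1, false), (1, false), (0, false), (1, false), (1, false), (0, false), (1, true), (0, true), (1, true), (0, true), (1, false), (1, false), (0, false), (1, false), (0, true),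 (1, true), (1, true), (0, true), (1, true), (1, true), (0, true), (1, false), (0, false), (1, false), (1, false), (0, false), (1, false), (1, false), (0, false), (1, true), (0, true), (1, true), (1, true), (0, false), (1, true), (0, false), (1, true), (0, false), (1, false), (0, false), (1, false), (0, true), (1, true), (1, true), (0, true), (1, true), (1, true), (0, true), (1, false), (0, false), (1, false), (1, false), (0, false), (1, false), (1, false), (0, false)], [], [0, 0, 0, 0, 0, 0, 0, 0, 0, 0, 0, 0, 0, 0, 0, 0, 0, 0, 0, 0, 0, 0, 0, 0, 0, 0, 0, 0, 0, 0, 0, 0, 0, 0, 0, 0, 0, 0, 0, 0, 0, 0, 0, 0, 0, 0, 0, 0, 0, 0, 0, 0, 0, 0, 0, 0, 0, 0, 0, 0, 0, 0, 0, 0, 1]⟩,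
    ⟨[(0, true), (1, true), (1, true), (0, true), (1, true), (1, true), (1, true), (0, true), (1, true), (1, true), (0, false), (1, false), (1, false), (0, false), (1, false), (1, false), (1, false), (0, false), (1, false), (0, false), (1, true), (0, true), (1, true), (1, true), (0, false), (1, false), (0, false), (1, false), (0, true), (1, true), (1, true), (0, true), (1, true), (1, true), (0, true), (1, false), (0, false), (1, false), (1, false), (0, false), (1, false), (1, false), (0, false), (1, true), (0, true), (1, true), (1, true), (0, false), (1, false), (0, false), (1, false), (0, true), (1, true), (1, true), (0, true), (1, true), (1, true), (0, true), (1, false), (0, false), (1, false), (1, false), (0, false), (1, false), (1, false), (0, false), (1, true), (0, true), (1, true), (0, true), (1, false), (0, true), (1, false), (0, true), (1, false), (1, false), (0, false), (1, false), (0, true), (1, true), (1, true), (0, true), (1, true), (1, true),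 (0, true), (1, false), (0, false), (1, false), (1, false), (0, false), (1, false), (1, false), (0, false), (1, true), (0, true), (1, true), (1, true), (0, false), (1, true), (0, false), (1, true), (0, false), (1, false), (0, false), (1, false), (0, true), (1, true), (1, true), (0, true), (1, true), (1, true), (0, true), (1, true), (0, false), (1, false), (1, false), (0, false), (1, false), (1, false), (0, false), (1, true), (0, true), (1, true), (1, true), (0, false), (1, false), (0, false), (1, false)], [], [0, 0, 0, 0, 0, 0, 0, 0, 0, 0, 0, 0, 0, 0, 0, 0, 0, 0, 0, 0, 0, 0, 0, 0, 0, 0, 0, 0, 0, 0, 0, 0, 0, 0, 0, 0, 0, 0, 0, 0, 0, 0, 0, 0, 0, 0, 0, 0, 0, 0, 0, 0, 0, 0, 0, 0, 0, 0, 0, 0, 0, 0, 0, 0, 0, 1]⟩,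
    ⟨[(1, true), (1, true), (1, true), (1, true), (0, true), (1, true), (0, true), (1, true), (1, true), (0, false), (1, true), (0, true), (1, true), (0, false), (1, false), (1, false), (0, false), (1, false), (1, false), (0, false), (1, true), (0, true), (1, true), (0, true), (1, false), (0, true), (1, false), (1, false), (0, false), (1, false), (0, true), (1, true), (1, true), (0, true), (1, true), (1, true), (0, true), (1, false), (0, false), (1, false), (1, false), (0, false), (1, false), (1, false), (0, false), (1, true), (0, true), (1, true), (0, true), (1, false), (1, false), (0, false), (1, false), (0, true), (1, true), (1, true), (0, true), (1, true), (1, true), (0, true), (1, true), (1, true), (0, false), (1, false), (1, false), (0, false), (1, false), (1, false), (0, false), (1, true), (0, true), (1, true), (1, true), (0, false), (1, true), (0, false), (1, true), (0, false), (1, false), (0, false), (1, false), (0, true), (1, true), (1, true),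 (0, true), (1, true), (1, true), (0, true), (1, false), (0, false), (1, false), (1, false), (0, false), (1, false), (1, false), (0, false), (1, true), (0, true), (1, true), (0, true), (1, false), (1, false), (0, false), (1, false), (0, true), (1, true), (1, true), (0, true), (1, true), (1, true), (0, true), (1, false), (0, false), (1, false), (1, false), (0, false), (1, false), (1, false), (0, false), (1, true), (0, true), (1, true), (0, true), (1, false), (0, true), (1, false), (1, false), (0, false), (1, false)], [], [0, 0, 0, 0, 0, 0, 0, 0, 0, 0, 0, 0, 0, 0, 0, 0, 0, 0, 0, 0, 0, 0, 0, 0, 0, 0, 0, 0, 0, 0, 0, 0, 0, 0, 0, 0, 0, 0, 0, 0, 0, 0, 0, 0, 0, 0, 0, 0, 0, 0, 0, 0, 0, 0, 0, 0, 0, 0, 0, 0, 0, 0, 0, 0, 0, 0, 1]⟩,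
    ⟨[(0, true), (1, true), (1, true), (0, true), (1, true), (1, true), (1, true), (0, true), (1, true), (0, true), (1, true), (0, true), (1, false), (0, false), (1, false), (0, false), (1, false), (1, false), (0, false), (1, false), (1, false), (0, true), (1, true), (1, true), (0, false), (1, true), (0, false), (1, false), (0, false), (1, false), (0, true), (1, true), (1, true), (0, true), (1, true), (1, true), (0, true), (1, true), (0, false), (1, false), (1, false), (0, false), (1, false), (1, false), (0, false), (1, true), (0, true), (1, true), (1, true), (0, false), (1, false), (0, false), (1, false), (0, true), (1, true), (1, true), (0, true), (1, true), (1, true), (0, true), (1, false), (0, false), (1, false), (1, false), (0, false), (1, false), (1, false), (0, false), (1, true), (0, true), (1, true), (1, true), (0, false), (1, false), (0, false), (1, false), (0, true), (1, true), (1, true), (0, true), (1, true), (1, true), (0, true), (1, false),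 (1, false), (0, false), (1, false), (1, false), (0, false), (1, false), (1, false), (0, false), (1, true), (0, true), (1, true), (0, true), (1, false), (0, true), (1, false), (1, false), (0, false), (1, false), (0, true), (1, true), (1, true), (0, true), (1, true), (1, true), (0, true), (1, true), (0, false), (1, false), (1, false), (0, false), (1, false), (1, false), (0, false), (1, true), (0, true), (1, true), (1, true), (0, false), (1, true), (0, false), (1, true), (0, false), (1, false), (0, false), (1, false)], [], [0, 0, 0, 0, 0, 0, 0, 0, 0, 0, 0, 0, 0, 0, 0, 0, 0, 0, 0, 0, 0, 0, 0, 0, 0, 0, 0, 0, 0, 0, 0, 0, 0, 0, 0, 0, 0, 0, 0, 0, 0, 0, 0, 0, 0, 0, 0, 0, 0, 0, 0, 0, 0, 0, 0, 0, 0, 0, 0, 0, 0, 0, 0, 0, 0, 0, 0, 1]⟩,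
    ⟨[(0, true), (1, true), (0, true), (1, true), (1, true), (1, true), (0, true), (1, true), (0, true), (1, true), (0, true), (1, true), (1, true), (0, false), (1, false), (1, false), (0, true), (1, false), (0, false), (1, false), (1, false), (0, false), (1, false), (1, false), (0, false), (1, true), (0, true), (1, true), (0, true), (1, false), (1, false), (0, false), (1, false), (0, true), (1, true), (1, true), (0, true), (1, true), (1, true), (0, true), (1, true), (1, true), (0, false), (1, false), (1, false), (0, false), (1, false), (1, false), (0, false), (1, true), (0, true), (1, true), (1, true), (0, false), (1, false), (0, false), (1, false), (0, true), (1, true), (1, true), (0, true), (1, true), (1, true), (0, true), (1, true), (0, false), (1, false), (1, false), (0, false), (1, false), (1, false), (0, false), (1, true), (0, true), (1, true), (1, true), (0, false), (1, false), (0, false), (1, false), (0, true), (1, true), (1, true), (0, true), (1,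 true), (1, true), (0, true), (1, true), (1, true), (0, false), (1, false), (1, false), (0, false), (1, false), (1, false), (0, false), (1, true), (0, true), (1, true), (1, true), (0, false), (1, true), (0, false), (1, false), (0, false), (1, false), (0, true), (1, true), (1, true), (0, true), (1, true), (1, true), (0, true), (1, false), (0, false), (1, false), (1, false), (0, false), (1, false), (1, false), (0, false), (1, true), (0, true), (1, true), (0, true), (1, false), (1, false), (0, false), (1, false)], [], [0, 0, 0, 0, 0, 0, 0, 0, 0, 0, 0, 0, 0, 0, 0, 0, 0, 0, 0, 0, 0, 0, 0, 0, 0, 0, 0, 0, 0, 0, 0, 0, 0, 0, 0, 0, 0, 0, 0, 0, 0, 0, 0, 0, 0, 0, 0, 0, 0, 0, 0, 0, 0, 0, 0, 0, 0, 0, 0, 0, 0, 0, 0, 0, 0, 0, 0, 0, 1]⟩,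
    ⟨[(1, true), (0, true), (1, true), (0, true), (1, true), (0, true), (1, true), (0, true), (1, false), (0, false), (1, false), (0, false), (1, true), (0, false), (1, false), (0, false), (1, false), (0, true), (1, true), (1, true), (0, true), (1, true), (1, true), (0, true), (1, false), (0, false), (1, false), (1, false), (0, false), (1, false), (1, false), (0, false), (1, true), (0, true), (1, true), (0, true), (1, false), (0, true), (1, false), (1, false), (0, false), (1, false), (0, true), (1, true), (1, true), (0, true), (1, true), (1, true), (0, true), (1, false), (0, false), (1, false), (1, false), (0, false), (1, false), (1, false), (0, false), (1, true), (0, true), (1, true), (1, true), (0, false), (1, true), (0, false), (1, true), (0, false), (1, false), (0, false), (1, false), (0, true), (1, true), (1, true), (0, true), (1, true), (1, true), (0, true), (1, true), (0, false), (1, false), (1, false), (0, false), (1, false), (1, false), (0, false),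 (1, true), (0, true), (1, true), (0, true), (1, false), (1, false), (0, false), (1, false), (0, true), (1, true), (1, true), (0, true), (1, true), (1, true), (0, true), (1, true), (0, false), (1, false), (1, false), (0, false), (1, false), (1, false), (0, false), (1, true), (0, true), (1, true), (0, true), (1, false), (1, false), (0, false), (1, false), (0, true), (1, true), (1, true), (0, true), (1, true), (1, true), (0, true), (1, true), (0, false), (1, false), (1, false), (0, false), (1, false), (1, false), (0, false)], [], [0, 0, 0, 0, 0, 0, 0, 0, 0, 0, 0, 0, 0, 0, 0, 0, 0, 0, 0, 0, 0, 0, 0, 0, 0, 0, 0, 0, 0, 0, 0, 0, 0, 0, 0, 0, 0, 0, 0, 0, 0, 0, 0, 0, 0, 0, 0, 0, 0, 0, 0, 0, 0, 0, 0, 0, 0, 0, 0, 0, 0, 0, 0, 0, 0, 0, 0, 0, 0, 1]⟩,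
    ⟨[(1, true), (1, true), (0, true), (1, true), (1, true), (1, true), (1, true), (0, true), (1, true), (1, true), (0, true), (1, false), (1, false), (0, false), (1, false), (1, false), (1, false), (1, false), (0, false), (1, false), (1, false), (0, true), (1, true), (1, true), (0, true), (1, true), (1, true), (0, true), (1, false), (1, false), (0, false), (1, false), (1, false), (0, false), (1, false), (1, false), (0, false), (1, true), (0, true), (1, true), (0, true), (1, false), (1, false), (0, false), (1, false), (0, true), (1, true), (1, true), (0, true), (1, true), (1, true), (0, true), (1, true), (0, false), (1, false), (1, false), (0, false), (1, false), (1, false), (0, false), (1, true), (0, true), (1, true), (0, true), (1, false), (1, false), (0, false), (1, false), (0, true), (1, true), (1, true), (0, true), (1, true), (1, true), (0, true), (1, true), (0, false), (1, false), (1, false), (0, false), (1, false), (1, false), (0, false), (1, true),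 (0, true), (1, true), (0, true), (1, false), (1, false), (0, false), (1, false), (0, true), (1, true), (1, true), (0, true), (1, true), (1, true), (0, true), (1, true), (0, false), (1, false), (1, false), (0, false), (1, false), (1, false), (0, false), (1, true), (0, true), (1, true), (0, true), (1, false), (1, false), (0, false), (1, false), (0, true), (1, true), (1, true), (0, true), (1, true), (1, true), (0, true), (1, false), (1, false), (0, false), (1, false), (1, false), (0, false), (1, false), (1, false), (0, false)], [], [0, 0, 0, 0, 0, 0, 0, 0, 0, 0, 0, 0, 0, 0, 0, 0, 0, 0, 0, 0, 0, 0, 0, 0, 0, 0, 0, 0, 0, 0, 0, 0, 0, 0, 0, 0, 0, 0, 0, 0, 0, 0, 0, 0, 0, 0, 0, 0, 0, 0, 0, 0, 0, 0, 0, 0, 0, 0, 0, 0, 0, 0, 0, 0, 0, 0, 0, 0, 0, 0, 1]⟩,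
    ⟨[(1, true), (0, true), (1, true), (0, true), (1, true), (0, true), (1, true), (1, true), (1, true), (1, true), (0, true), (1, true), (1, true), (0, false), (1, false), (1, false), (0, false), (1, false), (0, false), (1, false), (1, false), (0, false), (1, false), (0, true), (1, true), (1, true), (0, true), (1, true), (0, false), (1, false), (1, false), (0, false), (1, false), (1, false), (0, false), (1, true), (0, true), (1, true), (1, true), (0, false), (1, true), (0, false), (1, false), (0, false), (1, false), (0, true), (1, true), (1, true), (0, true), (1, true), (1, true), (0, true), (1, false), (0, false), (1, false), (1, false), (0, false), (1, false), (1, false), (0, false), (1, true), (0, true), (1, true), (1, true), (0, false), (1, false), (0, false), (1, false), (0, true), (1, true), (1, true), (0, true), (1, true), (1, true), (0, true), (1, true), (0, false), (1, false), (1, false), (0, false), (1, false), (1, false), (0, false), (1, true),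 (0, true), (1, true), (0, true), (1, false), (1, false), (0, false), (1, false), (0, true), (1, true), (1, true), (0, true), (1, true), (1, true), (0, true), (1, true), (1, true), (0, false), (1, false), (1, false), (0, false), (1, false), (1, false), (0, false), (1, true), (0, true), (1, true), (0, true), (1, false), (0, true), (1, false), (1, false), (0, false), (1, false), (0, true), (1, true), (1, true), (0, true), (1, true), (1, true), (0, true), (1, true), (0, false), (1, false), (1, false), (0, false), (1, false), (1, false), (0, false)], [], [0, 0, 0, 0, 0, 0, 0, 0, 0, 0, 0, 0, 0, 0, 0, 0, 0, 0, 0, 0, 0, 0, 0, 0, 0, 0, 0, 0, 0, 0, 0, 0, 0, 0, 0, 0, 0, 0, 0, 0, 0, 0, 0, 0, 0, 0, 0, 0, 0, 0, 0, 0, 0, 0, 0, 0, 0, 0, 0, 0, 0, 0, 0, 0, 0, 0, 0, 0, 0, 0, 0, 1]⟩,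
    ⟨[(0, true), (1, true), (1, true), (0, true), (1, true), (0, true), (1, true), (1, true), (0, true), (1, false), (1, false), (0, false), (1, false), (0, false), (1, false), (1, false), (0, false), (1, true), (0, true), (1, true), (1, true), (0, false), (1, false), (0, false), (1, false), (0, true), (1, true), (1, true), (0, true), (1, true), (1, true), (0, true), (1, false), (0, false), (1, false), (1, false), (0, false), (1, false), (1, false), (0, false), (1, true), (0, true), (1, true), (0, true), (1, false), (1, false), (0, false), (1, false), (0, true), (1, true), (1, true), (0, true), (1, true), (1, true), (0, true), (1, false), (0, false), (1, false), (1, false), (0, false), (1, false), (1, false), (0, false), (1, true), (0, true), (1, true), (1, true), (0, false), (1, false), (0, false), (1, false), (0, true), (1, true), (1, true), (0, true), (1, true), (1, true), (0, true), (1, false), (0, false), (1, false), (1, false), (0, false), (1, false),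 (1, false), (0, false), (1, true), (0, true), (1, true), (1, true), (0, false), (1, false), (0, false), (1, false), (0, true), (1, true), (1, true), (0, true), (1, true), (1, true), (0, true), (1, false), (0, false), (1, false), (1, false), (0, false), (1, false), (1, false), (0, false), (1, true), (0, true), (1, true), (1, true), (0, false), (1, false), (0, false), (1, false), (0, true), (1, true), (1, true), (0, true), (1, true), (1, true), (0, true), (1, false), (1, false), (0, false), (1, false), (1, false), (0, false), (1, false), (1, false), (0, false)], [], [0, 0, 0, 0, 0, 0, 0, 0, 0, 0, 0, 0, 0, 0, 0, 0, 0, 0, 0, 0, 0, 0, 0, 0, 0, 0, 0, 0, 0, 0, 0, 0, 0, 0, 0, 0, 0, 0, 0, 0, 0, 0, 0, 0, 0, 0, 0, 0, 0, 0, 0, 0, 0, 0, 0, 0, 0, 0, 0, 0, 0, 0, 0, 0, 0, 0, 0, 0, 0, 0, 0, 0, 1]⟩,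
    ⟨[(0, true), (1, true), (0, true), (1, true), (1, true), (1, true), (0, true), (1, true), (1, true), (0, true), (1, true), (0, true), (1, false), (0, false), (1, false), (1, false), (0, false), (1, false), (1, false), (1, false), (0, false), (1, false), (0, false), (1, true), (0, true), (1, true), (0, true), (1, false), (1, false), (0, false), (1, false), (0, true), (1, true), (1, true), (0, true), (1, true), (1, true), (0, true), (1, false), (0, false), (1, false), (1, false), (0, false), (1, false), (1, false), (0, false), (1, true), (0, true), (1, true), (0, true), (1, false), (0, true), (1, false), (0, true), (1, false), (0, true), (1, false), (1, false), (0, false), (1, false), (0, true), (1, true), (1, true), (0, true), (1, true), (1, true), (0, true), (1, true), (0, false), (1, false), (1, false), (0, false), (1, false), (1, false), (0, false), (1, true), (0, true), (1, true), (0, true), (1, false), (0, true), (1, false), (0, true), (1, false),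 (1, false), (0, false), (1, false), (0, true), (1, true), (1, true), (0, true), (1, true), (1, true), (0, true), (1, true), (0, false), (1, false), (1, false), (0, false), (1, false), (1, false), (0, false), (1, true), (0, true), (1, true), (1, true), (0, false), (1, false), (0, false), (1, false), (0, true), (1, true), (1, true), (0, true), (1, true), (1, true), (0, true), (1, true), (0, false), (1, false), (1, false), (0, false), (1, false), (1, false), (0, false), (1, true), (0, true), (1, true), (1, true), (0, false), (1, false), (0, false), (1, false)], [], [0, 0, 0, 0, 0, 0, 0, 0, 0, 0, 0, 0, 0, 0, 0, 0, 0, 0, 0, 0, 0, 0, 0, 0, 0, 0, 0, 0, 0, 0, 0, 0, 0, 0, 0, 0, 0, 0, 0, 0, 0, 0, 0, 0, 0, 0, 0, 0, 0, 0, 0, 0, 0, 0, 0, 0, 0, 0, 0, 0, 0, 0, 0, 0, 0, 0, 0, 0, 0, 0, 0, 0, 0, 1]⟩,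
    ⟨[(1, true), (1, true), (1, true), (1, true), (0, true), (1, true), (1, true), (0, true), (1, true), (1, true), (0, false), (1, false), (1, false), (1, false), (1, false), (0, false), (1, true), (0, true), (1, true), (1, true), (0, true), (1, true), (1, true), (0, false), (1, false), (1, false), (0, false), (1, false), (1, false), (0, false), (1, true), (0, true), (1, true), (1, true), (0, false), (1, false), (0, false), (1, false), (0, true), (1, true), (1, true), (0, true), (1, true), (1, true), (0, true), (1, false), (0, false), (1, false), (1, false), (0, false), (1, false), (1, false), (0, false), (1, true), (0, true), (1, true), (1, true), (0, false), (1, false), (0, false), (1, false), (0, true), (1, true), (1, true), (0, true), (1, true), (1, true), (0, true), (1, true), (1, true), (0, false), (1, false), (1, false), (0, false), (1, false), (1, false), (0, false), (1, true), (0, true), (1, true), (1, true), (0, false), (1, false), (0, false),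 (1, false), (0, true), (1, true), (1, true), (0, true), (1, true), (1, true), (0, true), (1, true), (0, false), (1, false), (1, false), (0, false), (1, false), (1, false), (0, false), (1, true), (0, true), (1, true), (0, true), (1, false), (0, true), (1, false), (1, false), (0, false), (1, false), (0, true), (1, true), (1, true), (0, true), (1, true), (1, true), (0, true), (1, true), (0, false), (1, false), (1, false), (0, false), (1, false), (1, false), (0, false), (1, true), (0, true), (1, true), (0, true), (1, false), (0, true), (1, false), (1, false), (0, false), (1, false)], [], [0, 0, 0, 0, 0, 0, 0, 0, 0, 0, 0, 0, 0, 0, 0, 0, 0, 0, 0, 0, 0, 0, 0, 0, 0, 0, 0, 0, 0, 0, 0, 0, 0, 0, 0, 0, 0, 0, 0, 0, 0, 0, 0, 0, 0, 0, 0, 0, 0, 0, 0, 0, 0, 0, 0, 0, 0, 0, 0, 0, 0, 0, 0, 0, 0, 0, 0, 0, 0, 0, 0, 0, 0, 0, 1]⟩]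
  pot g := pot0.getK g
  innerSize := 3265920
  innerGen := 2

/-- data -/
def level0eqsPart0 : List (ℕ × ℕ × Vec) := [(3, 45, [0, 0, 0, 0, 0, 0, 0, 0, 0, 0, 0, 0, 0, 0, 0, 0, 0, 0, 0, 0, 0, 0, 0, 0, 0, 0, 0, 0, 0, 0, 0, 1, 0, 0, 0, 0, 0, 0, 0, 0, 0, 0, 0, 0, 0, 0, 0, 0, 0, 0, 0, 0, (-1)]), (2, 261, [0, 0, 0, 0, 0, 0, 0, 0, 0, 0, 0, 0, 0, 0, 0, 0, 0, 0, 0, 0, 0, 0, 0, 0, 0, 0, 0, 0, 0, 0, 0, 0, 0, 0, 0, 0, 0, 0, 0, 0, 0, 0, 0, 0, 0, 0, 0, (-1), 0, 0, 0, (-1), 0, 0, 0, 2]), (2, 269, [0, 0, 0, 0, 0, 0, 0, 0, 0, 0, 0, 0, 0, 0, 0, 0, 0, 0, 0, 0, 0, 0, 0, 0, 0, 0, 0, 0, 0, 0, 0, 0, 0, 0, 0, 0, 0, 0, 0, 0, 0, 0, 0, 0, 0, 0, 0, 0, 0, 0, 0, (-2), 0, 0, 2]), (4, 14, [0, 0, 0, 0, 0, 0, 0, 0, 0, 0, 0, 0, 0, 0, 0, 0, 0, 0, 0, 0, 0, 0, 0, 0, 0, 0, 0, 0, 0, 0, 1, 0, 0, 0, 0, 0, 0, 0, 0, 0, 0, 0, 0, 0, 0, 0, 0, 0, 0, 0, 0, 7, (-2), (-1)]), (2, 157, [15, 113, 56, (-148), (-180), (-3), 36, 52, (-102), 49, 5, 143, 11, 119, (-58), (-35), 0, 0, 0, 0, 0, 0, 0, 0, 2, (-16), 5,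 (-4), (-7), 7, 0, 0, 0, 0, 0, 0, 0, 0, 0, 0, 0, 0, 0, 0, 0, 0, 0, 1, 0, 0, 0, (-1), 0, 0, 0, 0, 0, 0, 0, 0, 0, 0, 0, 0, 0, 0, 0, 0, 0, 0, 0, 0, 0, 2]), (5, 187, [(-730), 10700, 7454, 5054, 851, (-5542), (-6316), (-2628), 1715, (-3355), (-3984), (-10414), 6766, (-3619), 843, 8695, 0, 0, 0, 0, 0, 0, 0, 0, 457, 1825, (-772), (-16), 758, (-661), (-10), 73, (-14), (-17), (-20), 0, 3, 29, 31, (-4), (-21), (-15), (-5), (-46), 18, (-19), (-18), 17, 22, 7, 2, 1, 0, 0, (-1), 0, 0, 0, 0, 0, 0, 0, 0, 0, 0, 0, 0, 0, 0, 1, 0, 0, 0, (-1)]), (2, 65, [(-2380), (-10443), (-6259), 14132, 14434, 2474, (-10692), (-6152), 10003, (-3258), (-1138), (-19081), 3397, (-14560), 3589, 13479, 0, 0, 0, 0, 0, 0, 0, 0, 1731, 2970, (-1875), (-184), 984, (-424), (-14), 35, 21, 36, (-1), 0, 24, 30, 30, 21, (-3), 11, (-20), (-11), 0, 13, 35, (-25), 24, 3, 24, (-1), 0, 0, 0, 0, 0, 0, 0, 0, 0, 0, 0, 0, 0, 0, 0, 0, 0, 0, 0, 0, 2]), (4, 72, [(-2768), (-2668), (-972), 16766, 14115, (-1378), (-14026),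 (-7537), 10594, (-5246), (-3636), (-24936), 7652, (-16091), 3992, 18166, 0, 0, 0, 0, 0, 0, 0, 0, 1958, 3889, (-2221), (-209), 1390, (-840), (-22), 85, 5, 22, (-15), 0, 24, 49, 50, 10, (-18), (-3), (-25), (-49), 8, 0, 22, (-13), 39, 9, 23, 1, 0, 0, 0, 0, 0, 0, 0, 0, 0, 0, 0, 0, 0, 0, 0, 0, 0, (-2)]), (2, 144, [2766, 33933, 17399, (-10696), (-22272), (-11047), 8493, 4153, (-9937), (-875), (-5327), 5669, 3803, 13770, (-2232), (-10109), 0, 0, 0, 0, 0, 0, 0, 0, (-2328), (-1846), 1949, 357, (-477), (-440), 10, 166, (-80), (-117), (-39), 2, (-21), 11, 14, (-89), (-68), (-91), 24, (-120), 1, (-74), (-113), 93, 19, 1, (-44), (-1), 0, 0, 0, 0, 0, 0, 0, 0, 0, 0, 0, 0, 0, 0, 0, 0, 0, 0, 2]), (2, 123, [(-3108), (-38248), (-19837), 12753, 25624, 12403, (-9739), (-4990), 11734, 689, 5728, (-7881), (-4240), (-16186), 2861, 11597, 0, 0, 0, 0, 0, 0, 0, 0, 2641, 2149, (-2215), (-405), 557, 450, (-3), (-159), 84, 126, 43, (-2), 25, (-13), (-18), 106, 69, 94, (-29), 125, (-12),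 85, 121, (-104), (-19), (-10), 43, (-1), 0, 0, 0, 0, 0, 0, 0, 0, 0, 0, 2]), (4, 122, [(-273), (-68124), (-42519), (-3459), 20448, 29039, 11711, 3407, 6033, 10771, 17635, 24081, (-26024), (-4118), 576, (-18068), 0, 0, 0, 0, 0, 0, 0, 0, 732, (-3599), 384, (-206), (-1800), 2477, 27, (-346), 133, 162, 103, (-3), 10, (-109), (-112), 132, 124, 135, 1, 275, (-58), 135, 163, (-140), (-85), (-33), 21, 4, (-2), (-1), 0, 0, 0, 0, 0, 0, 0, 3, 0, 0, 0, 3]), (2, 44, [(-9426), (-40011), (-23807), 56323, 57136, 9052, (-42365), (-24528), 39722, (-13102), (-4571), (-75899), 13957, (-57810), 14360, 53331, 0, 0, 0, 0, 0, 0, 0, 0, 6889, 11746, (-7436), (-749), 3959, (-1713), (-62), 135, 82, 141, (-7), (-2), 94, 113, 116, 92, (-8), 49, (-80), (-42), (-10), 44, 134, (-99), 94, 8, 86, (-1), 0, 0, 0, 0, 0, 0, 0, 2]), (4, 58, [(-9286), 22030, 12580, 62693, 39219, (-16596), (-53306), (-28972), 36871, (-23533), (-21004), (-104111), 37545, (-57457), 15372, 69711, 0, 0, 0, 0, 0, 0, 0,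 0, 6296, 15329, (-7916), (-539), 5597, (-4033), (-96), 510, (-44), (-28), (-104), 4, 80, 218, 225, (-28), (-144), (-85), (-74), (-317), 31, (-83), (-31), 35, 183, 41, 47, 5, 0, (-2), 0, 0, 0, 0, 0, 0, 0, 0, 0, 0, 0, 0, (-2), 0, 0, 0, 0, 0, 0, 0, 2]), (4, 28, [(-13959), (-61013), (-34850), 82305, 85421, 13821, (-64677), (-36141), 57933, (-19047), (-6093), (-109589), 21263, (-85480), 20553, 81417, 0, 0, 0, 0, 0, 0, 0, 0, 10912, 17601, (-11467), (-1209), 5900, (-2342), (-110), 74, 146, 236, (-27), 0, 140, 141, 161, 215, 30, 131, (-142), 4, 12, 69, 218, (-143), 113, 41, 174, 11, 0, (-4), (-2), 0, 0, 0, 0, 0, (-2), 0, 0, (-2), 0, (-2), 0, 2]), (13, 118, [244, (-231980), (-147784), (-16988), 62658, 103206, 35149, 12033, 18521, 39544, 59867, 76986, (-89397), (-15192), (-856), (-55102), 0, 0, 0, 0, 0, 0, 0, 0, 4031, (-12361), 513, (-1143), (-6659), 9562, 103, (-1363), 549, 613, 409, 4, 46, (-405), (-449), 615, 432, 541, (-37), 1073, (-228), 554, 648, (-545), (-339),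 (-84), 130, (-28), 5, 6, 5, (-3), 2, 0, 3, 1, 2, 3, 3, 1, (-2), 0, (-5), (-4), (-3), (-2), (-1), (-2), 6, (-4), 2]), (5, 157, [(-21313), (-158379), (-87793), 111882, 146365, 46738, (-82700), (-46949), 86617, (-15613), 9557, (-125519), 6627, (-123118), 27768, 102088, 0, 0, 0, 0, 0, 0, 0, 0, 16447, 21441, (-15929), (-2116), 6704, (-1051), (-95), (-250), 328, 518, 110, (-8), 186, 110, 99, 379, 175, 310, (-173), 267, (-60), 283, 491, (-414), 75, (-8), 211, 1, 0, 0, (-2), 0, 0, 0, 0, 1, 0, 0, 0, 0, 0, 0, 0, 0, 0, 0, 0, 0, 0, 1]), (24, 30, [34882, 126596, 75724, (-216675), (-210706), (-24792), 172616, 96462, (-150356), 55333, 26094, 309736, (-64446), 223255, (-54441), (-218792), 0, 0, 0, 0, 0, 0, 0, 0, (-26478), (-48015), 29587, 2588, (-16042), 7242, 225, (-647), (-333), (-509), 50, (-17), (-364), (-489), (-501), (-482), 113, (-185), 347, 191, (-27), (-247), (-549), 337, (-394), (-49), (-403), 19, (-4), (-6), (-5), 2, 0, 0, (-2), 4, 0, (-4), 2, 0, 2, (-2), 2,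 0, 2, 2, 0, 2, (-1), 3]), (5, 44, [(-37884), (-89757), (-46064), 226123, 209297, 4114, (-185486), (-100844), 149767, (-63230), (-36130), (-322518), 86050, (-224652), 54651, 237746, 0, 0, 0, 0, 0, 0, 0, 0, 27166, 51371, (-30594), (-2804), 17989, (-9505), (-283), 868, 201, 429, (-119), (-2), 349, 567, 579, 275, (-143), 88, (-325), (-416), 57, 91, 403, (-272), 459, 66, 324, 0, 0, 0, (-1), 0, 0, 0, 0, 1, 0, 0, 0, 0, 0, 0, 0, 0, 0, 0, 0, 0, 1]), (24, 117, [51727, 298978, (-121372), 161979, (-183057), 14087, 64944, (-88435), 142625, (-82132), (-97905), (-447659), (-41936), (-181796), 125314, (-127303), 0, 0, 0, 0, 0, 0, 0, 0, 9524, 678, (-3829), (-2274), 154, 4782, 259, (-1910), (-47), (-1390), (-2395), 200, 1302, (-1957), (-603), 1190, (-168), 578, (-738), 1076, (-230), (-3197), (-1375), 2668, (-581), 1440, 2537, 604, (-145), (-16), (-46), (-21), (-41), (-49), 67, (-49), (-51), 137, (-95), (-100), (-89), 32, (-94), 78, (-8), 16, (-24), (-31), 35, (-105), 19]),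 (23, 9, [26116, 55799, 116993, (-264859), (-163015), (-32395), 143727, 117496, (-189614), 75147, 54182, 453439, (-48811), 266807, (-86811), (-174307), 0, 0, 0, 0, 0, 0, 0, 0, (-16812), (-48664), 24937, 43, (-15089), 8926, 161, (-2607), (-22), 185, 253, (-76), (-604), (-793), (-846), 328, 946, 680, 301, 1302, 367, 166, (-39), (-240), (-841), 60, (-313), 18, 7, (-20), (-10), 6, 5, 3, (-5), 21, 0, (-13), 14, 1, 8, (-17), 4, (-2), (-5), (-1), 2, 2, 1, 13, 3])]

/-- data -/
def level0eqsPart1 : List (ℕ × ℕ × Vec) := [(5, 41, [(-41243), (-228160), (-139058), 248261, 268976, 63349, (-184906), (-107970), 182147, (-51180), (-9374), (-331096), 43535, (-263895), 64171, 230658, 0, 0, 0, 0, 0, 0, 0, 0, 31303, 50957, (-33468), (-3346), 16406, (-5591), (-212), 448, 510, 749, 70, 12, 438, 460, 451, 626, (-18), 313, (-384), 23, (-90), 410, 784, (-563), 374, (-5), 428, (-24), 4, 8, 5, (-3), 0, 0, 2, (-4), 1, 4, (-1), 1, (-2), 3, (-2), (-1), (-2), (-2), 1, (-2), 2, (-4)]),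 (10, 182, [(-59178), (-338355), (-137931), 250740, 352407, 66461, (-193007), (-97961), 183541, (-38313), 21276, (-211581), 46033, (-250495), 54105, 245325, 0, 0, 0, 0, 0, 0, 0, 0, 42038, 46344, (-35701), (-7162), 16795, (-5586), (-270), (-2229), 471, 1500, 121, (-219), 210, 75, 30, 220, 1107, 982, (-310), 936, 48, 257, 1036, (-1040), (-126), 50, 614, 29, 36, (-22), (-47), 13, (-10), 16, (-24), 39, (-17), (-34), (-3), (-1), 8, (-27), 16, 3, 7, 5, (-1), 4, (-19), 30, 4]), (5, 263, [42651, 348898, 204060, (-236478), (-308183), (-111059), 173798, 100560, (-187007), 31238, (-22323), 277025, (-4251), 267294, (-60316), (-212835), 0, 0, 0, 0, 0, 0, 0, 0, (-34810), (-45297), 34109, 4294, (-13606), 928, 179, 521, (-807), (-1114), (-253), (-12), (-445), (-222), (-210), (-1004), (-326), (-699), 420, (-665), 143, (-679), (-1135), 877, (-151), 9, (-531), 17, (-4), (-6), (-3), 2, 0, 0, (-2), 4, 0, (-4), 2, 0, 2, (-2), 2, 0, 2, 2, 0, 2, (-2), 4]), (14, 2, [76965, 2988,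 (-96725), (-346277), (-328311), 105627, 284265, 144035, (-193561), 112381, 73007, 388405, (-216541), 281767, (-75308), (-373783), 0, 0, 0, 0, 0, 0, 0, 0, (-48312), (-77321), 44840, 8798, (-31435), 25367, 892, (-813), 864, (-373), 564, 241, 30, (-772), (-757), 992, (-369), (-105), (-25), 1467, (-103), 1035, 675, 261, (-533), (-113), 376, (-193), (-9), 95, 68, (-30), (-4), (-14), 32, (-56), 15, 56, (-4), 0, (-34), 41, (-13), (-3), (-11), (-15), (-8), (-15), 12, (-50), (-21)]), (5, 192, [(-71469), (-8245), 48441, 402153, 347589, (-77018), (-370601), (-182532), 241509, (-137532), (-102045), (-588429), 230019, (-375878), 87999, 485846, 0, 0, 0, 0, 0, 0, 0, 0, 51220, 100982, (-57304), (-5985), 37250, (-23815), (-552), 1633, 30, 534, (-502), (-37), 459, 1168, 1188, 422, (-231), 147, (-546), (-1067), 380, (-149), 365, (-329), 840, 252, 504, (-7), 14, (-3), (-11), 3, (-2), 5, (-6), 8, (-5), (-7), (-4), 0, 1, (-6), 4, 1, 1, 1, 0, 1, (-2), 5, 2]), (16, 272, [(-9227),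 (-873350), (-678293), 158511, 324307, 413066, 109443, (-44250), 233215, 79406, 180347, (-75854), (-340020), (-255113), 96612, (-197923), 0, 0, 0, 0, 0, 0, 0, 0, 12672, (-20833), (-5786), (-1046), (-16793), 27500, 227, (-2109), 1543, 1361, 995, 79, 642, (-975), (-899), 979, 556, 859, 54, 2101, (-1384), 1160, 1535, (-1139), (-430), (-526), 401, 65, (-41), (-4), 33, (-3), 10, (-11), 20, (-11), (-6), 22, (-23), (-11), (-9), 22, (-22), 3, 7, 6, 5, (-2), 7, (-15), 7]), (5, 62, [68773, 306861, 176842, (-406324), (-423864), (-70258), 314753, 177756, (-287808), 93806, 31180, 549581, (-100436), 421224, (-102098), (-397133), 0, 0, 0, 0, 0, 0, 0, 0, (-51146), (-86642), 55151, 5541, (-28746), 11989, 407, (-906), (-673), (-1103), (-5), (-6), (-667), (-849), (-840), (-858), 64, (-429), 615, 197, 22, (-515), (-1112), 803, (-668), (-60), (-676), 24, (-4), (-8), (-6), 3, 0, 0, (-2), 4, (-1), (-4), 2, (-1), 2, (-3), 2, 1, 2, 2, 0, 2, (-2), 4]), (2, 168, [78242, 396979, 229283,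 (-454312), (-492826), (-100420), 346982, 197278, (-327813), 96624, 20613, 594174, (-95463), 476759, (-114144), (-435380), 0, 0, 0, 0, 0, 0, 0, 0, (-58630), (-94731), 62063, 6535, (-31286), 11534, 434, (-600), (-863), (-1406), (-72), 5, (-777), (-818), (-821), (-1023), (-99), (-621), 693, (-43), 75, (-629), (-1370), 1020, (-661), (-37), (-792), 11, (-4), (-4), (-2), 2, 2, 0, 0, 2, 0, (-2), 2, 0, 2, 0, 0, (-2), 2, 2, 0, 2, (-2), 4]), (5, 5, [(-76423), (-379758), (-230200), 459677, 483496, 98698, (-345506), (-200380), 331500, (-100617), (-26859), (-619547), 95481, (-482116), 118231, 433000, 0, 0, 0, 0, 0, 0, 0, 0, 57370, 95627, (-61741), (-6088), 31156, (-11876), (-463), 944, 828, 1285, 53, 13, 776, 904, 909, 1006, (-53), 510, (-694), (-137), (-85), 635, 1312, (-921), 736, 31, 791, (-13), 3, 6, 4, (-3), 0, 0, 3, (-5), 0, 5, (-2), 0, (-2), 3, (-4), (-1), (-2), (-2), 0, (-2), 3, (-4), 1]), (8, 93, [125941, 1093875, 177265, (-162702), (-845621), (-145148), 227303,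 27250, (-138570), (-79068), (-282221), (-735658), (-8756), 157810, 11772, (-275502), 0, 0, 0, 0, 0, 0, 0, 0, (-161333), 4424, 68964, 47432, (-14815), (-16185), 598, 25309, (-1621), (-6065), 1457, 1144, 478, 6550, 5187, (-4457), (-10205), (-9474), 486, (-11798), (-575), 3003, (-1588), 3700, 5649, (-2391), (-2428), (-1264), 86, 320, 327, (-99), 66, (-18), 79, (-224), 123, 40, 80, 119, (-2), 128, (-1), (-110), (-19), (-62), 17, (-33), 23, (-90), (-88)]), (18, 187, [21169, (-701745), (-819923), 321885, 223836, 472014, 14781, (-147179), 366737, 6912, 73951, (-691010), (-343681), (-484803), 171217, (-91156), 0, 0, 0, 0, 0, 0, 0, 0, (-1482), 25246, (-20153), 10009, (-8634), 27233, 350, 4543, 2380, 271, 926, 642, 1807, 570, 783, 2274, (-2366), (-842), (-998), 109, (-1253), 2108, 2248, 150, 1193, (-486), 1569, (-183), (-77), 129, 155, (-58), 16, (-50), 87, (-133), 35, 123, 1, (-10), (-60), 73, (-66), (-1), (-31), (-30), (-10), (-40), 43, (-113), (-22)]), (7, 30,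 [(-80787), (-854575), (-531386), 442064, 623510, 300526, (-251247), (-175023), 379692, (-25025), 96205, (-441449), (-88057), (-508653), 124682, 291340, 0, 0, 0, 0, 0, 0, 0, 0, 61399, 66039, (-56297), (-8021), 18034, 5072, (-152), (-2011), 1605, 2474, 715, (-79), 918, 58, 14, 1234, 958, 1316, (-659), 1732, (-673), 1310, 2384, (-1903), 90, (-207), 1036, 0, 7, 6, (-14), 2, (-8), 4, (-4), 3, (-7), (-6), (-11), 0, 0, 3, 5, 2, 7, 2, (-1), (-1), (-10), 7, (-2)]), (8, 238, [(-115791), 166814, 387977, 417240, 460635, (-272978), (-588850), (-196234), 179734, (-181412), (-150413), (-513382), 467604, (-342504), 31053, 803805, 0, 0, 0, 0, 0, 0, 0, 0, 80184, 142372, (-82059), (-12629), 58477, (-41281), (-880), 300, (-156), 1278, (-532), (-232), (-78), 1542, 1285, 1029, 791, 1087, (-567), (-718), 1284, (-23), 457, (-1258), 636, 509, 21, (-85), 45, (-23), (-7), 14, (-2), 16, (-36), 45, 7, (-43), 30, 16, 24, (-34), 40, (-9), (-7), (-1), 8, 14, (-1), 31, 5]), (16, 29, [83446,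 946646, 572044, (-439245), (-665560), (-335037), 274067, 176899, (-384492), 12786, (-117690), 424017, 103674, 526324, (-118977), (-318685), 0, 0, 0, 0, 0, 0, 0, 0, (-67901), (-69147), 61864, 8809, (-17963), (-8665), 239, 2619, (-2063), (-2829), (-910), 20, (-943), 73, 99, (-2076), (-1191), (-1810), 777, (-2356), 550, (-1687), (-2788), 2202, 65, 161, (-1140), 5, (-1), (-2), 3, 4, (-3), 1, (-5), (-3), 1, (-4), 4, 1, 2, (-2), 8, 0, 1, 2, 1, 3, (-5), 3, (-3)]), (14, 262, [(-76072), (-1527118), (-921476), 285024, 745612, 577307, 6641, (-70462), 353900, 124709, 311303, 85931, (-391206), (-392366), 96472, (-64730), 0, 0, 0, 0, 0, 0, 0, 0, 51832, (-13587), (-26677), (-11148), (-11028), 31907, 381, (-6703), 2103, 3882, 1717, (-301), 844, (-1507), (-1596), 358, 2623, 2282, (-169), 4269, (-2040), 2092, 3464, (-3417), (-1001), (-744), 753, 102, 7, (-5), (-95), 31, (-47), 25, (-49), 24, (-40), (-45), (-69), 3, 12, 36, 50, 18, 63, 28, 4, 23, (-68), 55, (-13)]), (8, 13,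 [111975, 892625, 548325, (-647945), (-801069), (-291535), 449484, 274539, (-509950), 90791, (-49733), 781512, (-10070), 722725, (-172291), (-546357), 0, 0, 0, 0, 0, 0, 0, 0, (-87715), (-121446), 88554, 9957, (-36429), 4196, 522, 391, (-1971), (-2714), (-592), (-29), (-1270), (-734), (-726), (-2225), (-525), (-1456), 1054, (-1243), 449, (-1580), (-2757), 2066, (-638), 85, (-1275), 26, 6, (-12), (-12), 8, (-6), 5, (-11), 11, (-4), (-14), 2, 0, 5, (-9), 11, 1, 5, 4, 0, 4, (-9), 12, (-1)])]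

/-- the table with its checks -/
def level0 : CfsgLib.Sporadic.ChainLevel where
  table := table0
  gexp := [[1], [0, 1]]
  perm := [0x6d17f88db588537635a87fa015a9fd69d697fe117897e84d8e859e46f5354d9ab8119165dbf6b1a96aa0b80e008720285e1d869fc4c1384e5687dd5f6c12f77567615ad691ee79d665b590565657b5926321063e1562d7c521de7cddc76d634815d4b52c4899f67962711756614f45d18531c9729415e171715d170d16511138216e83dbc5adb86e5ba6ddb388a256d95a55df56bda67c2078320581a1e865ae4c5ef5599968552751d34a12666d23689cf825846519560de6829ea78e1287de5785325913361d867c59664d81609808921451de0485245e5c7581767413e4ed42719705bdbe7ad4a6ee1b861f87c9ec7a189769d252d777d91d76114469b27a53a6c5a3555544b9a05415173945535cb5856c525df5f546539c150d727211c479744f13d5cd587e5fa8820d839346218a695fb7d15375dd64a92b4659d4559c4957a669d55edd947d3f5794046d5b4a5cc735c249d5c70065324fe18c58164fc3290a394c739906130aa1408b2ad00225102210c3e8fb13c4e348310a88026c9d3c417060050ac2c334b23a0e92c5074245d2cce2190d737ca8118dc2e4c41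68d838057350d5214f7344d0208743ac3c1cd0b4444d4202f2b8da14c4b2703d0e4330b40d0286a36c3a19cb62d45f38cea39c552bcc5178ac40504114de04401294a32909223c3427c9e3c8c13cc441000604c420ec1b0fca2240912841c158834088a3fcfd1485134c84230cf0d8f41dc0c01c1f08019078351fc760c0ce32c6f000031c86e1ac6c1b4ba1a4162dc1d448e143c62150602d0ad3905b170d94350e3588d2c06130c87219033e4f8321053084a1243211cdd2a49a040960549924c38300cc254b82fc3e0dc811e0a02f8483d8753182e2f4ec3b4f50a40b0200e08c09094220687b1f0791988e250211e8ef3c0681040f25c1229c43050262f07e0a0bb090271f4983b8041c00229871, 0x6ed154e9a36dd1f5bd835ad7b5b98a6992658d8e48d3659e08865656715854da549d56839fa6a95c531a05b1d56d9b96b5fc801544952a4adaf735435cd506a5f94b1d44bde84c9337e12946d5777d38529696e1ef651474d11361d82849d24919a675d75499b861b5795b3661607adc770176869217c9a86021b789645dd3e835bd6fda25692d815b16e9bc88a1582e204796d7dded81993659ae83223805894dd90769a787dab74621655a1859ec84d6a5e935519b25351472d1a489f0875e95f5404611d51591585884a1315053063185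4fd7c46599589c4775d35d57245d845c17e83d687b92e7398f6d17865d665218b87a1c5c58d7d14e7414b79a0a5655e6c22567dd96f9f1719e0852097a9fd7fd554713d57dd6705c356de36913b709864813c72551761f67cdfb811494e60777992511c867a02731db6b217575ca53dfe791cf80e10785425d1e7459815e6118917f7d5c5770491803029801050ac2910f0f8b138c44054221584109cd616cc8038791285908c87174e124c47078ec370210a8320bc4d3505c3a50527c633a881108ca1886413cc63a109340260a03b070111145f0d067130860007531ccc06c3f3685535c31260b402407268dd2fc8e2b471258573dc372f41629cb52850e2ccb014848184c32310c2a4e6280993d4e43d0fd274c4250e04210d394a80f0080d50342c5a444d81ccdf3c0ab2ec120e40f21090010541e8061f84b254ee27024008191dc8f2481f0e02e2e1070141a040031a46b1d0203e0cb20c661a01839cae30443028a51f4334100b2bc651783a3148d1c8401c00d228d31388822d0114c1328c9e448f1378910d86d2f0db3b4463390a3f02d3c8f30f4f6144f90b07c354b2388581d8fa3ed00344250a4781b06f140b9214d93247b0ac1733cfe200d2334893000c074be3bd0225cc23fc7f26cb72a8ba288b64186e208eb4406a]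
  pinv := [0x6d17f88db588537635a87fa015a9fd69d697fe117897e84d8e859e46f5354d9ab8119165dbf6b1a96aa0b80e008720285e1d869fc4c1384e5687dd5f6c12f77567615ad691ee79d665b590565657b5926321063e1562d7c521de7cddc76d634815d4b52c4899f67962711756614f45d18531c9729415e171715d170d16511138216e83dbc5adb86e5ba6ddb388a256d95a55df56bda67c2078320581a1e865ae4c5ef5599968552751d34a12666d23689cf825846519560de6829ea78e1287de5785325913361d867c59664d81609808921451de0485245e5c7581767413e4ed42719705bdbe7ad4a6ee1b861f87c9ec7a189769d252d777d91d76114469b27a53a6c5a3555544b9a05415173945535cb5856c525df5f546539c150d727211c479744f13d5cd587e5fa8820d839346218a695fb7d15375dd64a92b4659d4559c4957a669d55edd947d3f5794046d5b4a5cc735c249d5c70065324fe18c58164fc3290a394c739906130aa1408b2ad00225102210c3e8fb13c4e348310a88026c9d3c417060050ac2c334b23a0e92c5074245d2cce2190d737ca8118dc2e4c4168d838057350d5214f7344d0208743ac3c1cd0b4444d4202f2b8da14c4b2703d0e4330b40d0286a36c3a19cb62d45f38cea39c552bcc5178ac40504114de04401294a32909223c3427c9e3c8c13cc441000604c420ec1b0fca2240912841c158834088a3fcfd1485134c84230cf0d8f41dc0c01c1f08019078351fc760c0ce32c6f000031c86e1ac6c1b4ba1a4162dc1d448e143c62150602d0ad3905b170d94350e3588d2c06130c87219033e4f8321053084a1243211cdd2a49a040960549924c38300cc254b82fc3e0dc811e0a02f8483d8753182e2f4ec3b4f50a40b0200e08c09094220687b1f0791988e250211e8ef3c0681040f25c1229c43050262f07e0a0bb090271f4983b8041c00229871,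 0x559176a1b5679b26856363562711c9845d34a19b6d14f665db461205be096fda96cd5a53a124c9ad6e5354852c69dfd52d24531fe4da087c9eb6bd384555f4ddc75498e7896d6b99a7354d631ee4715b74523509c347d5079d315dd134a9a35513975946809f05d9da67d5d4896b7dd2b645264ed2e73151451785113f515cb6f5536f9b6895b7801e38860174969741946e1577e1aa7fd29682077cdc668a1983141889bc672045552d75e0f751d85e9cf59dab675e16b130619a45aa165817f5921a699847753e5f972879dc469c54597062d7c8719746568705ca5d51d7d5745857187e1b6c203875987916e84d66841c285d79615ce51d5849e0650dbb5660e7a20a529fc835d54e9f44955e64e05571e54d1657819561d2f7d91e6058a5f5c05213c502234cde669614659df7b1ed609807bd6c6e9f17e5fa7a98382e187edd98558f7213d881b1621497a5905ed895cd1b891927784724c01428b2270aa2543c3709d1d0053a05d258101302a0341a2883b0ac2c0d06b2e436294a30e0391188f044800fcf2008e53a4dd194a826ca441c2f3d89e24045300f1100c90809231d000c4eb140180a4db06c3d05ccc1a8e207cfe334de15ca02b00e18c152fc122dc412340808875028062d0c42c430420b016c642f50c238092a49a2d50f1810b124072cca739c482847f02cc1298c503cbb2049f3d479110881e8be158ab134510584e3e0d0084891a403390190308317c32078853f0261ec2d3386d244552f05309004108251b8001bc6734868168e0398e12b511350593dcea3fc943e82e2e9033208612caf0d42337c4f3b0d1208fb448ae3d03e35506188e340854329090dc993605822c772e04325cd3178ee319103b4760e833074ef09cd9404da0a07e3e5043c06c1e0f304cd732c721f066070b64150d1288c35871228fd148141706130c98308841cc871c07d438cf]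
  defs := [[(1, true), (0, true), (1, true), (1, true), (0, false), (1, false), (0, false), (1, false)], [(0, true), (1, true), (1, true), (0, true), (1, true), (1, true), (0, true), (1, true), (0, false), (1, false), (1, false), (0, false), (1, false), (1, false), (0, false)]]
  eqs := level0eqsPart0 ++ level0eqsPart1
  pts := [0]

end CfsgLib.Sporadic.MultTwoMcl
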