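import Mathlib
import Cfsg.Agent.Lib.Sporadic.ChainCertificate
import Cfsg.Agent.Lib.Schur.TrieFast

/-!
# Coset table 1 of a chain
-/

set_option autoImplicit false
set_option maxRecDepth 100000
set_option maxHeartbeats 0
set_option Elab.async false

noncomputable section

namespace CfsgLib.Sporadic.MultTwoMcl

open CfsgLib.Schur.Cert

/-- data -/
def next1 : Trie (ℕ) := .node (.node (.node (.node (.node (.node (.node (.node (.leaf 1) (.leaf 85)) (.node (.leaf 24) (.leaf 54))) (.node (.node (.leaf 33) (.leaf 104)) (.leaf 32))) (.node (.node (.node (.leaf 17) (.leaf 89)) (.node (.leaf 70) (.leaf 62))) (.node (.node (.leaf 47) (.leaf 44)) (.leaf 26)))) (.node (.node (.node (.node (.leaf 9) (.leaf 40)) (.node (.leaf 49) (.leaf 59))) (.node (.node (.leaf 12) (.leaf 102)) (.leaf 38))) (.node (.node (.node (.leaf 25) (.leaf 2)) (.node (.leaf 77) (.leaf 110))) (.node (.node (.leaf 43) (.leaf 92)) (.leaf 76))))) (.node (.node (.node (.node (.node (.leaf 5) (.leaf 97)) (.node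 (.leaf 60) (.leaf 18))) (.node (.node (.leaf 37) (.leaf 14)) (.leaf 0))) (.node (.node (.node (.leaf 21) (.leaf 83)) (.node (.leaf 74) (.leaf 10))) (.node (.node (.leaf 50) (.leaf 106)) (.leaf 30)))) (.node (.node (.node (.node (.leaf 13) (.leaf 100)) (.node (.leaf 66) (.leaf 82))) (.node (.node (.leaf 34) (.leaf 98)) (.leaf 86))) (.node (.node (.node (.leaf 29) (.leaf 88)) (.node (.leaf 79) (.leaf 105))) (.node (.node (.leaf 55) (.leaf 108)) (.leaf 84)))))) (.node (.node (.node (.node (.node (.node (.leaf 3) (.leaf 57)) (.node (.leaf 58) (.leaf 99))) (.node (.node (.leaf 35) (.leaf 94)) (.leaf 81))) (.node (.node (.node (.leaf 19) (.leaf 28)) (.node (.leaf 72) (.leaf 51))) (.node (.node (.leaf 48) (.leaf 107)) (.leaf 90)))) (.node (.node (.node (.node (.leaf 11) (.leaf 91)) (.node (.leaf 64) (.leaf 41))) (.node (.node (.leaf 42) (.leaf 75)) (.leaf 80))) (.node (.node (.node (.leaf 27) (.leaf 101)) (.node (.leaf 22) (.leaf 111))) (.node (.node (.leaf 53) (.leaf 109))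 (.leaf 73))))) (.node (.node (.node (.node (.node (.leaf 7) (.leaf 6)) (.node (.leaf 61) (.leaf 67))) (.node (.node (.leaf 39) (.leaf 65)) (.leaf 71))) (.node (.node (.node (.leaf 23) (.leaf 96)) (.node (.leaf 69) (.leaf 78))) (.node (.node (.leaf 52) (.leaf 8)) (.leaf 4)))) (.node (.node (.node (.node (.leaf 15) (.leaf 36)) (.node (.leaf 68) (.leaf 46))) (.node (.node (.leaf 45) (.leaf 93)) (.leaf 87))) (.node (.node (.node (.leaf 31) (.leaf 103)) (.node (.leaf 63) (.leaf 16))) (.node (.node (.leaf 56) (.leaf 20)) (.leaf 95))))))) (.node (.node (.node (.node (.node (.node (.node (.leaf 2) (.leaf 96)) (.node (.leaf 57) (.leaf 17))) (.node (.node (.leaf 34) (.leaf 86)) (.leaf 60))) (.node (.node (.node (.leaf 18) (.leaf 66)) (.node (.leaf 71) (.leaf 104))) (.node (.node (.leaf 21) (.leaf 56)) (.leaf 89)))) (.node (.node (.node (.node (.leaf 10) (.leaf 15)) (.node (.leaf 63) (.leaf 100))) (.node (.node (.leaf 41) (.leaf 7)) (.leaf 84))) (.node (.node (.node (.leaf 26)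 (.leaf 11)) (.node (.leaf 1) (.leaf 48))) (.node (.node (.leaf 50) (.leaf 109)) (.leaf 94))))) (.node (.node (.node (.node (.node (.leaf 6) (.leaf 98)) (.node (.leaf 52) (.leaf 53))) (.node (.node (.leaf 38) (.leaf 45)) (.leaf 83))) (.node (.node (.node (.leaf 22) (.leaf 5)) (.node (.leaf 75) (.leaf 23))) (.node (.node (.leaf 51) (.leaf 108)) (.leaf 92)))) (.node (.node (.node (.node (.leaf 14) (.leaf 9)) (.node (.leaf 67) (.leaf 35))) (.node (.node (.leaf 44) (.leaf 106)) (.leaf 61))) (.node (.node (.node (.leaf 30) (.leaf 25)) (.node (.leaf 80) (.leaf 111))) (.node (.node (.leaf 0) (.leaf 90)) (.leaf 95)))))) (.node (.node (.node (.node (.node (.node (.leaf 4) (.leaf 58)) (.node (.leaf 59) (.leaf 103))) (.node (.node (.leaf 36) (.leaf 101)) (.leaf 82))) (.node (.node (.node (.leaf 20) (.leaf 70)) (.node (.leaf 73) (.leaf 13))) (.node (.node (.leaf 49) (.leaf 87)) (.leaf 91)))) (.node (.node (.node (.node (.leaf 12) (.leaf 99)) (.node (.leaf 65) (.leaf 19))) (.node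 (.node (.leaf 43) (.leaf 72)) (.leaf 85))) (.node (.node (.node (.leaf 28) (.leaf 102)) (.node (.leaf 78) (.leaf 37))) (.node (.node (.leaf 54) (.leaf 110)) (.leaf 27))))) (.node (.node (.node (.node (.node (.leaf 8) (.leaf 3)) (.node (.leaf 62) (.leaf 107))) (.node (.node (.leaf 40) (.leaf 105)) (.leaf 74))) (.node (.node (.node (.leaf 24) (.leaf 79)) (.node (.leaf 76) (.leaf 31))) (.node (.node (.leaf 47) (.leaf 68)) (.leaf 93)))) (.node (.node (.node (.node (.leaf 16) (.leaf 81)) (.node (.leaf 69) (.leaf 42))) (.node (.node (.leaf 46) (.leaf 55)) (.leaf 88))) (.node (.node (.node (.leaf 32) (.leaf 97)) (.node (.leaf 29) (.leaf 33))) (.node (.node (.leaf 39) (.leaf 77)) (.leaf 64)))))))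

/-- data -/
def prev1 : Trie (ℕ) := .node (.node (.node (.node (.node (.node (.node (.node (.leaf 50) (.leaf 37)) (.node (.leaf 48) (.leaf 75))) (.node (.node (.leaf 111) (.leaf 53)) (.leaf 25))) (.node (.node (.node (.leaf 91) (.leaf 41)) (.node (.leaf 68) (.leaf 80))) (.node (.node (.leaf 32) (.leaf 78)) (.leaf 31)))) (.node (.node (.node (.node (.leaf 59) (.leaf 39)) (.node (.leaf 71) (.leaf 70))) (.node (.node (.leaf 95) (.leaf 62)) (.leaf 27))) (.node (.node (.node (.leaf 20) (.leaf 60)) (.node (.leaf 88) (.leaf 94))) (.node (.node (.leaf 73) (.leaf 92)) (.leaf 34))))) (.node (.node (.node (.node (.node (.leaf 76) (.leaf 38)) (.node (.leaf 22) (.leaf 86))) (.node (.node (.leaf 98) (.leaf 102)) (.leaf 26))) (.node (.node (.node (.leaf 106) (.leaf 42)) (.node (.leaf 21) (.leaf 90))) (.node (.node (.leaf 56) (.leaf 57)) (.leaf 33)))) (.node (.node (.node (.node (.leaf 67) (.leaf 40)) (.node (.leaf 52) (.leaf 84))) (.node (.node (.leaf 45) (.leaf 54)) (.leaf 96)))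 (.node (.node (.node (.leaf 82) (.leaf 107)) (.node (.leaf 103) (.leaf 108))) (.node (.node (.leaf 58) (.leaf 81)) (.leaf 104)))))) (.node (.node (.node (.node (.node (.node (.leaf 0) (.leaf 83)) (.node (.leaf 16) (.leaf 66))) (.node (.node (.leaf 8) (.leaf 49)) (.leaf 36))) (.node (.node (.node (.leaf 4) (.leaf 61)) (.node (.leaf 101) (.leaf 110))) (.node (.node (.leaf 12) (.leaf 72)) (.leaf 65)))) (.node (.node (.node (.node (.leaf 2) (.leaf 43)) (.node (.leaf 18) (.leaf 77))) (.node (.node (.leaf 10) (.leaf 64)) (.leaf 29))) (.node (.node (.node (.leaf 6) (.leaf 44)) (.node (.leaf 23) (.leaf 93))) (.node (.node (.leaf 14) (.leaf 87)) (.leaf 35))))) (.node (.node (.node (.node (.node (.leaf 1) (.leaf 99)) (.node (.leaf 17) (.leaf 97))) (.node (.node (.leaf 9) (.leaf 74)) (.leaf 105))) (.node (.node (.node (.leaf 5) (.leaf 85)) (.node (.leaf 28) (.leaf 89))) (.node (.node (.leaf 13) (.leaf 69)) (.leaf 100)))) (.node (.node (.node (.node (.leaf 3) (.leaf 51)) (.node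 (.leaf 19) (.leaf 79))) (.node (.node (.leaf 11) (.leaf 55)) (.leaf 30))) (.node (.node (.node (.leaf 7) (.leaf 46)) (.node (.leaf 24) (.leaf 109))) (.node (.node (.leaf 15) (.leaf 63)) (.leaf 47))))))) (.node (.node (.node (.node (.node (.node (.node (.leaf 30) (.leaf 63)) (.node (.leaf 15) (.leaf 64))) (.node (.node (.leaf 7) (.leaf 46)) (.leaf 108))) (.node (.node (.node (.leaf 3) (.leaf 85)) (.node (.leaf 19) (.leaf 104))) (.node (.node (.leaf 11) (.leaf 55)) (.leaf 88)))) (.node (.node (.node (.node (.leaf 1) (.leaf 91)) (.node (.leaf 17) (.leaf 100))) (.node (.node (.leaf 9) (.leaf 52)) (.leaf 34))) (.node (.node (.node (.leaf 5) (.leaf 43)) (.node (.leaf 22) (.leaf 90))) (.node (.node (.leaf 13) (.leaf 58)) (.leaf 48))))) (.node (.node (.node (.node (.node (.leaf 0) (.leaf 72)) (.node (.leaf 16) (.leaf 66))) (.node (.node (.leaf 8) (.leaf 49)) (.leaf 28))) (.node (.node (.node (.leaf 4) (.leaf 51)) (.node (.leaf 103) (.leaf 86))) (.node (.node (.leaf 12) (.leaf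 94)) (.leaf 65)))) (.node (.node (.node (.node (.leaf 2) (.leaf 73)) (.node (.leaf 18) (.leaf 77))) (.node (.node (.leaf 10) (.leaf 80)) (.leaf 29))) (.node (.node (.node (.leaf 6) (.leaf 45)) (.node (.leaf 23) (.leaf 93))) (.node (.node (.leaf 14) (.leaf 60)) (.leaf 35)))))) (.node (.node (.node (.node (.node (.node (.leaf 44) (.leaf 37)) (.node (.leaf 111) (.leaf 79))) (.node (.node (.leaf 96) (.leaf 71)) (.leaf 25))) (.node (.node (.node (.leaf 70) (.leaf 41)) (.node (.leaf 20) (.leaf 83))) (.node (.node (.leaf 78) (.leaf 56)) (.leaf 32)))) (.node (.node (.node (.node (.leaf 74) (.leaf 39)) (.node (.leaf 109) (.leaf 81))) (.node (.node (.leaf 24) (.leaf 53)) (.leaf 98))) (.node (.node (.node (.leaf 105) (.leaf 95)) (.node (.leaf 82) (.leaf 92))) (.node (.node (.leaf 47) (.leaf 59)) (.leaf 54))))) (.node (.node (.node (.node (.node (.leaf 67) (.leaf 38)) (.node (.leaf 102) (.leaf 69))) (.node (.node (.leaf 101) (.leaf 50)) (.leaf 26))) (.node (.node (.node (.leaf 76)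 (.leaf 42)) (.node (.leaf 21) (.leaf 99))) (.node (.node (.leaf 61) (.leaf 57)) (.leaf 33)))) (.node (.node (.node (.node (.leaf 84) (.leaf 40)) (.node (.leaf 31) (.leaf 97))) (.node (.node (.leaf 106) (.leaf 89)) (.leaf 87))) (.node (.node (.node (.leaf 68) (.leaf 75)) (.node (.leaf 27) (.leaf 110))) (.node (.node (.leaf 107) (.leaf 62)) (.leaf 36)))))))

/-- data -/
def lab1_000 : Trie (Word) := .node (.node (.node (.node (.node (.leaf ([])) (.leaf ([(0, true), (1, true), (0, true), (1, false), (0, true), (0, true), (1, false), (0, false), (1, true), (0, true), (1, false), (0, false)]))) (.node (.leaf ([(1, false), (0, true), (1, true), (0, false), (0, false), (1, false), (0, true), (1, true), (0, true), (0, true)])) (.leaf ([(0, true), (1, true), (0, false), (1, false), (0, false), (1, true), (0, true), (0, true), (1, true), (0, false), (0, false)])))) (.node (.node (.leaf ([])) (.leaf ([]))) (.leaf ([(0, true), (1, true), (0, false), (1, false), (0, true), (1, false),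 (0, true), (0, true), (1, false)])))) (.node (.node (.node (.leaf ([])) (.leaf ([(0, false), (1, true), (0, false), (1, false), (0, false), (0, false), (1, false), (0, false), (1, false), (0, true), (0, true)]))) (.node (.leaf ([])) (.leaf ([(0, true), (0, true), (1, true), (0, true), (0, true), (1, true), (0, false), (1, false), (0, true), (1, true), (0, true)])))) (.node (.node (.leaf ([])) (.leaf ([(1, false), (0, false), (1, true), (0, true), (1, true), (0, false), (1, true), (0, true), (0, true), (1, true), (0, false), (1, true)]))) (.leaf ([(0, false)]))))) (.node (.node (.node (.node (.leaf ([])) (.leaf ([(1, true), (0, false), (1, true), (0, true), (1, false), (0, true), (1, true)]))) (.node (.leaf ([(0, true), (0, true), (1, true), (0, false), (1, false), (0, false), (0, false), (1, false), (0, false)])) (.leaf ([(1, false), (0, false), (1, false), (0, true), (1, false), (0, false), (0, false), (1, false)])))) (.node (.node (.leaf ([(1, true)])) (.leaf ([(1,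 true), (0, false), (0, false), (1, true), (0, true), (1, true), (0, false), (1, false), (0, false), (1, false), (0, true)]))) (.leaf ([(1, true), (0, true), (1, false), (0, true), (1, true), (0, true), (1, true), (0, false), (1, true), (0, false)])))) (.node (.node (.node (.leaf ([])) (.leaf ([(1, true), (0, false), (1, false), (0, true), (1, false), (0, false), (1, false), (0, false), (0, false), (1, false), (0, false)]))) (.node (.leaf ([])) (.leaf ([(0, true), (1, true), (0, false), (1, false), (0, false), (1, true), (0, true), (0, true), (1, false), (0, true), (1, true)])))) (.node (.node (.leaf ([(1, false), (0, true), (1, true), (0, true), (0, true), (1, false), (0, false), (1, false)])) (.leaf ([(1, true), (0, false), (1, false), (0, false), (0, false), (1, true), (0, false), (1, false), (0, true), (1, true), (0, true)]))) (.leaf ([(1, true), (0, false), (1, false), (0, false), (1, false), (0, true), (1, true), (0, true), (1, false), (0, true), (0, true), (1,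 false)])))))

/-- data -/
def lab1_001 : Trie (Word) := .node (.node (.node (.node (.node (.leaf ([])) (.leaf ([]))) (.node (.leaf ([])) (.leaf ([(1, false), (0, false), (1, false), (0, false), (1, true), (0, false), (0, false), (1, false), (0, true), (1, true), (0, true), (1, false)])))) (.node (.node (.leaf ([])) (.leaf ([(0, true), (1, true), (0, false), (1, false), (0, false), (0, false), (1, false), (0, true), (0, true), (1, false)]))) (.leaf ([(0, true)])))) (.node (.node (.node (.leaf ([])) (.leaf ([(0, true), (1, false), (0, false), (1, true), (0, true), (1, false)]))) (.node (.leaf ([])) (.leaf ([(1, false), (0, false), (0, false), (1, false), (0, false), (1, true), (0, false)])))) (.node (.node (.leaf ([])) (.leaf ([(1, true), (0, false), (0, false), (1, true), (0, false), (1, false), (0, false), (1, true), (0, true), (1, true), (0, true), (0, true)]))) (.leaf ([(0, true), (1, true), (0, true), (0, true), (1, true), (0, true), (1, false), (0, false), (1, true),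 (0, true), (0, true), (1, true), (0, true)]))))) (.node (.node (.node (.node (.leaf ([])) (.leaf ([]))) (.node (.leaf ([])) (.leaf ([(0, false), (1, true), (0, false), (1, false), (0, false), (1, false), (0, true), (0, true), (1, true), (0, true), (1, true), (0, false), (0, false)])))) (.node (.node (.leaf ([(1, false), (0, false), (1, false), (0, true), (0, true), (1, true), (0, true), (0, true), (1, false), (0, false), (0, false), (1, true)])) (.leaf ([(1, false), (0, false), (1, true), (0, true), (1, true), (0, false), (1, false), (0, true), (1, false), (0, true), (0, true)]))) (.leaf ([])))) (.node (.node (.node (.leaf ([])) (.leaf ([(0, false), (1, false), (0, true), (1, false), (0, true), (0, true), (1, true), (0, false), (0, false), (1, true), (0, true)]))) (.node (.leaf ([])) (.leaf ([(0, true), (1, false), (0, false), (1, false), (0, true), (1, true), (0, false), (1, false), (0, true)])))) (.node (.node (.leaf ([])) (.leaf ([(0, true), (0, true), (1, false),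 (0, false), (1, false), (0, false), (0, false), (1, false), (0, false), (1, true), (0, true)]))) (.leaf ([(1, true), (0, false), (0, false), (1, false), (0, false), (1, false), (0, true), (1, true), (0, true), (1, false), (0, true)])))))

/-- data -/
def lab1_010 : Trie (Word) := .node (.node (.node (.node (.node (.leaf ([])) (.leaf ([(0, true), (1, true), (0, false), (1, true), (0, true), (1, true), (0, false), (1, false), (0, false), (0, false), (1, false)]))) (.node (.leaf ([])) (.leaf ([(0, true), (0, true), (1, true), (0, true), (1, true), (0, true), (0, true), (1, true), (0, false), (1, true), (0, true)])))) (.node (.node (.leaf ([])) (.leaf ([(0, true), (1, false), (0, false), (0, false), (1, false), (0, false), (1, false), (0, true), (0, true), (1, true), (0, false), (0, false)]))) (.leaf ([])))) (.node (.node (.node (.leaf ([])) (.leaf ([(1, false), (0, true), (1, true), (0, false), (1, false), (0, true), (1, true), (0, true), (0, true), (1, true), (0, false),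 (1, false), (0, false)]))) (.node (.leaf ([])) (.leaf ([(0, true), (0, true), (1, false), (0, false), (1, true), (0, true), (1, false), (0, false), (0, false), (1, true)])))) (.node (.node (.leaf ([])) (.leaf ([]))) (.leaf ([]))))) (.node (.node (.node (.node (.leaf ([])) (.leaf ([(0, false), (1, false), (0, true), (0, true), (1, false), (0, true), (1, true), (0, true), (1, false), (0, false), (1, true)]))) (.node (.leaf ([])) (.leaf ([(1, true), (0, false), (0, false), (1, false), (0, false), (0, false), (1, false), (0, false), (1, false), (0, true), (0, true)])))) (.node (.node (.leaf ([])) (.leaf ([(0, false), (0, false), (1, false), (0, true), (1, true), (0, true), (0, true), (1, true), (0, false), (1, false), (0, false)]))) (.leaf ([(0, true), (1, true), (0, false), (0, false), (1, false), (0, false), (1, true), (0, true), (0, true), (1, false), (0, true), (0, true)])))) (.node (.node (.node (.leaf ([])) (.leaf ([]))) (.node (.leaf ([(0, true), (1, true), (0, false),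 (0, false), (1, false), (0, false), (1, false), (0, true)])) (.leaf ([])))) (.node (.node (.leaf ([])) (.leaf ([(1, true), (0, true), (0, true), (1, true), (0, true), (0, true), (1, false), (0, false), (1, false), (0, true), (1, true)]))) (.leaf ([(0, true), (1, false), (0, false), (1, true), (0, true), (1, true), (0, true), (1, false), (0, false), (0, false), (1, false), (0, true)])))))

/-- data -/
def lab1_011 : Trie (Word) := .node (.node (.node (.node (.node (.leaf ([])) (.leaf ([(0, false), (1, false), (0, false), (0, false), (1, false), (0, true), (1, true), (0, false), (1, false), (0, false)]))) (.node (.leaf ([])) (.leaf ([(1, true), (0, false), (1, true), (0, true), (1, true), (0, false), (0, false), (1, false), (0, true), (0, true), (1, true), (0, false), (0, false)])))) (.node (.node (.leaf ([])) (.leaf ([(1, false), (0, true), (1, false), (0, true), (0, true), (1, true), (0, false), (1, true), (0, true), (1, false), (0, true), (1, true), (0, true)]))) (.leaf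 ([(0, true), (1, false), (0, true), (0, true), (1, true), (0, false), (1, true), (0, true), (1, false), (0, true), (1, true), (0, true), (0, true)])))) (.node (.node (.node (.leaf ([])) (.leaf ([(0, true), (1, true), (0, true), (0, true), (1, true), (0, false), (1, false), (0, false), (0, false), (1, true), (0, false)]))) (.node (.leaf ([(0, true), (1, true), (0, false), (1, true), (0, true), (1, false), (0, false), (1, false), (0, false), (1, true), (0, true), (1, true), (0, true)])) (.leaf ([(0, false), (0, false), (1, true), (0, true), (0, true), (1, false), (0, false), (0, false), (1, false), (0, true), (1, true), (0, false), (0, false)])))) (.node (.node (.leaf ([])) (.leaf ([(1, true), (0, false), (0, false), (1, false), (0, false), (1, false), (0, true), (1, false), (0, false), (1, true)]))) (.leaf ([(0, false), (0, false), (1, false), (0, true), (1, true), (0, true), (1, true), (0, false), (1, true), (0, true)]))))) (.node (.node (.node (.node (.leaf ([])) (.leaf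 ([(0, false), (0, false), (1, true), (0, true), (1, false), (0, false), (1, false), (0, false), (1, true), (0, false), (0, false), (1, false)]))) (.node (.leaf ([])) (.leaf ([(0, false), (1, true), (0, true), (0, true), (1, true), (0, true), (0, true), (1, true), (0, false), (0, false)])))) (.node (.node (.leaf ([])) (.leaf ([(1, false), (0, true), (1, true), (0, true), (0, true), (1, false), (0, false), (1, true)]))) (.leaf ([])))) (.node (.node (.node (.leaf ([])) (.leaf ([]))) (.node (.leaf ([(0, true), (1, true), (0, false), (1, false), (0, true), (1, true), (0, false), (1, false), (0, true), (1, true), (0, true), (0, true)])) (.leaf ([(0, true), (1, true), (0, false), (1, false), (0, false), (0, false), (1, true), (0, false), (1, false), (0, true), (1, true), (0, true)])))) (.node (.node (.leaf ([])) (.leaf ([(1, false), (0, true), (0, true), (1, false), (0, false), (0, false), (1, false), (0, false), (1, false), (0, true)]))) (.leaf ([(1, false), (0, true), (1,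 true), (0, false), (1, true), (0, false), (0, false), (1, true), (0, true), (1, false)])))))

/-- data -/
def lab1_100 : Trie (Word) := .node (.node (.node (.node (.node (.leaf ([])) (.leaf ([]))) (.node (.leaf ([])) (.leaf ([(1, false), (0, false), (1, true), (0, true), (1, false), (0, false), (1, false), (0, false), (1, true), (0, false), (0, false)])))) (.node (.node (.leaf ([])) (.leaf ([(1, true), (0, true), (0, true), (1, false), (0, false), (1, true), (0, true), (0, true), (1, true), (0, false), (0, false), (1, true)]))) (.leaf ([(0, true), (1, true), (0, true), (1, false), (0, false), (1, false), (0, true), (1, true), (0, true)])))) (.node (.node (.node (.leaf ([])) (.leaf ([(0, false), (1, true), (0, false), (1, false), (0, true), (1, true), (0, true), (0, true), (1, false), (0, false), (1, true), (0, false), (0, false)]))) (.node (.leaf ([])) (.leaf ([(0, true), (1, true), (0, false), (1, false), (0, false), (0, false), (1, false), (0, false), (1, false), (0,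 true)])))) (.node (.node (.leaf ([(0, true), (1, true), (0, true), (1, false), (0, false), (1, false), (0, true), (1, false), (0, false), (1, true), (0, true), (1, true)])) (.leaf ([(0, true), (1, true), (0, false), (1, true), (0, true), (1, true), (0, true), (0, true), (1, true), (0, false), (0, false)]))) (.leaf ([]))))) (.node (.node (.node (.node (.leaf ([])) (.leaf ([(0, true), (1, true), (0, false), (0, false), (1, false), (0, true), (0, true), (1, true), (0, true), (1, true), (0, true), (0, true)]))) (.node (.leaf ([])) (.leaf ([(1, false), (0, false), (1, true), (0, false), (0, false), (1, false), (0, false), (0, false), (1, true), (0, true)])))) (.node (.node (.leaf ([])) (.leaf ([(1, true), (0, true), (1, false), (0, false), (0, false), (1, false), (0, false), (1, true), (0, true), (1, false), (0, false)]))) (.leaf ([])))) (.node (.node (.node (.leaf ([])) (.leaf ([(1, false), (0, false), (1, false), (0, true), (1, true), (0, false), (1, true), (0, true), (1,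 true), (0, false), (1, false), (0, false)]))) (.node (.leaf ([])) (.leaf ([(1, true), (0, false), (0, false), (1, false), (0, true), (0, true), (1, true), (0, true), (0, true), (1, false), (0, false), (1, false)])))) (.node (.node (.leaf ([(0, false), (1, true), (0, true), (1, false), (0, false), (1, false), (0, false), (0, false)])) (.leaf ([]))) (.leaf ([])))))

/-- data -/
def lab1_101 : Trie (Word) := .node (.node (.node (.node (.node (.leaf ([])) (.leaf ([]))) (.node (.leaf ([(0, true), (1, true), (0, false), (1, false), (0, true), (1, true), (0, true), (0, true), (1, true), (0, false), (1, false)])) (.leaf ([(1, true), (0, false), (1, false), (0, true), (0, true), (1, false), (0, false), (1, false), (0, true), (1, false), (0, true), (0, true), (1, false), (0, true)])))) (.node (.node (.leaf ([])) (.leaf ([(0, false), (1, true), (0, false), (1, false), (0, false), (0, false), (1, false), (0, true), (1, false), (0, false), (1, false), (0, true), (0, true)]))) (.leaf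 ([])))) (.node (.node (.node (.leaf ([])) (.leaf ([(0, true), (1, true), (0, true), (0, true), (1, true), (0, true), (1, false), (0, true), (1, true), (0, false), (1, false), (0, true)]))) (.node (.leaf ([])) (.leaf ([(1, false), (0, true), (0, true), (1, false), (0, false), (0, false), (1, false), (0, true), (1, true), (0, false), (0, false), (1, false)])))) (.node (.node (.leaf ([])) (.leaf ([]))) (.leaf ([]))))) (.node (.node (.node (.node (.leaf ([])) (.leaf ([(1, true), (0, false), (1, true), (0, true), (0, true), (1, true), (0, false), (0, false), (1, false), (0, true), (0, true)]))) (.node (.leaf ([])) (.leaf ([(0, true), (1, true), (0, true), (1, true), (0, false), (1, true), (0, true), (0, true), (1, false), (0, false), (1, false)])))) (.node (.node (.leaf ([])) (.leaf ([]))) (.leaf ([(0, false), (0, false), (1, true), (0, true), (1, true), (0, false), (1, false), (0, true), (1, true), (0, false), (1, false), (0, true)])))) (.node (.node (.node (.leaf ([]))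 (.leaf ([(0, false), (0, false), (1, true), (0, true), (1, true), (0, false), (1, true), (0, true), (0, true), (1, true), (0, true), (1, false), (0, true)]))) (.node (.leaf ([])) (.leaf ([(1, false), (0, true), (0, true), (1, true), (0, false), (0, false), (1, false), (0, true), (1, true), (0, false), (1, true), (0, true)])))) (.node (.node (.leaf ([])) (.leaf ([(0, false), (1, false), (0, false), (1, false), (0, false), (0, false), (1, true), (0, true), (1, false), (0, true), (1, true), (0, true), (0, true)]))) (.leaf ([])))))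

/-- data -/
def lab1_110 : Trie (Word) := .node (.node (.node (.node (.node (.leaf ([])) (.leaf ([(0, true), (1, false), (0, true), (0, true), (1, false), (0, false), (1, false), (0, false), (0, false), (1, true), (0, true), (1, true)]))) (.node (.leaf ([])) (.leaf ([(1, true), (0, true), (1, true), (0, true), (0, true), (1, false), (0, false), (1, false), (0, true)])))) (.node (.node (.leaf ([])) (.leaf ([(0, false), (0, false), (1, true), (0, true), (1, false), (0, true), (0, true), (1, true), (0, false), (1, true), (0, true), (1, true), (0, true)]))) (.leaf ([])))) (.node (.node (.node (.leaf ([])) (.leaf ([(0, false), (0, false), (1, true), (0, true), (0, true), (1, false), (0, false), (0, false), (1, false), (0, true), (1, false)]))) (.node (.leaf ([])) (.leaf ([(0, true), (0, true), (1, true), (0, true), (1, true), (0, false), (1, false), (0, true)])))) (.node (.node (.leaf ([])) (.leaf ([(0, false), (1, true), (0, false), (1, false), (0, true), (0, true), (1,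 true), (0, false)]))) (.leaf ([]))))) (.node (.node (.node (.node (.leaf ([])) (.leaf ([]))) (.node (.leaf ([])) (.leaf ([(0, false), (0, false), (1, true), (0, true), (1, true), (0, true), (0, true), (1, false), (0, true), (0, true)])))) (.node (.node (.leaf ([])) (.leaf ([(1, true), (0, false), (1, false), (0, false), (1, true), (0, true), (1, true), (0, false), (1, true), (0, false), (0, false), (1, false), (0, true)]))) (.leaf ([])))) (.node (.node (.node (.leaf ([])) (.leaf ([]))) (.node (.leaf ([])) (.leaf ([(1, false), (0, false), (1, false), (0, true), (0, true), (1, true), (0, true), (1, true), (0, false), (0, false), (1, true), (0, false)])))) (.node (.node (.leaf ([])) (.leaf ([]))) (.leaf ([(1, false), (0, true), (0, true), (1, false), (0, false), (1, true), (0, false), (0, false), (1, false)])))))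

/-- data -/
def lab1_111 : Trie (Word) := .node (.node (.node (.node (.node (.leaf ([])) (.leaf ([]))) (.node (.leaf ([])) (.leaf ([(0, false), (1, false), (0, true), (1, true), (0, false), (0, false), (1, false), (0, false), (0, false), (1, true)])))) (.node (.node (.leaf ([])) (.leaf ([]))) (.leaf ([(0, false), (1, true), (0, true), (1, true), (0, true), (1, false), (0, true), (1, true), (0, false), (0, false), (1, false), (0, false)])))) (.node (.node (.node (.leaf ([])) (.leaf ([(0, true), (0, true), (1, false), (0, false), (1, true), (0, true), (1, false), (0, true), (1, true), (0, true), (0, true)]))) (.node (.leaf ([])) (.leaf ([(0, false), (1, true), (0, true), (0, true), (1, false), (0, false), (0, false), (1, false), (0, false), (1, false), (0, true), (0, true)])))) (.node (.node (.leaf ([(0, true), (1, false), (0, true), (0, true), (1, true), (0, true), (0, true), (1, true), (0, true), (1, false), (0, true), (1, true), (0, true)])) (.leaf ([(0, false), (0,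 false), (1, false), (0, false), (1, false), (0, false), (0, false), (1, true), (0, true), (0, true), (1, false), (0, false)]))) (.leaf ([]))))) (.node (.node (.node (.node (.leaf ([])) (.leaf ([(1, true), (0, true), (0, true), (1, true), (0, true), (0, true), (1, false), (0, false), (0, false), (1, false), (0, true), (1, true), (0, true), (0, true)]))) (.node (.leaf ([])) (.leaf ([(1, true), (0, false), (1, true), (0, true), (1, false), (0, false), (1, true), (0, true), (1, false), (0, false), (1, false), (0, true)])))) (.node (.node (.leaf ([])) (.leaf ([(0, true), (1, false), (0, false), (1, false), (0, false), (0, false), (1, false), (0, false), (1, false), (0, true), (1, true)]))) (.leaf ([])))) (.node (.node (.node (.leaf ([])) (.leaf ([(1, true), (0, true), (0, true), (1, false), (0, false), (1, false), (0, false), (0, false), (1, false), (0, false), (1, false)]))) (.node (.leaf ([(1, false), (0, true), (1, true), (0, false), (1, true), (0, true), (1, true), (0,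 false), (1, true), (0, false), (0, false), (1, false)])) (.leaf ([(0, false), (1, false), (0, true), (1, false), (0, false), (1, true), (0, true), (0, true), (1, false), (0, false), (0, false), (1, true)])))) (.node (.node (.leaf ([(0, true), (1, false), (0, false), (1, false), (0, false), (0, false), (1, true), (0, true), (1, true), (0, false), (1, false), (0, false), (0, false)])) (.leaf ([(1, true), (0, true), (1, true), (0, false), (0, false), (1, false), (0, true), (1, false), (0, false), (1, false), (0, false)]))) (.leaf ([(0, true), (0, true), (1, false), (0, true), (1, true), (0, true), (1, true), (0, false), (1, false), (0, true), (1, true)])))))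

/-- data -/
def lab1 : Trie (Word) := .node (.node (.node (lab1_000) (lab1_001)) (.node (lab1_010) (lab1_011))) (.node (.node (lab1_100) (lab1_101)) (.node (lab1_110) (lab1_111)))

/-- data -/
def val1_0000 : Trie (Vec) := .node (.node (.node (.node (.leaf ([])) (.leaf ([621, 4605, 2563, (-3382), (-4373), (-1364), 2655, 1461, (-2642), 497, (-176), 4035, (-325), 3808, (-820), (-3310), 0, 0, 0, 0, 0, 0, 0, 0, (-493), (-692), 496, 61, (-213), 41, (-3), 7, (-10), (-15), (-4), 0, (-6), (-3), (-2), (-11), (-4), (-8), 4, (-8), 2, (-10), (-14), 13, (-2), 4, (-7)]))) (.node (.leaf ([0, 0, 0, 0, 0, 0, 0, 0, 0, 0, 0, 0, 0, 0, 0, 0, 0, 0, 0, 0, 0, 0, 0, 0, 0, 0, 0, 0, 0, 0, 0, 0, 0, 0, 0, 0, 0, 0, 0, 0, 0, 0, 0, 0, 0, 0, 1])) (.leaf ([396, (-3556), (-2665), (-2195), (-748), 1956, 2894, 1144, (-852), 1237, 1461, 4207, (-2791), 1763, (-292), (-3976), 0, 0, 0, 0, 0, 0, 0, 0, (-279), (-763), 362, 32, (-311), 252, 1, (-16), 5, 3, 7, 0, (-3), (-10), (-10), 6, 5, 4, 3, 15, (-7), 9, 6,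 (-3), (-7), (-5), (-4)])))) (.node (.node (.leaf ([])) (.leaf ([]))) (.leaf ([0, 0, 0, 0, 0, 0, 0, 0, 0, 0, 0, 0, 0, 0, 0, 0, 0, 0, 0, 0, 0, 0, 0, 0, 0, 0, 0, 0, 0, 0, 0, 0, 0, 0, 0, 0, 0, 0, 0, 0, 0, 0, 0, 0, 0, 1])))) (.node (.node (.node (.leaf ([])) (.leaf ([(-44), 252, 100, 375, 153, (-133), (-225), (-161), 211, (-154), (-124), (-603), 189, (-296), 109, 278, 0, 0, 0, 0, 0, 0, 0, 0, (-1), 85, (-27), 11, 36, (-33), (-1), 7, (-1), 0, (-1), 0, 1, 2, 2, (-2), (-2), (-3), (-1), (-4), 0, 0, 0, 1, 2]))) (.node (.leaf ([])) (.leaf ([(-8881), (-11461), (-1856), 50502, 46035, (-4219), (-45635), (-22896), 31799, (-15621), (-10328), (-73025), 24675, (-49175), 11210, 59303, 0, 0, 0, 0, 0, 0, 0, 0, 6483, 12349, (-7258), (-714), 4440, (-2506), (-69), 178, 39, 95, (-38), 0, 72, 137, 138, 76, (-25), 32, (-77), (-97), 34, 15, 86, (-63), 102, 30, 78])))) (.node (.node (.leaf ([])) (.leaf ([(-868), (-2418), (-1393), 5217, 4841, 321, (-4225), (-2324), 3525, (-1379), (-741), (-7409),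 1844, (-5273), 1267, 5389, 0, 0, 0, 0, 0, 0, 0, 0, 637, 1163, (-706), (-69), 401, (-198), (-6), 18, 6, 11, (-2), 0, 9, 12, 12, 6, (-3), 2, (-8), (-7), (-1), 2, 10, (-7), 10, 2, 8]))) (.leaf ([0, 0, 0, 0, 0, 0, 0, 0, 0, 0, 0, 0, 0, 0, 0, 0, 0, 0, 0, 0, 0, 0, 0, 0, 0, 0, 0, 0, 0, 0, 1]))))

/-- data -/
def val1_0001 : Trie (Vec) := .node (.node (.node (.node (.leaf ([])) (.leaf ([0, 0, 0, 0, 0, 0, 0, 0, 0, 0, 0, 0, 0, 0, 0, 0, 0, 0, 0, 0, 0, 0, 0, 0, 0, 0, 0, 0, 0, 0, 0, 0, 0, 0, 0, 0, 0, 1]))) (.node (.leaf ([0, 0, 0, 0, 0, 0, 0, 0, 0, 0, 0, 0, 0, 0, 0, 0, 0, 0, 0, 0, 0, 0, 0, 0, 0, 0, 0, 0, 0, 0, 0, 0, 0, 0, 0, 1])) (.leaf ([0, 0, 0, 0, 0, 0, 0, 0, 0, 0, 0, 0, 0, 0, 0, 0, 0, 0, 0, 0, 0, 0, 0, 0, 0, 0, 0, 0, 0, 0, 0, 0, 0, 0, 0, 0, 0, 0, 1])))) (.node (.node (.leaf ([])) (.leaf ([4422, (-127), (-2246), (-26440), (-21688), 4557, 23808, 12101, (-16063), 9065, 6925, 40125, (-14491), 24995, (-6024), (-31100), 0, 0, 0, 0, 0, 0, 0, 0, (-3173), (-6598), 3683, 325, (-2403), 1530,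 34, (-139), (-3), (-27), 34, 0, (-34), (-80), (-83), (-26), 29, 2, 39, 82, (-26), 7, (-24), 13, (-62), (-16), (-35)]))) (.leaf ([829, 11131, 6671, (-3925), (-6888), (-4066), 2137, 1493, (-3695), (-285), (-1704), 2923, 1801, 4926, (-1074), (-2351), 0, 0, 0, 0, 0, 0, 0, 0, (-657), (-508), 554, 95, (-101), (-162), 2, 34, (-22), (-32), (-13), 0, (-9), 3, 4, (-18), (-16), (-20), 7, (-28), 9, (-20), (-30), 26, 3, 3, (-10)])))) (.node (.node (.node (.leaf ([])) (.leaf ([0, 0, 0, 0, 0, 0, 0, 0, 0, 0, 0, 0, 0, 0, 0, 0, 0, 0, 0, 0, 0, 0, 0, 0, 0, 0, 0, 0, 0, 0, 0, 0, 0, 0, 0, 0, 0, 0, 0, 0, 0, 0, 1]))) (.node (.leaf ([])) (.leaf ([(-171), 3020, (-324), 3954, 425, (-763), (-984), (-1689), 2557, (-1575), (-1603), (-7654), 1029, (-3264), 1617, 1081, 0, 0, 0, 0, 0, 0, 0, 0, 0, 566, (-149), 40, 196, (-248), (-5), 69, (-14), (-19), (-13), (-1), 8, 14, 17, (-23), (-23), (-26), (-3), (-40), (-6), (-22), (-18), 22, 17, (-2), (-1)])))) (.node (.node (.leaf ([(-219), (-4595), (-2830), 872,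 2195, 1834, (-285), (-282), 1090, 399, 914, (-91), (-1116), (-1384), 249, 191, 0, 0, 0, 0, 0, 0, 0, 0, 213, 15, (-136), (-41), (-28), 121, 0, (-24), 11, 13, 7, 0, 3, (-5), (-6), 8, 8, 10, (-2), 17, (-6), 9, 13, (-12), (-4), 0, 4])) (.leaf ([87, (-3828), (-2363), (-944), 576, 1748, 1085, 503, (-135), 872, 1172, 2468, (-1735), 404, (-204), (-1548), 0, 0, 0, 0, 0, 0, 0, 0, 5, (-366), 91, (-16), (-158), 192, 3, (-31), 9, 10, 7, 0, 0, (-10), (-10), 9, 10, 10, 0, 21, (-4), 8, 10, (-9), (-8), (-1), 2]))) (.leaf ([45, 190, 194, (-373), (-298), (-64), 188, 157, (-283), 91, 41, 556, (-51), 373, (-124), (-221), 0, 0, 0, 0, 0, 0, 0, 0, (-22), (-74), 38, (-2), (-24), 15, 0, (-3), 0, 0, 0, 0, (-1), (-1), (-1), 0, 1, 1, (-1), 1, 0, 0, 0, 0, (-1), 1]))))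

/-- data -/
def val1_0010 : Trie (Vec) := .node (.node (.node (.node (.leaf ([])) (.leaf ([]))) (.node (.leaf ([])) (.leaf ([1374, 34040, 20338, (-5163), (-16033), (-13285), 1350, 1555, (-7127), (-3019), (-6970), (-1620), 8699, 8822, (-1589), (-475), 0, 0, 0, 0, 0, 0, 0, 0, (-1407), 12, 903, 243, 222, (-888), (-3), 177, (-77), (-97), (-42), 3, (-19), 40, 40, (-79), (-67), (-79), 16, (-133), 23, (-62), (-95), 77, 33, 7, (-31)])))) (.node (.node (.leaf ([])) (.leaf ([526, 4465, 2938, (-3165), (-3785), (-1571), 1976, 1322, (-2536), 390, (-309), 3803, 141, 3537, (-882), (-2356), 0, 0, 0, 0, 0, 0, 0, 0, (-412), (-541), 407, 49, (-155), 3, 4, 4, (-10), (-14), (-4), 0, (-6), (-3), (-3), (-8), (-3), (-7), 5, (-7), 4, (-8), (-14), 10, (-3), 1, (-7)]))) (.leaf ([])))) (.node (.node (.node (.leaf ([])) (.leaf ([0, 0, 0, 0, 0, 0, 0, 0, 0, 0, 0, 0, 0, 0, 0, 0, 0, 0, 0, 0, 0, 0, 0, 0, 0, 0, 0, 0, 0, 0, 0, 0, 0, 1]))) (.node (.leaf ([])) (.leaf ([(-1111), (-10662), (-6390), 5994,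 8296, 3679, (-4168), (-2535), 4968, (-384), 1130, (-6442), (-477), (-7088), 1547, 4946, 0, 0, 0, 0, 0, 0, 0, 0, 1037, 1021, (-894), (-165), 293, 52, (-6), (-26), 24, 31, 10, 1, 12, (-2), (-3), 32, 13, 24, (-9), 26, (-12), 17, 28, (-28), (-1), (-1), 8])))) (.node (.node (.leaf ([])) (.leaf ([8416, 39347, 20776, (-46839), (-51595), (-8752), 37684, 20457, (-33178), 10275, 2561, 60681, (-11915), 48866, (-11223), (-47695), 0, 0, 0, 0, 0, 0, 0, 0, (-6297), (-10108), 6613, 737, (-3398), 1330, 50, (-52), (-86), (-145), (-7), 0, (-74), (-89), (-88), (-108), (-16), (-71), 68, (-2), 1, (-65), (-138), 112, (-67), (-9), (-76)]))) (.leaf ([497, 3856, 2475, (-2942), (-3475), (-1301), 1964, 1242, (-2313), 413, (-192), 3608, (-51), 3265, (-792), (-2383), 0, 0, 0, 0, 0, 0, 0, 0, (-386), (-528), 384, 45, (-158), 19, 2, 1, (-8), (-12), (-3), 0, (-6), (-3), (-3), (-7), (-2), (-5), 5, (-5), 3, (-7), (-12), 9, (-3), 1, (-6)]))))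

/-- data -/
def val1_0011 : Trie (Vec) := .node (.node (.node (.node (.leaf ([])) (.leaf ([]))) (.node (.leaf ([])) (.leaf ([509, (-205), (-284), (-3115), (-2403), 552, 2798, 1431, (-1904), 1068, 868, 4816, (-1756), 2966, (-709), (-3652), 0, 0, 0, 0, 0, 0, 0, 0, (-363), (-769), 428, 38, (-287), 178, 4, (-17), 0, (-2), 4, 0, (-5), (-9), (-9), (-2), 4, 1, 4, 10, (-1), 3, (-1), 1, (-7), (-2), (-3)])))) (.node (.node (.leaf ([(-54), (-64), (-138), 492, 332, 12, (-316), (-221), 350, (-149), (-109), (-799), 144, (-491), 146, 393, 0, 0, 0, 0, 0, 0, 0, 0, 36, 105, (-55), 0, 40, (-22), 1, 3, 0, 0, (-1), 0, 1, 1, 1, 0, (-1), (-1), 0, (-1), 0, 0, 0, 0, 1, (-1)])) (.leaf ([(-1533), 10420, 6724, 10609, 4671, (-5772), (-10676), (-5170), 5359, (-4996), (-5273), (-19330), 9231, (-9122), 2234, 14276, 0, 0, 0, 0, 0, 0, 0, 0, 1051, 3037, (-1446), (-77), 1190, (-926), (-17), 109, (-15), (-12), (-28), (-1), 17, 45, 47, (-9), (-33), (-22), (-15), (-67), 15, (-25), (-12), 18, 38, 11, 14])))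 (.leaf ([])))) (.node (.node (.node (.leaf ([])) (.leaf ([865, 2608, 1513, (-5216), (-4915), (-384), 4123, 2304, (-3554), 1363, 698, 7348, (-1730), 5260, (-1293), (-5247), 0, 0, 0, 0, 0, 0, 0, 0, (-621), (-1152), 695, 63, (-392), 197, 6, (-18), (-6), (-11), 2, 0, (-8), (-12), (-12), (-6), 3, (-2), 7, 7, 0, (-4), (-11), 7, (-10), (-1), (-8)]))) (.node (.leaf ([])) (.leaf ([389, 2284, 1281, (-2119), (-2477), (-605), 1536, 888, (-1579), 388, (-20), 2549, (-296), 2227, (-541), (-1915), 0, 0, 0, 0, 0, 0, 0, 0, (-271), (-414), 282, 29, (-135), 43, 2, 3, (-4), (-7), (-1), 0, (-3), (-3), (-3), (-4), (-2), (-4), 2, (-3), 0, (-3), (-7), 6, (-2), (-1), (-4)])))) (.node (.node (.leaf ([])) (.leaf ([(-1777), 2093, 4458, 8000, 7615, (-3445), (-10103), (-3849), 4080, (-3219), (-2712), (-11663), 7146, (-7323), 1040, 13600, 0, 0, 0, 0, 0, 0, 0, 0, 1307, 2536, (-1455), (-164), 980, (-613), (-16), 20, 5, 18, (-9), 1, 6, 30, 28, 22, 1, 14, (-14), (-17), 19, 6, 16, (-17), 17, 14, 13])))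 (.leaf ([1324, 6885, 4174, (-7784), (-8301), (-1844), 5643, 3337, (-5652), 1610, 272, 10113, (-1434), 8123, (-2022), (-7026), 0, 0, 0, 0, 0, 0, 0, 0, (-965), (-1553), 1019, 105, (-504), 182, 10, (-8), (-15), (-25), (-2), 1, (-15), (-13), (-13), (-13), (-2), (-10), 12, (-1), 5, (-8), (-22), 16, (-11), (-1), (-15)]))))

/-- data -/
def val1_010 : Trie (Vec) := .node (.node (.node (.node (.node (.leaf ([])) (.leaf ([946, 4443, 2748, (-5752), (-5897), (-1151), 4370, 2532, (-4110), 1288, 405, 7850, (-1290), 6026, (-1466), (-5492), 0, 0, 0, 0, 0, 0, 0, 0, (-714), (-1207), 770, 77, (-397), 159, 4, (-15), (-9), (-16), (-1), 0, (-11), (-11), (-11), (-9), 2, (-4), 9, 4, 2, (-7), (-16), 11, (-10), 1, (-10)]))) (.node (.leaf ([])) (.leaf ([86, (-7904), (-4888), (-1336), 1688, 3450, 2202, 838, 91, 1564, 2276, 4339, (-3499), 472, (-146), (-3173), 0, 0, 0, 0, 0, 0, 0, 0, (-19), (-659), 175, (-19), (-301), 340, 4, (-48), 14, 17, 14, 0, (-2), (-15), (-16), 10, 18, 15, 2, 32, (-8), 15,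 15, (-16), (-13), (-5), (-1)])))) (.node (.node (.leaf ([])) (.leaf ([1045, 4765, 2474, (-5683), (-6251), (-1054), 4644, 2481, (-4004), 1217, 269, 7290, (-1503), 5930, (-1309), (-5894), 0, 0, 0, 0, 0, 0, 0, 0, (-768), (-1211), 798, 94, (-411), 152, 8, (-5), (-12), (-21), (-3), 0, (-10), (-12), (-11), (-10), (-2), (-9), 10, (-1), 3, (-10), (-21), 16, (-9), (-2), (-12)]))) (.leaf ([])))) (.node (.node (.node (.leaf ([])) (.leaf ([(-127), (-1491), (-991), 759, 1032, 570, (-427), (-312), 660, (-34), 176, (-817), (-200), (-899), 213, 486, 0, 0, 0, 0, 0, 0, 0, 0, 96, 122, (-98), (-9), 34, 12, (-1), 0, 2, 5, 1, 0, 2, 1, 1, 2, 1, 2, (-2), 2, (-1), 3, 5, (-3), 1, (-1), 2]))) (.node (.leaf ([])) (.leaf ([(-196), (-1392), (-898), 1203, 1364, 445, (-783), (-504), 936, (-199), 33, (-1489), 59, (-1303), 332, 950, 0, 0, 0, 0, 0, 0, 0, 0, 143, 218, (-153), (-14), 71, (-14), (-1), (-1), 3, 4, 1, 0, 2, 1, 1, 3, 1, 2, (-1), 2, (-1), 2, 4, (-3), 1, 0, 2])))) (.node (.node (.leaf ([])) (.leaf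 ([]))) (.leaf ([]))))) (.node (.node (.node (.node (.leaf ([])) (.leaf ([(-56), (-726), (-535), 357, 447, 304, (-135), (-137), 325, (-1), 90, (-427), (-133), (-421), 116, 140, 0, 0, 0, 0, 0, 0, 0, 0, 40, 32, (-33), (-5), 6, 7, 0, (-2), 1, 1, 0, 0, 1, 0, 0, 1, 0, 1, 0, 1, (-1), 1, 1, (-1), 0, 0, 1]))) (.node (.leaf ([])) (.leaf ([147, 1010, 767, (-899), (-894), (-398), 534, 377, (-665), 140, (-39), 1209, 8, 955, (-252), (-641), 0, 0, 0, 0, 0, 0, 0, 0, (-123), (-134), 101, 22, (-36), 5, 4, (-4), (-2), (-3), 0, 0, (-3), (-2), (-2), 0, 1, 0, 4, 1, 3, 0, (-3), 2, (-2), (-3), (-1)])))) (.node (.node (.leaf ([])) (.leaf ([(-2929), (-4868), (-2752), 18314, 15830, (-580), (-13970), (-8065), 11941, (-5480), (-3484), (-26468), 7045, (-17538), 4718, 17875, 0, 0, 0, 0, 0, 0, 0, 0, 1992, 4062, (-2303), (-196), 1431, (-874), (-23), 97, 3, 21, (-16), (-2), 25, 51, 52, 6, (-21), (-5), (-21), (-52), 6, (-2), 18, (-9), 42, 3, 22]))) (.leaf ([2098, 470, (-2781), (-9926), (-9874), 2548,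 11400, 4673, (-5595), 3476, 2560, 14026, (-7140), 9481, (-1551), (-15162), 0, 0, 0, 0, 0, 0, 0, 0, (-1563), (-2886), 1715, 195, (-1089), 617, 18, (-18), (-11), (-27), 6, (-1), (-12), (-32), (-30), (-27), (-3), (-18), 17, 13, (-16), (-9), (-25), 23, (-19), (-12), (-18)])))) (.node (.node (.node (.leaf ([])) (.leaf ([]))) (.node (.leaf ([0, 0, 0, 0, 0, 0, 0, 0, 0, 0, 0, 0, 0, 0, 0, 0, 0, 0, 0, 0, 0, 0, 0, 0, 0, 0, 0, 0, 0, 0, 0, 0, 0, 0, 1])) (.leaf ([])))) (.node (.node (.leaf ([])) (.leaf ([(-622), (-5745), (-3604), 3498, 4567, 2008, (-2286), (-1454), 2870, (-337), 493, (-3986), (-282), (-4013), 941, 2744, 0, 0, 0, 0, 0, 0, 0, 0, 496, 592, (-470), (-65), 166, 14, (-2), (-9), 12, 17, 5, 0, 7, 2, 2, 11, 5, 9, (-6), 10, (-4), 10, 17, (-13), 2, (-1), 8]))) (.leaf ([(-131), (-756), (-169), 353, 724, 126, (-494), (-155), 248, (-16), 68, (-195), 148, (-411), 21, 656, 0, 0, 0, 0, 0, 0, 0, 0, 133, 96, (-95), (-31), 27, 2, 0, (-8), 1, 3, 1, 1, 0, 0, 0, 3, 3, 4, 0, 3, 2, 1, 3,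 (-3), (-1), 1, 2])))))

/-- data -/
def val1_0110 : Trie (Vec) := .node (.node (.node (.node (.leaf ([])) (.leaf ([0, 0, 0, 0, 0, 0, 0, 0, 0, 0, 0, 0, 0, 0, 0, 0, 0, 0, 0, 0, 0, 0, 0, 0, 0, 0, 0, 0, 0, 0, 0, 0, 0, 0, 0, 0, 0, 0, 0, 0, 1]))) (.node (.leaf ([])) (.leaf ([456, 3006, 1633, (-2386), (-3004), (-823), 1729, 997, (-1788), 390, (-108), 2721, (-220), 2536, (-607), (-2142), 0, 0, 0, 0, 0, 0, 0, 0, (-319), (-470), 329, 35, (-147), 38, 3, 2, (-6), (-9), (-2), 0, (-3), (-3), (-3), (-6), (-4), (-5), 3, (-3), 0, (-4), (-8), 7, (-2), 0, (-3)])))) (.node (.node (.leaf ([])) (.leaf ([(-443), 1934, 1653, 2499, 1569, (-1352), (-2765), (-1217), 1238, (-1133), (-1123), (-4179), 2273, (-2155), 442, 3728, 0, 0, 0, 0, 0, 0, 0, 0, 275, 759, (-369), (-20), 298, (-230), (-1), 23, (-4), 0, (-5), 0, 4, 11, 11, (-3), (-6), (-5), (-4), (-15), 6, (-3), 0, 1, 9, 2, 4]))) (.leaf ([23, 420, 279, (-145), (-249), (-143), (-61), 30, (-142), 4, (-67), 98, 143, 126, (-83), 103, 0, 0, 0, 0, 0,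 0, 0, 0, 0, 1, 0, (-3), 8, (-1), 0, 0, (-1), 0, 0, 0, 0, 0, (-1), (-1)])))) (.node (.node (.node (.leaf ([])) (.leaf ([1699, 7033, 4159, (-10037), (-10168), (-1432), 6848, 4232, (-7032), 2367, 819, 13122, (-2267), 9915, (-2702), (-8581), 0, 0, 0, 0, 0, 0, 0, 0, (-1178), (-1957), 1219, 146, (-649), 337, 13, (-33), (-7), (-21), 3, 2, (-14), (-22), (-22), (-7), 4, (-5), 12, 15, 4, (-5), (-18), 14, (-18), 0, (-12)]))) (.node (.leaf ([(-38), 11000, 7458, 585, (-2787), (-5069), (-2155), (-534), (-1073), (-1869), (-2912), (-3460), 4513, 833, (-159), 3317, 0, 0, 0, 0, 0, 0, 0, 0, (-159), 699, (-89), 60, 348, (-457), (-3), 61, (-23), (-25), (-17), 0, (-4), 20, 21, (-21), (-19), (-23), 1, (-45), 16, (-20), (-25), 23, 15, 4, (-4)])) (.leaf ([(-74), (-1191), (-777), 362, 643, 486, (-194), (-140), 360, 46, 186, (-324), (-239), (-495), 100, 221, 0, 0, 0, 0, 0, 0, 0, 0, 85, 26, (-52), (-20), (-3), 29, (-2), (-3), 3, 3, 1, 0, 1, 0, 0, 2, 1, 3, (-2), 3, (-2), 2, 4, (-3), 0, 2, 1]))))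 (.node (.node (.leaf ([])) (.leaf ([64, 186, 172, (-485), (-396), (-40), 318, 211, (-347), 134, 81, 733, (-128), 482, (-137), (-398), 0, 0, 0, 0, 0, 0, 0, 0, (-36), (-99), 54, 0, (-38), 21, (-1), (-1), 0, 0, 1, 0, (-1), (-1), (-1), 0, 0, 1, 0, 1, 0, 0, 0, 0, (-1), 1, (-1)]))) (.leaf ([4, 251, 180, (-36), (-101), (-99), (-83), (-4), (-52), (-13), (-37), (-11), 123, 25, (-36), 120, 0, 0, 0, 0, 0, 0, 0, 0, 2, 15, (-7), 0, 9, (-4), 1, 0, 0, 0, 0, 0, 0, (-1), (-1)]))))

/-- data -/
def val1_0111 : Trie (Vec) := .node (.node (.node (.node (.leaf ([])) (.leaf ([(-26), (-475), (-336), 185, 280, 176, 41, (-49), 175, (-8), 75, (-164), (-155), (-176), 97, (-83), 0, 0, 0, 0, 0, 0, 0, 0, 5, 4, (-5), 2, (-7), 3, (-1), 0, 2, 0, 0, (-1), 0, 0, 1, 2, 0, 1, 0, 1, (-1)]))) (.node (.leaf ([])) (.leaf ([4839, 34187, 16468, (-23136), (-32647), (-9024), 19862, 9875, (-17556), 3338, (-2115), 24441, (-3029), 25665, (-5005), (-24941), 0, 0, 0, 0, 0, 0, 0, 0, (-3833), (-4967), 3711, 512, (-1641),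 262, 20, 105, (-82), (-132), (-26), 2, (-41), (-21), (-18), (-103), (-56), (-89), 41, (-86), (-3), (-71), (-125), 102, (-8), (-3), (-60)])))) (.node (.node (.leaf ([])) (.leaf ([0, 0, 0, 0, 0, 0, 0, 0, 0, 0, 0, 0, 0, 0, 0, 0, 0, 0, 0, 0, 0, 0, 0, 0, 0, 0, 0, 0, 0, 0, 0, 0, 0, 0, 0, 0, 0, 0, 0, 0, 0, 0, 0, 1]))) (.leaf ([])))) (.node (.node (.node (.leaf ([])) (.leaf ([]))) (.node (.leaf ([(-1584), (-10399), (-6378), 9250, 10596, 3186, (-6642), (-3962), 7003, (-1582), 190, (-11650), 971, (-10039), 2396, 8184, 0, 0, 0, 0, 0, 0, 0, 0, 1221, 1785, (-1246), (-145), 562, (-129), (-10), 1, 24, 36, 8, (-1), 18, 13, 12, 21, 5, 16, (-15), 10, (-10), 19, 35, (-26), 11, (-2), 18])) (.leaf ([140, 1782, 1041, (-665), (-1154), (-633), 411, 259, (-613), (-28), (-262), 532, 244, 834, (-178), (-471), 0, 0, 0, 0, 0, 0, 0, 0, (-119), (-89), 98, 18, (-19), (-25), 1, 8, (-4), (-5), (-2), 0, (-1), 1, 1, (-4), (-3), (-4), 1, (-6), 1, (-3), (-5), 4, 1, 0, (-2)])))) (.node (.node (.leaf ([]))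 (.leaf ([1427, 12291, 7533, (-7846), (-10148), (-4141), 5228, 3249, (-6352), 825, (-983), 8938, 326, 8870, (-2080), (-6304), 0, 0, 0, 0, 0, 0, 0, 0, (-1118), (-1358), 1053, 148, (-385), (-1), 6, 16, (-24), (-39), (-11), 1, (-16), (-6), (-4), (-22), (-10), (-19), 14, (-20), 12, (-21), (-36), 30, (-5), 1, (-16)]))) (.leaf ([166, (-829), (-379), (-1461), (-772), 480, 1110, 682, (-835), 622, 535, 2530, (-810), 1287, (-412), (-1430), 0, 0, 0, 0, 0, 0, 0, 0, (-98), (-364), 172, (-5), (-138), 99, 5, (-18), 0, 2, 2, 0, (-1), (-7), (-8), (-1), 5, 2, 1, 9, (-2), (-1), (-1), (-3), (-6), 1, (-2)]))))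

/-- data -/
def val1_100 : Trie (Vec) := .node (.node (.node (.node (.node (.leaf ([])) (.leaf ([]))) (.node (.leaf ([])) (.leaf ([(-539), (-6795), (-4631), 3415, 4607, 2605, (-1473), (-1326), 3031, (-135), 839, (-3583), (-1101), (-3970), 1104, 1544, 0, 0, 0, 0, 0, 0, 0, 0, 422, 438, (-390), (-49), 98, 67, (-6), (-4), 13, 17, 6, (-1), 7, 1, 1, 12, 4, 9, (-5), 11, (-9), 11, 17, (-12), 2, (-3), 5])))) (.node (.node (.leaf ([])) (.leaf ([8291, 49745, 31066, (-49388), (-54280), (-14657), 34528, 21093, (-36790), 9349, 442, 63337, (-6382), 52388, (-13115), (-42675), 0, 0, 0, 0, 0, 0, 0, 0, (-6157), (-9581), 6424, 684, (-3061), 980, 46, (-67), (-96), (-155), (-15), 2, (-87), (-80), (-81), (-96), (-10), (-60), 73, (-8), 23, (-71), (-151), 111, (-71), 2, (-81)]))) (.leaf ([0, 0, 0, 0, 0, 0, 0, 0, 0, 0, 0, 0, 0, 0, 0, 0, 0, 0, 0, 0, 0, 0, 0, 0, 0, 0, 0, 0, 0, 0, 0, 0, 0, 0, 0, 0, 1])))) (.node (.node (.node (.leaf ([])) (.leaf ([(-676), (-6207), (-4131), 4046, 4958, 2236, (-2310),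 (-1653), 3281, (-434), 537, (-4690), (-458), (-4508), 1170, 2708, 0, 0, 0, 0, 0, 0, 0, 0, 506, 628, (-487), (-58), 174, 8, (-8), 0, 13, 17, 5, (-1), 8, 5, 5, 10, 2, 8, (-7), 7, (-6), 10, 18, (-12), 5, 1, 8]))) (.node (.leaf ([])) (.leaf ([1540, (-6717), (-5536), (-9266), (-5809), 4724, 9582, 4426, (-4674), 4226, 3998, 15419, (-7833), 7934, (-1912), (-12781), 0, 0, 0, 0, 0, 0, 0, 0, (-1092), (-2683), 1363, 107, (-1037), 782, 19, (-74), 11, 5, 25, 0, (-10), (-36), (-39), (-6), 17, 6, 13, 48, (-18), 19, 9, (-10), (-27), (-11), (-9)])))) (.node (.node (.leaf ([99, 699, 503, (-691), (-721), (-229), 374, 285, (-540), 129, (-1), 896, (-10), 722, (-216), (-438), 0, 0, 0, 0, 0, 0, 0, 0, (-62), (-123), 77, 2, (-39), 13, 0, (-1), (-1), (-2), 0, 0, (-1), (-1), (-1), (-1), 0, 0, 0, 0, 0, (-1), (-2), 1, (-1), 1, (-1)])) (.leaf ([(-23), 485, 293, 228, 8, (-232), (-232), (-115), 98, (-146), (-172), (-475), 276, (-167), 53, 315, 0, 0, 0, 0, 0, 0, 0, 0, 9, 78, (-29), 3, 33, (-30), 0,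 4, (-1), (-1), (-1), 0, 0, 1, 1, (-1), (-1), (-2), 0, (-2), 1, (-1), (-1), 1, 1]))) (.leaf ([]))))) (.node (.node (.node (.node (.leaf ([])) (.leaf ([(-253), (-6896), (-4349), 965, 2980, 2826, 51, (-251), 1434, 704, 1458, 360, (-1954), (-1704), 348, (-350), 0, 0, 0, 0, 0, 0, 0, 0, 245, (-82), (-133), (-49), (-84), 196, 1, (-32), 14, 18, 10, 0, 4, (-7), (-8), 10, 11, 13, (-2), 23, (-9), 13, 17, (-16), (-6), (-2), 5]))) (.node (.leaf ([])) (.leaf ([81, (-1344), (-941), (-570), (-70), 705, 686, 293, (-180), 404, 481, 1181, (-805), 366, (-108), (-952), 0, 0, 0, 0, 0, 0, 0, 0, (-34), (-210), 78, (-4), (-88), 87, 1, (-10), 3, 3, 3, 0, 0, (-4), (-4), 2, 3, 3, 0, 7, (-3), 3, 3, (-3), (-3), (-1)])))) (.node (.node (.leaf ([])) (.leaf ([2395, 3236, 1608, (-14673), (-12518), 720, 12049, 6583, (-9472), 4423, 3004, 21645, (-6316), 14265, (-3563), (-15535), 0, 0, 0, 0, 0, 0, 0, 0, (-1722), (-3352), 1936, 187, (-1191), 704, 16, (-70), (-5), (-18), 14, 0, (-21), (-39), (-40), (-10),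 15, 2, 21, 39, (-5), 2, (-17), 11, (-32), (-7), (-18)]))) (.leaf ([])))) (.node (.node (.node (.leaf ([])) (.leaf ([(-99), (-699), (-503), 691, 721, 229, (-374), (-285), 540, (-129), 1, (-896), 10, (-722), 216, 438, 0, 0, 0, 0, 0, 0, 0, 0, 62, 123, (-77), (-2), 39, (-13), 0, 2, 1, 2, 0, 0, 1, 1, 1, 1, 0, 0, 0, 0, 0, 1, 2, (-1), 1, (-1), 1]))) (.node (.leaf ([0, 0, 0, 0, 0, 0, 0, 0, 0, 0, 0, 0, 0, 0, 0, 0, 0, 0, 0, 0, 0, 0, 0, 0, 0, 0, 0, 0, 0, 0, 0, 1])) (.leaf ([164, 5052, 1003, 2085, (-1598), (-1410), 200, (-920), 1178, (-1254), (-1664), (-5313), 915, (-1332), 1103, (-375), 0, 0, 0, 0, 0, 0, 0, 0, (-246), 255, 72, 77, 107, (-220), 0, 66, (-17), (-25), (-13), (-1), 4, 10, 13, (-24), (-23), (-28), 2, (-40), (-4), (-23), (-24), 26, 14, (-6), (-4)])))) (.node (.node (.leaf ([0, 0, 0, 0, 0, 0, 0, 0, 0, 0, 0, 0, 0, 0, 0, 0, 0, 0, 0, 0, 0, 0, 0, 0, 0, 0, 0, 0, 0, 0, 0, 0, 1])) (.leaf ([]))) (.leaf ([])))))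

/-- data -/
def val1_101 : Trie (Vec) := .node (.node (.node (.node (.node (.leaf ([])) (.leaf ([]))) (.node (.leaf ([3131, 1186, (-834), (-18757), (-15880), 2723, 16786, 8558, (-11567), 6294, 4569, 28156, (-9820), 17902, (-4320), (-21858), 0, 0, 0, 0, 0, 0, 0, 0, (-2273), (-4660), 2638, 226, (-1687), 1033, 26, (-85), (-8), (-25), 20, 0, (-25), (-54), (-56), (-26), 16, (-5), 27, 47, (-18), 0, (-22), 12, (-41), (-9), (-27)])) (.leaf ([821, 34691, 20627, (-1526), (-13597), (-13948), (-1686), (-110), (-4950), (-4324), (-8039), (-7462), 10642, 5460, (-707), 3480, 0, 0, 0, 0, 0, 0, 0, 0, (-1048), 902, 439, 218, 551, (-1108), (-10), 208, (-79), (-96), (-48), 3, (-13), 53, 54, (-82), (-74), (-85), 10, (-150), 28, (-66), (-93), 80, 45, 10, (-26)])))) (.node (.node (.leaf ([])) (.leaf ([329, 2716, 1671, (-1895), (-2373), (-893), 1259, 793, (-1501), 245, (-198), 2188, 26, 2103, (-508), (-1512), 0, 0, 0, 0, 0, 0, 0, 0, (-241), (-344), 251, 24, (-105), 9, 2, 3, (-6), (-9), (-3),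 0, (-4), (-2), (-2), (-5), (-2), (-4), 3, (-4), 2, (-5), (-9), 6, (-2), 1, (-5)]))) (.leaf ([])))) (.node (.node (.node (.leaf ([])) (.leaf ([(-5), 506, 362, 44, (-101), (-243), (-142), (-35), (-38), (-93), (-143), (-173), 231, 13, (-11), 208, 0, 0, 0, 0, 0, 0, 0, 0, (-3), 39, (-10), 2, 21, (-21), 1, 1, (-1), 0, (-1), 0, 0, 0, 0, (-1), 0, (-1), 0, (-1), 1, (-1), (-1), 1]))) (.node (.leaf ([])) (.leaf ([(-1142), 10673, 7847, 6948, 2547, (-5992), (-8092), (-3480), 2811, (-3913), (-4452), (-13063), 8069, (-5336), 1206, 11068, 0, 0, 0, 0, 0, 0, 0, 0, 732, 2263, (-1021), (-64), 923, (-801), (-14), 89, (-20), (-19), (-24), 1, 5, 37, 38, (-9), (-25), (-19), (-8), (-61), 17, (-22), (-19), 16, 28, 10, 2])))) (.node (.node (.leaf ([])) (.leaf ([]))) (.leaf ([]))))) (.node (.node (.node (.node (.leaf ([])) (.leaf ([104, (-9898), (-5400), (-2434), 2021, 4132, 2204, 1289, (-487), 2150, 2973, 6768, (-3997), 1139, (-681), (-3138), 0, 0, 0, 0, 0, 0, 0, 0, 71, (-816), 164, (-47), (-347),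 454, 6, (-89), 24, 29, 17, 0, (-1), (-23), (-24), 25, 29, 30, 0, 56, (-5), 23, 29, (-26), (-21), 0, 8]))) (.node (.leaf ([])) (.leaf ([(-12), 382, 285, 62, (-47), (-199), (-115), (-34), (-9), (-80), (-109), (-149), 199, (-3), 4, 166, 0, 0, 0, 0, 0, 0, 0, 0, (-6), 40, (-8), 4, 18, (-22), 1, 1, (-1), 0, (-1), (-1), 0, 0, 0, (-2), 0, (-1), 0, (-1), 1, (-2), (-2), 1])))) (.node (.node (.leaf ([])) (.leaf ([]))) (.leaf ([(-827), (-2550), (-1362), 4748, 4590, 406, (-4033), (-2130), 3211, (-1195), (-587), (-6636), 1716, (-4882), 1092, 5153, 0, 0, 0, 0, 0, 0, 0, 0, 633, 1068, (-672), (-79), 371, (-168), (-7), 11, 7, 12, (-1), 0, 9, 10, 10, 5, (-1), 5, (-8), (-4), (-1), 2, 10, (-8), 8, 3, 8])))) (.node (.node (.node (.leaf ([])) (.leaf ([(-329), (-2716), (-1671), 1895, 2373, 893, (-1259), (-793), 1501, (-245), 198, (-2188), (-26), (-2103), 508, 1512, 0, 0, 0, 0, 0, 0, 0, 0, 241, 344, (-251), (-24), 105, (-9), (-2), (-2), 6, 9, 3, 0, 4, 2, 2, 5, 2, 4, (-3), 4, (-2), 5, 9, (-6),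 2, (-1), 5]))) (.node (.leaf ([])) (.leaf ([24, (-513), (-352), (-193), (-3), 269, 202, 91, (-54), 153, 183, 390, (-263), 96, (-42), (-281), 0, 0, 0, 0, 0, 0, 0, 0, (-5), (-69), 23, (-3), (-31), 30, 1, (-3), 1, 1, 1, 0, 0, (-2), (-2), 1, 1, 1, 0, 3, (-1), 1, 1, (-1), (-1), (-1)])))) (.node (.node (.leaf ([0, 0, 0, 0, 0, 0, 0, 0, 0, 0, 0, 0, 0, 0, 0, 0, 0, 0, 0, 0, 0, 0, 0, 0, 0, 0, 0, 0, 0, 0, 0, 1])) (.leaf ([(-8958), (-46366), (-25627), 50195, 56121, 11521, (-39092), (-21745), 36215, (-10326), (-1613), (-64095), 10638, (-52823), 12294, 49151, 0, 0, 0, 0, 0, 0, 0, 0, 6722, 10489, (-6987), (-790), 3476, (-1230), (-53), 38, 101, 167, 14, (-1), 83, 88, 86, 118, 23, 81, (-76), 17, (-11), 76, 159, (-127), 68, 7, 85]))) (.leaf ([])))))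

/-- data -/
def val1_110 : Trie (Vec) := .node (.node (.node (.node (.node (.leaf ([])) (.leaf ([607, (-860), (-1076), (-3351), (-2641), 1045, 3491, 1588, (-1877), 1278, 1112, 5207, (-2385), 3099, (-630), (-4646), 0, 0, 0, 0, 0, 0, 0, 0, (-402), (-945), 504, 34, (-359), 237, 2, (-17), 0, (-4), 4, 0, (-5), (-12), (-12), 0, 4, 2, 5, 13, (-6), 1, (-4), 2, (-9), (-3), (-7)]))) (.node (.leaf ([])) (.leaf ([(-993), 12085, 8761, 6380, 1775, (-6728), (-6924), (-3103), 2347, (-4041), (-4698), (-11974), 7919, (-4223), 1271, 9531, 0, 0, 0, 0, 0, 0, 0, 0, 475, 2141, (-840), (-15), 902, (-874), (-8), 99, (-31), (-25), (-28), 0, 2, 38, 38, (-23), (-28), (-28), (-1), (-71), 20, (-27), (-29), 24, 29, 4, (-1)])))) (.node (.node (.leaf ([])) (.leaf ([(-2222), 2995, 2376, 14059, 10049, (-3337), (-12317), (-6456), 8299, (-5165), (-4367), (-22359), 8234, (-12928), 3313, 16141, 0, 0, 0, 0, 0, 0, 0, 0, 1541, 3475, (-1853), (-149), 1282, (-888), (-20), 97, (-6), 2, (-23), 0, 19, 46, 48, 3,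 (-24), (-12), (-20), (-59), 11, (-16), 0, 3, 37, 11, 14]))) (.leaf ([])))) (.node (.node (.node (.leaf ([])) (.leaf ([649, 10071, 5170, (-2040), (-5718), (-3449), 1736, 735, (-2277), (-647), (-1854), (-81), 1613, 3094, (-366), (-1995), 0, 0, 0, 0, 0, 0, 0, 0, (-633), (-260), 459, 118, (-43), (-218), (-2), 80, (-27), (-34), (-11), 1, (-6), 13, 13, (-28), (-28), (-33), 4, (-48), 1, (-16), (-31), 28, 14, (-2), (-14)]))) (.node (.leaf ([])) (.leaf ([0, 0, 0, 0, 0, 0, 0, 0, 0, 0, 0, 0, 0, 0, 0, 0, 0, 0, 0, 0, 0, 0, 0, 0, 0, 0, 0, 0, 0, 0, 0, 1, (-1)])))) (.node (.node (.leaf ([])) (.leaf ([0, 0, 0, 0, 0, 0, 0, 0, 0, 0, 0, 0, 0, 0, 0, 0, 0, 0, 0, 0, 0, 0, 0, 0, 0, 0, 0, 0, 0, 0, 0, 0, 0, 0, 0, 0, 0, 0, 0, 0, 0, 1]))) (.leaf ([]))))) (.node (.node (.node (.node (.leaf ([])) (.leaf ([]))) (.node (.leaf ([])) (.leaf ([(-6021), (-42438), (-26377), 35337, 41242, 13297, (-23904), (-14912), 27171, (-5700), 1369, (-43327), 2115, (-38266), 9501, 29195, 0, 0, 0, 0, 0, 0, 0, 0, 4541,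 6574, (-4629), (-520), 2050, (-451), (-31), 0, 85, 129, 22, (-2), 63, 45, 45, 85, 24, 61, (-50), 37, (-25), 62, 124, (-95), 39, (-8), 61])))) (.node (.node (.leaf ([])) (.leaf ([(-583), (-2324), (-1065), 3101, 3388, 416, (-2766), (-1374), 2162, (-698), (-272), (-4033), 1090, (-3261), 660, 3540, 0, 0, 0, 0, 0, 0, 0, 0, 411, 709, (-452), (-42), 247, (-104), 1, (-1), 7, 10, 0, 0, 6, 4, 4, 6, 2, 4, (-4), 2, (-2), 3, 8, (-8), 3, (-2), 5]))) (.leaf ([])))) (.node (.node (.node (.leaf ([])) (.leaf ([]))) (.node (.leaf ([])) (.leaf ([(-508), 608, 455, 3332, 2410, (-734), (-2874), (-1534), 2000, (-1230), (-1020), (-5294), 1866, (-3077), 804, 3756, 0, 0, 0, 0, 0, 0, 0, 0, 329, 851, (-437), (-19), 313, (-217), (-2), 27, (-2), 1, (-5), 0, 5, 12, 12, (-1), (-7), (-5), (-4), (-16), 5, (-2), 1, 1, 10, 1, 4])))) (.node (.node (.leaf ([])) (.leaf ([]))) (.leaf ([1036, 3472, 2142, (-6393), (-6036), (-637), 4884, 2803, (-4430), 1630, 780, 8940, (-1915), 6480, (-1634), (-6173), 0, 0, 0,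 0, 0, 0, 0, 0, (-751), (-1362), 836, 77, (-467), 218, 7, (-13), (-9), (-15), 2, 1, (-11), (-12), (-12), (-7), 1, (-5), 9, 5, 1, (-2), (-12), 9, (-10), (-2), (-10)])))))

/-- data -/
def val1_1110 : Trie (Vec) := .node (.node (.node (.node (.leaf ([])) (.leaf ([0, 0, 0, 0, 0, 0, 0, 0, 0, 0, 0, 0, 0, 0, 0, 0, 0, 0, 0, 0, 0, 0, 0, 0, 0, 0, 0, 0, 0, 0, 0, 1]))) (.node (.leaf ([])) (.leaf ([72, 804, 453, (-344), (-581), (-263), 200, 136, (-293), 15, (-95), 304, 92, 398, (-106), (-231), 0, 0, 0, 0, 0, 0, 0, 0, (-46), (-64), 48, 4, (-12), (-3), 0, (-1), (-1), (-2), (-1), 0, 0, 0, 0, (-1), (-1), (-1), 1, (-1), 0, (-1), (-1), 1, 0, 1, 1])))) (.node (.node (.leaf ([])) (.leaf ([]))) (.leaf ([(-14), (-646), (-492), 109, 234, 301, 93, (-25), 157, 64, 137, (-47), (-253), (-166), 68, (-156), 0, 0, 0, 0, 0, 0, 0, 0, 14, (-18), (-3), (-3), (-17), 19, (-1), 0, 1, 0, 1, 0, 0, 0, 0, 1, 0, 1, 0, 1, (-1), 1, 1, (-1)])))) (.node (.node (.node (.leaf ([])) (.leaf ([(-1321), 10517, 7709, 8324,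 3656, (-6133), (-8999), (-4061), 3761, (-4387), (-4781), (-15038), 8562, (-6606), 1619, 12206, 0, 0, 0, 0, 0, 0, 0, 0, 815, 2569, (-1173), (-54), 1041, (-872), (-13), 91, (-20), (-16), (-26), 0, 7, 39, 40, (-8), (-25), (-20), (-9), (-63), 18, (-23), (-18), 16, 30, 9, 5]))) (.node (.leaf ([])) (.leaf ([1045, (-103), (-325), (-6541), (-5140), 1029, 5568, 2972, (-4018), 2227, 1702, 9996, (-3357), 6150, (-1567), (-7238), 0, 0, 0, 0, 0, 0, 0, 0, (-719), (-1577), 864, 64, (-575), 371, 8, (-39), 0, (-5), 9, 0, (-9), (-20), (-21), (-4), 9, 3, 9, 22, (-5), 4, (-4), 1, (-16), (-3), (-8)])))) (.node (.node (.leaf ([(-450), (-5015), (-3245), 2519, 3510, 1847, (-1319), (-994), 2189, (-106), 573, (-2606), (-661), (-2932), 751, 1500, 0, 0, 0, 0, 0, 0, 0, 0, 335, 363, (-311), (-39), 82, 38, (-4), (-4), 9, 13, 5, 0, 4, 2, 2, 9, 3, 7, (-5), 7, (-4), 10, 14, (-10), 2, 0, 6])) (.leaf ([21, (-28401), (-18285), (-1717), 7851, 12547, 5039, 1458, 2459, 4697, 7477, 9925, (-11141), (-1793), 182,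 (-7784), 0, 0, 0, 0, 0, 0, 0, 0, 393, (-1632), 165, (-121), (-809), 1117, 12, (-156), 59, 70, 43, (-1), 8, (-53), (-53), 61, 55, 60, (-5), 122, (-31), 55, 70, (-59), (-39), (-13), 12]))) (.leaf ([]))))

/-- data -/
def val1_1111 : Trie (Vec) := .node (.node (.node (.node (.leaf ([])) (.leaf ([281, 7195, 4651, (-1208), (-3169), (-3008), 157, 384, (-1663), (-710), (-1472), 12, 1952, 2056, (-392), 92, 0, 0, 0, 0, 0, 0, 0, 0, (-293), 33, 171, 58, 65, (-201), (-2), 31, (-12), (-20), (-10), 0, (-5), 7, 9, (-8), (-11), (-12), 3, (-22), 9, (-14), (-20), 17, 5, 3, (-6)]))) (.node (.leaf ([])) (.leaf ([1843, (-3957), (-3264), (-11688), (-8195), 3560, 10972, 5488, (-6695), 4556, 4056, 18937, (-7714), 10716, (-2602), (-14461), 0, 0, 0, 0, 0, 0, 0, 0, (-1321), (-3080), 1628, 125, (-1168), 800, 11, (-84), 8, (-3), 20, 0, (-17), (-37), (-38), (-6), 20, 11, 16, 50, (-9), 11, 0, (-2), (-31), (-4), (-12)])))) (.node (.node (.leaf ([])) (.leaf ([17, (-659), (-487), (-94), 95, 325, 252,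 67, 29, 131, 187, 287, (-353), 26, 14, (-361), 0, 0, 0, 0, 0, 0, 0, 0, (-3), (-71), 23, (-3), (-33), 32, 0, (-3), 1, 1, 1, 0, 0, (-1), (-1), 1, 1, 1, 0, 2, (-1), 1, 1, (-1), (-1)]))) (.leaf ([])))) (.node (.node (.node (.leaf ([])) (.leaf ([2636, (-43677), (-28304), (-19304), (-743), 21548, 21318, 9791, (-6562), 12718, 15634, 40753, (-25330), 12965, (-3839), (-29504), 0, 0, 0, 0, 0, 0, 0, 0, (-1247), (-6426), 2404, 7, (-2661), 2657, 42, (-365), 98, 98, 86, (-2), (-11), (-130), (-133), 89, 113, 106, 15, 252, (-52), 92, 99, (-89), (-105), (-24), 5]))) (.node (.leaf ([(-4), 222, 149, 25, (-52), (-84), (-134), (-36), (-20), (-33), (-64), (-115), 129, (-37), (-23), 186, 0, 0, 0, 0, 0, 0, 0, 0, 19, 29, (-19), (-6), 15, (-5), 0, 0, 0, 0, 0, 0, 1, 0, 0, 0, 0, 0, 0, 0, (-1), (-2), (-1)])) (.leaf ([(-24), 513, 352, 193, 3, (-269), (-202), (-91), 54, (-153), (-183), (-390), 263, (-96), 42, 281, 0, 0, 0, 0, 0, 0, 0, 0, 5, 69, (-23), 3, 31, (-30), (-1), 4, (-1), (-1), (-1), 0, 0,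 2, 2, (-1), (-1), (-1), 0, (-3), 1, (-1), (-1), 1, 1, 1])))) (.node (.node (.leaf ([(-1690), (-26192), (-16120), 8655, 15562, 9877, (-4467), (-3320), 8500, 836, 4211, (-6273), (-4788), (-11294), 2477, 4729, 0, 0, 0, 0, 0, 0, 0, 0, 1507, 1030, (-1242), (-211), 196, 448, (-3), (-87), 56, 76, 28, (-1), 22, (-16), (-15), 60, 38, 52, (-20), 80, (-20), 49, 77, (-59), (-10), (-5), 27])) (.leaf ([12, (-382), (-285), (-62), 47, 199, 115, 34, 9, 80, 109, 149, (-199), 3, (-4), (-166), 0, 0, 0, 0, 0, 0, 0, 0, 6, (-40), 8, (-4), (-18), 22, (-1), 0, 1, 0, 1, 1, 0, 0, 0, 2, 0, 1, 0, 1, (-1), 2, 2, (-1)]))) (.leaf ([644, 6302, 3878, (-3497), (-4783), (-2187), 2139, 1401, (-2941), 239, (-700), 3667, 473, 4018, (-960), (-2498), 0, 0, 0, 0, 0, 0, 0, 0, (-493), (-550), 461, 62, (-149), (-39), 6, 14, (-15), (-20), (-7), 1, (-7), (-1), (-1), (-13), (-7), (-12), 6, (-14), 8, (-12), (-20), 15, (-1), 1, (-8)]))))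

/-- data -/
def val1 : Trie (Vec) := .node (.node (.node (.node (val1_0000) (val1_0001)) (.node (val1_0010) (val1_0011))) (.node (val1_010) (.node (val1_0110) (val1_0111)))) (.node (.node (val1_100) (val1_101)) (.node (val1_110) (.node (val1_1110) (val1_1111))))

/-- data -/
def rank1 : Trie (ℕ) := .node (.node (.node (.node (.node (.node (.node (.node (.leaf 0) (.leaf 99)) (.node (.leaf 21) (.leaf 65))) (.node (.node (.leaf 0) (.leaf 0)) (.leaf 20))) (.node (.node (.node (.leaf 0) (.leaf 56)) (.node (.leaf 0) (.leaf 109))) (.node (.node (.leaf 0) (.leaf 55)) (.leaf 3)))) (.node (.node (.node (.node (.leaf 0) (.leaf 12)) (.node (.leaf 10) (.leaf 13))) (.node (.node (.leaf 2) (.leaf 87)) (.leaf 78))) (.node (.node (.node (.leaf 0) (.leaf 17)) (.node (.leaf 0) (.leaf 88))) (.node (.node (.leaf 54) (.leaf 70)) (.leaf 33))))) (.node (.node (.node (.node (.node (.leaf 0) (.leaf 0)) (.node (.leaf 0) (.leaf 98))) (.node (.node (.leaf 0) (.leaf 44)) (.leaf 1))) (.node (.node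 (.node (.leaf 0) (.leaf 8)) (.node (.leaf 0) (.leaf 106))) (.node (.node (.leaf 0) (.leaf 104)) (.leaf 45)))) (.node (.node (.node (.node (.leaf 0) (.leaf 0)) (.node (.leaf 0) (.leaf 57))) (.node (.node (.leaf 34) (.leaf 93)) (.leaf 0))) (.node (.node (.node (.leaf 0) (.leaf 51)) (.node (.leaf 0) (.leaf 53))) (.node (.node (.leaf 0) (.leaf 94)) (.leaf 75)))))) (.node (.node (.node (.node (.node (.node (.leaf 0) (.leaf 52)) (.node (.leaf 0) (.leaf 82))) (.node (.node (.leaf 0) (.leaf 92)) (.leaf 0))) (.node (.node (.node (.leaf 0) (.leaf 40)) (.node (.leaf 0) (.leaf 41))) (.node (.node (.leaf 0) (.leaf 0)) (.leaf 0)))) (.node (.node (.node (.node (.leaf 0) (.leaf 37)) (.node (.leaf 0) (.leaf 63))) (.node (.node (.leaf 0) (.leaf 96)) (.leaf 97))) (.node (.node (.node (.leaf 0) (.leaf 0)) (.node (.leaf 9) (.leaf 0))) (.node (.node (.leaf 0) (.leaf 48)) (.leaf 90))))) (.node (.node (.node (.node (.node (.leaf 0) (.leaf 15)) (.node (.leaf 0) (.leaf 64))) (.node (.node (.leaf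 0) (.leaf 59)) (.leaf 14))) (.node (.node (.node (.leaf 0) (.leaf 85)) (.node (.leaf 79) (.leaf 47))) (.node (.node (.leaf 0) (.leaf 35)) (.leaf 23)))) (.node (.node (.node (.node (.leaf 0) (.leaf 19)) (.node (.leaf 0) (.leaf 113))) (.node (.node (.leaf 0) (.leaf 18)) (.leaf 0))) (.node (.node (.node (.leaf 0) (.leaf 0)) (.node (.leaf 67) (.leaf 46))) (.node (.node (.leaf 0) (.leaf 71)) (.leaf 66))))))) (.node (.node (.node (.node (.node (.node (.node (.leaf 0) (.leaf 0)) (.node (.leaf 0) (.leaf 62))) (.node (.node (.leaf 0) (.leaf 105)) (.leaf 11))) (.node (.node (.node (.leaf 0) (.leaf 83)) (.node (.leaf 0) (.leaf 111))) (.node (.node (.leaf 36) (.leaf 32)) (.leaf 0)))) (.node (.node (.node (.node (.leaf 0) (.leaf 69)) (.node (.leaf 0) (.leaf 49))) (.node (.node (.leaf 0) (.leaf 77)) (.leaf 0))) (.node (.node (.node (.leaf 0) (.leaf 39)) (.node (.leaf 5) (.leaf 91))) (.node (.node (.leaf 7) (.leaf 0)) (.leaf 0))))) (.node (.node (.node (.node (.node (.leaf 0) (.leaf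 0)) (.node (.leaf 89) (.leaf 103))) (.node (.node (.leaf 0) (.leaf 43)) (.leaf 0))) (.node (.node (.node (.leaf 0) (.leaf 24)) (.node (.leaf 0) (.leaf 101))) (.node (.node (.leaf 0) (.leaf 0)) (.leaf 0)))) (.node (.node (.node (.node (.leaf 0) (.leaf 86)) (.node (.leaf 0) (.leaf 26))) (.node (.node (.leaf 0) (.leaf 0)) (.leaf 76))) (.node (.node (.node (.leaf 0) (.leaf 42)) (.node (.leaf 0) (.leaf 30))) (.node (.node (.leaf 4) (.leaf 100)) (.leaf 0)))))) (.node (.node (.node (.node (.node (.node (.leaf 0) (.leaf 60)) (.node (.leaf 0) (.leaf 110))) (.node (.node (.leaf 0) (.leaf 72)) (.leaf 0))) (.node (.node (.node (.leaf 0) (.leaf 95)) (.node (.leaf 0) (.leaf 25))) (.node (.node (.leaf 0) (.leaf 16)) (.leaf 0)))) (.node (.node (.node (.node (.leaf 0) (.leaf 0)) (.node (.leaf 0) (.leaf 84))) (.node (.node (.leaf 0) (.leaf 102)) (.leaf 0))) (.node (.node (.node (.leaf 0) (.leaf 0)) (.node (.leaf 0) (.leaf 50))) (.node (.node (.leaf 0) (.leaf 0)) (.leaf 58))))) (.node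 (.node (.node (.node (.node (.leaf 0) (.leaf 6)) (.node (.leaf 0) (.leaf 38))) (.node (.node (.leaf 0) (.leaf 0)) (.leaf 22))) (.node (.node (.node (.leaf 0) (.leaf 107)) (.node (.leaf 0) (.leaf 68))) (.node (.node (.leaf 80) (.leaf 81)) (.leaf 0)))) (.node (.node (.node (.node (.leaf 0) (.leaf 74)) (.node (.leaf 0) (.leaf 112))) (.node (.node (.leaf 0) (.leaf 28)) (.leaf 0))) (.node (.node (.node (.leaf 0) (.leaf 108)) (.node (.leaf 27) (.leaf 29))) (.node (.node (.leaf 73) (.leaf 31)) (.leaf 61)))))))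

/-- data -/
def tree1 : Trie (ℕ × ℕ) := .node (.node (.node (.node (.node (.node (.node (.leaf (0, 0)) (.leaf (37, 0))) (.node (.leaf (15, 1)) (.leaf (64, 1)))) (.node (.node (.leaf (7, 1)) (.leaf (46, 1))) (.leaf (25, 0)))) (.node (.node (.node (.leaf (3, 1)) (.leaf (41, 0))) (.node (.leaf (19, 1)) (.leaf (80, 0)))) (.node (.node (.leaf (11, 1)) (.leaf (55, 1))) (.leaf (31, 0))))) (.node (.node (.node (.node (.leaf (1, 1)) (.leaf (39, 0))) (.node (.leaf (17, 1)) (.leaf (70, 0)))) (.node (.node (.leaf (9, 1)) (.leaf (52, 1))) (.leaf (27, 0)))) (.node (.node (.node (.leaf (5, 1)) (.leaf (43, 1))) (.node (.leaf (22, 1)) (.leaf (90, 1)))) (.node (.node (.leaf (13, 1)) (.leaf (58, 1))) (.leaf (34, 0)))))) (.node (.node (.node (.node (.node (.leaf (0, 1)) (.leaf (38, 0))) (.node (.leaf (16, 1)) (.leaf (66, 1)))) (.node (.node (.leaf (8, 1)) (.leaf (49, 1))) (.leaf (26, 0)))) (.node (.node (.node (.leaf (4, 1)) (.leaf (42, 0))) (.node (.leaf (21, 0)) (.leaf (86, 1)))) (.node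 (.node (.leaf (12, 1)) (.leaf (57, 0))) (.leaf (33, 0))))) (.node (.node (.node (.node (.leaf (2, 1)) (.leaf (40, 0))) (.node (.leaf (18, 1)) (.leaf (77, 1)))) (.node (.node (.leaf (10, 1)) (.leaf (54, 0))) (.leaf (29, 1)))) (.node (.node (.node (.leaf (6, 1)) (.leaf (45, 1))) (.node (.leaf (23, 1)) (.leaf (93, 1)))) (.node (.node (.leaf (14, 1)) (.leaf (60, 1))) (.leaf (35, 1))))))) (.node (.node (.node (.node (.node (.node (.leaf (0, 0)) (.leaf (37, 1))) (.node (.leaf (16, 0)) (.leaf (66, 0)))) (.node (.node (.leaf (8, 0)) (.leaf (49, 0))) (.leaf (25, 1)))) (.node (.node (.node (.leaf (4, 0)) (.leaf (41, 1))) (.node (.leaf (20, 1)) (.leaf (83, 1)))) (.node (.node (.leaf (12, 0)) (.leaf (56, 1))) (.leaf (32, 1))))) (.node (.node (.node (.node (.leaf (2, 0)) (.leaf (39, 1))) (.node (.leaf (18, 0)) (.leaf (77, 0)))) (.node (.node (.leaf (10, 0)) (.leaf (53, 1))) (.leaf (29, 0)))) (.node (.node (.node (.leaf (6, 0)) (.leaf (44, 0))) (.node (.leaf (23, 0)) (.leaf (92, 1))))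 (.node (.node (.leaf (14, 0)) (.leaf (59, 1))) (.leaf (35, 0)))))) (.node (.node (.node (.node (.node (.leaf (1, 0)) (.leaf (38, 1))) (.node (.leaf (17, 0)) (.leaf (69, 1)))) (.node (.node (.leaf (9, 0)) (.leaf (50, 1))) (.leaf (26, 1)))) (.node (.node (.node (.leaf (5, 0)) (.leaf (42, 1))) (.node (.leaf (21, 1)) (.leaf (89, 0)))) (.node (.node (.leaf (13, 0)) (.leaf (57, 1))) (.leaf (33, 1))))) (.node (.node (.node (.node (.leaf (3, 0)) (.leaf (40, 1))) (.node (.leaf (19, 0)) (.leaf (79, 0)))) (.node (.node (.leaf (11, 0)) (.leaf (55, 0))) (.leaf (30, 0)))) (.node (.node (.node (.leaf (7, 0)) (.leaf (46, 0))) (.node (.leaf (24, 0)) (.leaf (109, 0)))) (.node (.node (.leaf (15, 0)) (.leaf (62, 1))) (.leaf (36, 1)))))))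

/-- data -/
def cert1 : Trie (ℕ × ℕ × ℕ) := .node (.node (.node (.node (.node (.node (.node (.leaf (0, 0, 5)) (.leaf (11, 14, 5))) (.node (.leaf (21, 12, 3)) (.leaf (21, 32, 4)))) (.node (.node (.leaf (14, 0, 6)) (.leaf (16, 69, 16))) (.node (.leaf (11, 30, 4)) (.leaf (4, 13, 33))))) (.node (.node (.node (.leaf (6, 0, 5)) (.leaf (15, 99, 2))) (.node (.leaf (21, 48, 10)) (.leaf (21, 98, 14)))) (.node (.node (.leaf (3, 13, 4)) (.leaf (19, 0, 11))) (.leaf (21, 88, 3))))) (.node (.node (.node (.node (.leaf (3, 1, 4)) (.leaf (11, 87, 10))) (.node (.leaf (21, 9, 3)) (.leaf (21, 60, 9)))) (.node (.node (.leaf (18, 0, 5)) (.leaf (17, 62, 35))) (.leaf (19, 33, 8)))) (.node (.node (.node (.leaf (10, 0, 7)) (.leaf (16, 49, 11))) (.node (.leaf (11, 58, 17)) (.leaf (2, 14, 4)))) (.node (.node (.leaf (21, 30, 11)) (.leaf (19, 38, 10))) (.leaf (22, 78, 4)))))) (.node (.node (.node (.node (.node (.leaf (2, 0, 6)) (.leaf (11, 47, 17))) (.node (.leaf (22, 0, 5)) (.leaf (21, 47, 13))))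 (.node (.node (.leaf (16, 100, 9)) (.leaf (16, 107, 2))) (.leaf (16, 30, 15)))) (.node (.node (.node (.leaf (8, 0, 5)) (.leaf (16, 27, 15))) (.node (.leaf (3, 25, 2)) (.leaf (22, 26, 4)))) (.node (.node (.leaf (16, 24, 16)) (.leaf (19, 20, 3))) (.leaf (21, 110, 4))))) (.node (.node (.node (.node (.leaf (4, 0, 4)) (.leaf (11, 95, 17))) (.node (.leaf (3, 11, 4)) (.leaf (21, 87, 6)))) (.node (.node (.leaf (2, 4, 8)) (.leaf (18, 62, 1))) (.leaf (21, 11, 4)))) (.node (.node (.node (.leaf (12, 0, 6)) (.leaf (16, 55, 9))) (.node (.leaf (21, 15, 4)) (.leaf (4, 3, 21)))) (.node (.node (.leaf (3, 35, 2)) (.leaf (21, 3, 8))) (.leaf (2, 41, 8))))))) (.node (.node (.node (.node (.node (.node (.leaf (1, 0, 4)) (.leaf (11, 44, 15))) (.node (.leaf (2, 2, 5)) (.leaf (21, 43, 10)))) (.node (.node (.leaf (15, 0, 6)) (.leaf (16, 97, 17))) (.leaf (16, 16, 2)))) (.node (.node (.node (.leaf (7, 0, 5)) (.leaf (16, 5, 7))) (.node (.leaf (22, 12, 14)) (.leaf (21, 106, 0)))) (.node (.node (.leaf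 (11, 32, 6)) (.leaf (19, 17, 2))) (.leaf (21, 102, 14))))) (.node (.node (.node (.node (.leaf (3, 3, 4)) (.leaf (11, 93, 15))) (.node (.leaf (22, 89, 14)) (.leaf (21, 63, 14)))) (.node (.node (.leaf (19, 10, 3)) (.leaf (18, 55, 20))) (.leaf (21, 4, 13)))) (.node (.node (.node (.leaf (11, 100, 3)) (.leaf (16, 52, 17))) (.node (.leaf (16, 0, 12)) (.leaf (4, 1, 25)))) (.node (.node (.leaf (3, 33, 3)) (.leaf (19, 81, 1))) (.leaf (22, 87, 7)))))) (.node (.node (.node (.node (.node (.leaf (3, 0, 4)) (.leaf (11, 60, 9))) (.node (.leaf (16, 1, 11)) (.leaf (21, 50, 8)))) (.node (.node (.leaf (17, 0, 5)) (.leaf (17, 51, 42))) (.leaf (16, 48, 15)))) (.node (.node (.node (.leaf (9, 0, 6)) (.leaf (16, 32, 7))) (.node (.leaf (11, 42, 5)) (.leaf (22, 29, 11)))) (.node (.node (.leaf (20, 1, 11)) (.leaf (19, 32, 6))) (.leaf (22, 58, 8))))) (.node (.node (.node (.node (.leaf (5, 0, 6)) (.leaf (12, 26, 36))) (.node (.leaf (11, 5, 8)) (.leaf (21, 94, 15)))) (.node (.node (.leaf (3, 5, 4))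 (.leaf (18, 74, 5))) (.leaf (21, 41, 1)))) (.node (.node (.node (.leaf (13, 0, 7)) (.leaf (16, 58, 11))) (.node (.leaf (2, 16, 6)) (.leaf (4, 11, 6)))) (.node (.node (.leaf (3, 55, 1)) (.leaf (21, 14, 3))) (.leaf (11, 6, 1)))))))

/-- data -/
def pot1 : Trie (Vec) := .node (.node (.node (.node (.node (.node (.node (.leaf ([])) (.leaf ([(-4), 6]))) (.node (.leaf ([(-4), 5])) (.leaf ([(-4), 7])))) (.node (.node (.leaf ([(-3), 4])) (.leaf ([(-3), 6]))) (.leaf ([(-3), 5])))) (.node (.node (.node (.leaf ([(-2), 3])) (.leaf ([(-3), 6]))) (.node (.leaf ([(-3), 5])) (.leaf ([(-4), 7])))) (.node (.node (.leaf ([(-2), 4])) (.leaf ([(-1), 6]))) (.leaf ([(-6), 6]))))) (.node (.node (.node (.node (.leaf ([(-1), 2])) (.leaf ([(-5), 6]))) (.node (.leaf ([(-3), 5])) (.leaf ([(-5), 7])))) (.node (.node (.leaf ([(-2), 4])) (.leaf ([(-3), 6]))) (.leaf ([(-3), 5])))) (.node (.node (.node (.leaf ([(-1), 3])) (.leaf ([(-2), 6]))) (.node (.leaf ([(-1), 5])) (.leaf ([(-5), 8])))) (.node (.node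 (.leaf ([(-1), 4])) (.leaf ([(-5), 7]))) (.leaf ([(-4), 6])))))) (.node (.node (.node (.node (.node (.leaf ([0, 1])) (.leaf ([(-3), 6]))) (.node (.leaf ([(-3), 5])) (.leaf ([(-3), 7])))) (.node (.node (.leaf ([(-2), 4])) (.leaf ([(-2), 6]))) (.leaf ([(-2), 5])))) (.node (.node (.node (.leaf ([(-1), 3])) (.leaf ([(-4), 6]))) (.node (.leaf ([(-3), 5])) (.leaf ([(-2), 7])))) (.node (.node (.leaf ([(-1), 4])) (.leaf ([(-5), 7]))) (.leaf ([(-5), 6]))))) (.node (.node (.node (.node (.leaf ([0, 2])) (.leaf ([(-4), 6]))) (.node (.leaf ([(-2), 5])) (.leaf ([(-2), 7])))) (.node (.node (.leaf ([(-1), 4])) (.leaf ([(-2), 6]))) (.leaf ([(-1), 5])))) (.node (.node (.node (.leaf ([0, 3])) (.leaf ([(-4), 6]))) (.node (.leaf ([(-3), 5])) (.leaf ([(-4), 8])))) (.node (.node (.leaf ([0, 4])) (.leaf ([(-4), 7]))) (.leaf ([(-4), 6]))))))) (.node (.node (.node (.node (.node (.node (.leaf ([(-1), 1])) (.leaf ([(-3), 6]))) (.node (.leaf ([(-4), 5])) (.leaf ([(-4), 7])))) (.node (.node (.leaf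 ([(-3), 4])) (.leaf ([(-3), 6]))) (.leaf ([(-2), 5])))) (.node (.node (.node (.leaf ([(-2), 3])) (.leaf ([(-2), 6]))) (.node (.leaf ([(-2), 5])) (.leaf ([(-2), 7])))) (.node (.node (.leaf ([(-2), 4])) (.leaf ([(-6), 7]))) (.leaf ([(-4), 6]))))) (.node (.node (.node (.node (.leaf ([(-1), 2])) (.leaf ([(-4), 6]))) (.node (.leaf ([(-3), 5])) (.leaf ([(-3), 7])))) (.node (.node (.leaf ([(-2), 4])) (.leaf ([(-2), 6]))) (.leaf ([(-2), 5])))) (.node (.node (.node (.leaf ([(-1), 3])) (.leaf ([(-2), 6]))) (.node (.leaf ([(-4), 5])) (.leaf ([(-5), 8])))) (.node (.node (.leaf ([(-1), 4])) (.leaf ([(-4), 7]))) (.leaf ([(-5), 6])))))) (.node (.node (.node (.node (.node (.leaf ([(-2), 2])) (.leaf ([(-2), 6]))) (.node (.leaf ([(-4), 5])) (.leaf ([(-4), 7])))) (.node (.node (.leaf ([(-3), 4])) (.leaf ([(-2), 6]))) (.leaf ([(-1), 5])))) (.node (.node (.node (.leaf ([(-2), 3])) (.leaf ([(-3), 6]))) (.node (.leaf ([(-2), 5])) (.leaf ([(-7), 8])))) (.node (.node (.leaf ([(-2), 4])) (.leaf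 ([(-4), 7]))) (.leaf ([(-4), 6]))))) (.node (.node (.node (.node (.leaf ([(-3), 3])) (.leaf ([(-3), 6]))) (.node (.leaf ([(-4), 5])) (.leaf ([(-5), 7])))) (.node (.node (.leaf ([(-3), 4])) (.leaf ([(-2), 6]))) (.leaf ([(-1), 5])))) (.node (.node (.node (.leaf ([(-4), 4])) (.leaf ([(-4), 6]))) (.node (.leaf ([(-3), 5])) (.leaf ([(-6), 9])))) (.node (.node (.leaf ([(-5), 5])) (.leaf ([(-4), 7]))) (.leaf ([(-3), 6])))))))

/-- the table -/
def table1 : Table where
  size := 112
  ngen := 2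
  next g x := next1.getK (2 * g + x)
  prev g x := prev1.getK (2 * g + x)
  lab g x := lab1.getK (2 * g + x)
  val g x := val1.getK (2 * g + x)
  rank g x := rank1.getK (2 * g + x)
  tree g := tree1.getK g
  cert j := cert1.getK j
  nded := 113
  rels := [⟨[(1, true), (0, true), (1, true), (1, true), (0, true), (0, true)], [(0, true)], []⟩,
    ⟨[(0, true), (1, true), (0, true), (1, true), (0, true), (1, false), (0, false), (1, false)], [(1, true)], []⟩,
    ⟨[(0, true), (0, true), (0, true), (0, true), (0, true), (0, true), (0, true), (0, true), (0, true)], [], [0, 0, 0, 0, 0, 0, 0, 0, 0, 0, 0, 0, 0, 0, 0, 0, 0, 0, 0, 0, 0, 0, 0, 0, 0, 0, 0, 0, 0, 0, 1]⟩,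
    ⟨[(1, true), (1, true), (1, true), (1, true), (1, true)], [], [0, 0, 0, 0, 0, 0, 0, 0, 0, 0, 0, 0, 0, 0, 0, 0, 0, 0, 0, 0, 0, 0, 0, 0, 0, 0, 0, 0, 0, 0, 0, 1]⟩,
    ⟨[(1, true), (1, true), (0, true), (1, true), (1, true), (0, true), (1, true), (0, true), (1, true), (1, true), (0, true), (0, true), (0, true), (1, true), (0, true), (1, true), (0, true), (1, true), (0, true), (0, true), (0, true), (1, true), (0, true), (1, true), (0, true), (1, false), (0, false), (1, false), (0, false), (0, false), (1, false), (0, false), (1, false), (0, false), (1, false), (0, false), (1, true), (0, true), (1, true), (1, true), (0, true), (0, true)], [], [0, 0, 0, 0, 0, 0, 0, 0, 0, 0, 0, 0, 0, 0, 0, 0, 0, 0, 0, 0, 0, 0, 0, 0, 0, 0, 0, 0, 0, 0, 0, 0, 1]⟩,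
    ⟨[(0, true), (1, true), (1, true), (0, true), (0, true), (0, true), (0, true), (1, false), (0, false), (1, false), (1, false), (0, false), (1, false), (0, true), (1, true), (0, true), (1, true), (0, true), (1, false), (0, false), (1, false), (0, false), (0, false), (1, false), (0, false), (1, false), (0, false), (1, false), (0, false), (1, true), (0, true), (1, true), (1, true), (0, true), (0, true), (0, true), (1, true), (0, true), (1, true), (0, true), (1, false), (0, false), (1, false), (0, false), (0, false), (1, false), (1, false), (0, false), (1, false)], [], [0, 0, 0, 0, 0, 0, 0, 0, 0, 0, 0, 0, 0, 0, 0, 0, 0, 0, 0, 0, 0, 0, 0, 0, 0, 0, 0, 0, 0, 0, 0, 0, 0, 1]⟩,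
    ⟨[(1, true), (0, true), (0, true), (0, true), (0, true), (0, true), (1, false), (1, false), (1, false), (0, false), (0, false), (0, false), (1, false), (1, false), (0, false), (1, false), (0, true), (1, true), (0, true), (1, true), (0, true), (1, true), (0, true), (0, true), (0, true), (1, true), (0, true), (1, true), (0, true), (1, true), (0, true), (0, true), (1, true), (0, true), (1, true), (1, true), (0, true), (0, true), (1, true), (0, true), (1, true), (0, false), (1, false), (0, false), (1, false), (0, false), (0, false), (0, false), (1, false), (1, false), (0, false), (1, false)], [], [0, 0, 0, 0, 0, 0, 0, 0, 0, 0, 0, 0, 0, 0, 0, 0, 0, 0, 0, 0, 0, 0, 0, 0, 0, 0, 0, 0, 0, 0, 0, 0, 0, 0, 1]⟩,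
    ⟨[(0, true), (0, true), (1, true), (0, true), (1, true), (0, true), (1, false), (0, false), (1, true), (0, true), (0, true), (0, true), (1, true), (0, true), (1, true), (0, true), (1, true), (0, true), (0, true), (1, true), (0, true), (1, true), (1, true), (0, true), (0, true), (0, true), (1, true), (0, true), (1, true), (0, true), (1, true), (0, true), (0, true), (1, true), (0, true), (1, true), (0, false), (1, false), (0, false), (1, false), (0, false), (0, false), (0, false), (1, false), (1, false), (0, false), (1, false), (0, false), (0, false), (1, false), (1, false), (0, false), (1, false)], [], [0, 0, 0, 0, 0, 0, 0, 0, 0, 0, 0, 0, 0, 0, 0, 0, 0, 0, 0, 0, 0, 0, 0, 0, 0, 0, 0, 0, 0, 0, 0, 0, 0, 0, 0, 1]⟩,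
    ⟨[(1, true), (0, true), (1, true), (0, true), (0, true), (1, true), (0, false), (1, false), (1, false), (0, false), (0, false), (0, false), (0, false), (0, false), (1, false), (0, false), (1, false), (0, false), (1, false), (0, false), (0, false), (0, false), (1, false), (1, false), (0, false), (1, false), (0, true), (1, true), (0, true), (1, true), (0, true), (1, true), (0, true), (0, true), (0, true), (1, true), (0, true), (1, true), (0, true), (1, false), (0, false), (1, false), (0, false), (0, false), (1, false), (0, false), (1, false), (0, false), (1, false), (0, false), (0, false), (0, false), (1, false), (1, false), (0, false), (1, false)], [], [0, 0, 0, 0, 0, 0, 0, 0, 0, 0, 0, 0, 0, 0, 0, 0, 0, 0, 0, 0, 0, 0, 0, 0, 0, 0, 0, 0, 0, 0, 0, 0, 0, 0, 0, 0, 1]⟩,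
    ⟨[(0, true), (1, true), (0, true), (0, true), (0, true), (0, true), (0, true), (1, false), (0, false), (0, false), (1, false), (0, false), (1, true), (0, true), (1, true), (0, false), (1, false), (0, false), (1, false), (0, false), (0, false), (0, false), (1, false), (1, false), (0, false), (1, false), (0, true), (1, true), (0, true), (1, true), (0, true), (1, false), (0, false), (1, false), (0, false), (0, false), (1, false), (0, false), (1, false), (0, false), (1, false), (0, false), (1, true), (0, true), (1, true), (1, true), (0, true), (0, true), (1, true), (0, true), (1, true), (0, false), (1, false), (0, false), (1, false), (0, false)], [], [0, 0, 0, 0, 0, 0, 0, 0, 0, 0, 0, 0, 0, 0, 0, 0, 0, 0, 0, 0, 0, 0, 0, 0, 0, 0, 0, 0, 0, 0, 0, 0, 0, 0, 0, 0, 0, 1]⟩,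
    ⟨[(0, true), (1, true), (0, true), (0, true), (1, true), (0, true), (0, true), (0, true), (1, false), (0, false), (1, false), (0, false), (0, false), (1, true), (0, true), (1, true), (0, true), (1, true), (0, true), (0, true), (1, true), (0, true), (1, true), (1, true), (0, true), (0, true), (0, true), (1, true), (0, true), (1, true), (0, true), (1, false), (0, false), (1, false), (0, false), (0, false), (1, false), (1, false), (0, false), (1, false), (0, true), (1, true), (0, true), (1, true), (0, true), (1, true), (0, true), (0, true), (0, true), (1, true), (0, true), (1, true), (0, true), (1, false), (0, false), (1, false)], [], [0, 0, 0, 0, 0, 0, 0, 0, 0, 0, 0, 0, 0, 0, 0, 0, 0, 0, 0, 0, 0, 0, 0, 0, 0, 0, 0, 0, 0, 0, 0, 0, 0, 0, 0, 0, 0, 0, 1]⟩,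
    ⟨[(0, false), (0, false), (1, true), (0, false), (1, false), (0, true), (1, false), (1, false), (0, false), (1, false), (1, false), (0, true), (0, true), (0, true), (1, true), (0, true), (1, true), (0, false)], [], [0, 0, 0, 0, 0, 0, 0, 0, 0, 0, 0, 0, 0, 0, 0, 0, 0, 0, 0, 0, 0, 0, 0, 0, 0, 0, 0, 0, 0, 0, 0, 0, 0, 0, 0, 0, 0, 0, 0, 1]⟩,
    ⟨[(0, true), (0, true), (1, true), (1, true), (1, true), (1, true), (0, true), (1, false), (0, true), (1, true), (1, true), (0, true), (0, true), (0, true), (1, true), (0, true), (1, true), (0, true), (1, true), (0, true), (0, true), (1, true), (0, true), (1, true), (0, false), (1, false), (0, false), (1, false), (0, false), (0, false), (0, false), (1, false), (1, false), (0, false), (1, false), (0, true), (1, true), (0, true), (1, true), (0, true), (1, true), (0, true), (0, true), (1, true), (0, true), (1, true), (1, true), (0, true), (0, true), (0, true), (1, true), (0, true), (1, true), (0, true), (1, true), (0, true), (0, true)],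 [], [0, 0, 0, 0, 0, 0, 0, 0, 0, 0, 0, 0, 0, 0, 0, 0, 0, 0, 0, 0, 0, 0, 0, 0, 0, 0, 0, 0, 0, 0, 0, 0, 0, 0, 0, 0, 0, 0, 0, 0, 1]⟩,
    ⟨[(0, true), (0, true), (0, true), (0, true), (0, true), (0, true), (1, true), (1, true), (0, false), (0, false), (1, false), (1, false), (1, false), (0, true), (1, true), (1, true), (0, true), (0, true), (1, true), (0, true), (1, true), (0, false), (1, false), (0, false), (1, false), (0, false), (0, false), (0, false), (1, false), (1, false), (0, false), (1, false), (0, false), (0, false), (1, false), (1, false), (0, false), (1, false), (0, true), (1, true), (0, true), (1, true), (0, true), (1, true), (0, true), (0, true), (1, true), (0, true), (1, true), (0, false), (1, false), (0, false), (1, false), (0, false), (1, true), (0, true), (1, true), (1, true), (0, true), (0, true)], [], [0, 0, 0, 0, 0, 0, 0, 0, 0, 0, 0, 0, 0, 0, 0, 0, 0, 0, 0, 0, 0, 0, 0, 0, 0, 0, 0, 0, 0, 0, 0, 0, 0, 0, 0, 0, 0, 0, 0, 0, 0, 1]⟩,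
    ⟨[(0, true), (1, true), (1, true), (0, true), (1, true), (1, true), (0, true), (0, true), (1, true), (1, true), (0, true), (0, true), (0, true), (1, true), (0, true), (1, true), (0, true), (1, true), (0, true), (0, true), (1, true), (0, true), (1, true), (1, true), (0, true), (0, true), (0, true), (1, true), (0, true), (1, true), (0, true), (1, true), (0, true), (0, true), (0, true), (1, true), (0, true), (1, true), (0, true), (1, false), (0, false), (1, false), (0, false), (0, false), (1, false), (1, false), (0, false), (1, false), (0, true), (1, true), (0, true), (1, true), (0, true), (1, true), (0, true), (0, true), (1, true), (0, true), (1, true), (0, false), (1, false), (0, false), (1, false), (0, false)], [], [0, 0, 0, 0, 0, 0, 0, 0, 0, 0, 0, 0, 0, 0, 0, 0, 0, 0, 0, 0, 0, 0, 0, 0, 0, 0, 0, 0, 0, 0, 0, 0, 0, 0, 0, 0, 0, 0, 0, 0, 0, 0, 1]⟩,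
    ⟨[(1, true), (1, true), (1, true), (1, true), (0, true), (0, true), (0, true), (1, false), (1, false), (0, false), (1, false), (0, false), (0, false), (0, false), (1, true), (0, true), (1, true), (0, false), (1, false), (0, false), (1, false), (0, false), (1, true), (0, true), (1, true), (1, true), (0, true), (0, true), (0, true), (1, true), (0, true), (1, true), (0, true), (1, false), (0, false), (1, false), (0, false), (0, false), (1, false), (1, false), (0, false), (1, false), (0, false), (0, false), (1, false), (0, false), (1, false), (0, false), (1, false), (0, false), (0, false), (0, false), (1, false), (1, false), (0, false), (1, false), (0, true), (1, true), (0, true), (1, true), (0, true), (1, false), (0, false), (1, false)], [], [0, 0, 0, 0, 0, 0, 0, 0, 0, 0, 0, 0, 0, 0, 0, 0, 0, 0, 0, 0, 0, 0, 0, 0, 0, 0, 0, 0, 0, 0, 0, 0, 0, 0, 0, 0, 0, 0, 0, 0, 0, 0, 0, 1]⟩,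
    ⟨[(0, false), (0, false), (1, true), (0, false), (1, false), (1, false), (0, true), (1, true), (0, false), (0, false), (0, false), (1, false), (0, false), (1, true), (1, true), (0, true), (1, false), (0, false)], [], [0, 0, 0, 0, 0, 0, 0, 0, 0, 0, 0, 0, 0, 0, 0, 0, 0, 0, 0, 0, 0, 0, 0, 0, 0, 0, 0, 0, 0, 0, 0, 0, 0, 0, 0, 0, 0, 0, 0, 0, 0, 0, 0, 0, 1]⟩,
    ⟨[(1, true), (0, true), (1, true), (0, true), (0, true), (0, true), (1, false), (0, false), (0, false), (0, false), (1, true), (0, true), (1, true), (0, true), (1, false), (0, false), (1, false), (0, false), (0, false), (1, false), (1, false), (0, false), (1, false), (0, false), (0, false), (1, false), (1, false), (0, false), (1, false), (0, true), (1, true), (0, true), (1, true), (0, true), (1, false), (0, false), (1, false), (0, false), (0, false), (1, false), (1, false), (0, false), (1, false), (0, true), (1, true), (0, true), (1, true), (0, true), (1, true), (0, true), (0, true), (1, true), (0, true), (1, true),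 (0, false), (1, false), (0, false), (1, false), (0, false), (0, false), (0, false), (1, false), (1, false), (0, false), (1, false)], [], [0, 0, 0, 0, 0, 0, 0, 0, 0, 0, 0, 0, 0, 0, 0, 0, 0, 0, 0, 0, 0, 0, 0, 0, 0, 0, 0, 0, 0, 0, 0, 0, 0, 0, 0, 0, 0, 0, 0, 0, 0, 0, 0, 0, 0, 1]⟩,
    ⟨[(0, true), (0, true), (0, true), (0, true), (1, true), (0, true), (1, false), (0, false), (0, false), (1, false), (0, false), (0, false), (1, false), (1, false), (0, false), (1, false), (0, false), (0, false), (1, false), (0, false), (1, false), (0, false), (1, false), (0, false), (0, false), (0, false), (1, false), (1, false), (0, false), (1, false), (0, true), (1, true), (0, true), (1, true), (0, true), (1, true), (0, true), (0, true), (1, true), (0, true), (1, true), (1, true), (0, true), (0, true), (1, true), (0, true), (1, true), (0, false), (1, false), (0, false), (1, false), (0, false), (0, false), (0, false), (1, false), (1, false), (0, false), (1, false), (0, true), (1, true), (0,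 true), (1, true), (0, true), (1, false), (0, false), (1, false)], [], [0, 0, 0, 0, 0, 0, 0, 0, 0, 0, 0, 0, 0, 0, 0, 0, 0, 0, 0, 0, 0, 0, 0, 0, 0, 0, 0, 0, 0, 0, 0, 0, 0, 0, 0, 0, 0, 0, 0, 0, 0, 0, 0, 0, 0, 0, 1]⟩,
    ⟨[(0, true), (0, true), (0, true), (1, false), (0, true), (0, true), (0, true), (1, false), (0, true), (0, true), (0, true), (1, false), (0, true), (0, true), (0, true), (1, false)], [], [0, 0, 0, 0, 0, 0, 0, 0, 0, 0, 0, 0, 0, 0, 0, 0, 0, 0, 0, 0, 0, 0, 0, 0, 0, 0, 0, 0, 0, 0, 0, 0, 0, 0, 0, 0, 0, 0, 0, 0, 0, 0, 0, 0, 0, 0, 0, 1]⟩,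
    ⟨[(0, true), (1, false), (0, true), (1, false), (0, true), (1, false), (0, true), (1, false), (0, true), (1, false), (0, true), (1, false), (0, true), (1, false), (0, true), (1, false)], [], [0, 0, 0, 0, 0, 0, 0, 0, 0, 0, 0, 0, 0, 0, 0, 0, 0, 0, 0, 0, 0, 0, 0, 0, 0, 0, 0, 0, 0, 0, 0, 0, 0, 0, 0, 0, 0, 0, 0, 0, 0, 0, 0, 0, 0, 0, 0, 0, 1]⟩,
    ⟨[(0, true), (0, true), (1, true), (0, true), (0, true), (1, false), (1, false), (0, true), (1, true), (1, true), (0, true), (1, true), (1, true), (0, true), (1, false), (0, false), (1, false)], [], [0, 0, 0, 0, 0, 0, 0, 0, 0, 0, 0, 0, 0, 0, 0, 0, 0, 0, 0, 0, 0, 0, 0, 0, 0, 0, 0, 0, 0, 0, 0, 0, 0, 0, 0, 0, 0, 0, 0, 0, 0, 0, 0, 0, 0, 0, 0, 0, 0, 1]⟩,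
    ⟨[(1, true), (1, true), (0, false), (1, true), (1, true), (0, false), (1, false), (1, false), (1, false), (0, false), (1, true), (1, true), (0, false), (1, true), (1, true), (0, false)], [], [0, 0, 0, 0, 0, 0, 0, 0, 0, 0, 0, 0, 0, 0, 0, 0, 0, 0, 0, 0, 0, 0, 0, 0, 0, 0, 0, 0, 0, 0, 0, 0, 0, 0, 0, 0, 0, 0, 0, 0, 0, 0, 0, 0, 0, 0, 0, 0, 0, 0, 1]⟩]
  pot g := pot1.getK g
  innerSize := 29160
  innerGen := 2

/-- data -/
def level1eqsPart0 : List (ℕ × ℕ × Vec) := [(19, 93, [(-1), 10, (-35), 30, (-23), 14, 1, (-5), 15, (-17), (-18), (-91), (-47), (-14), 18, (-4), 0, 0, 0, 0, 0, 0, 0, 0, 5, 0, (-2), 1, (-7), 3]), (19, 15, [1, 106, 52, 16, (-37), (-35), (-32), (-12), 2, (-16), (-30), (-62), 40, (-15), (-1), 44, 0, 0, 0, 0, 0, 0, 0, 0, 2, 8, (-4), 0, 4, (-2), 2, 0, 0, 0, 0, 0, 0, 0, 0, 0, 0, 0, 0, 0, 0, 2, 0, (-1)]), (19, 19, [23, 101, 10, (-73), (-131), (-6), 101, 35, (-37), 22, 13, 89, (-50), 70, (-8), (-139), 0, 0, 0, 0, 0, 0, 0, 0, (-15), (-26), 15, 3, (-6), 8, 0, 0,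 0, 0, 0, 0, 0, 4, 0, 0, 0, 0, 0, 0, 0, 0, 0, (-1)]), (16, 93, [(-30), 361, 388, 48, 18, (-240), (-180), (-24), (-35), (-51), (-62), 8, 277, (-3), (-30), 239, 0, 0, 0, 0, 0, 0, 0, 0, 13, 27, (-16), (-1), 19, (-11), (-2), 0, 0, 0, 0, 0, 0, 0, 0, 0, 0, 0, 0, 0, (-3)]), (22, 109, [104, 485, (-63), (-27), (-413), (-22), 286, 4, 26, (-58), (-107), (-298), (-136), 31, 94, (-420), 0, 0, 0, 0, 0, 0, 0, 0, (-74), (-14), 34, 24, (-3), (-4), 0, 9, (-2), (-3), (-1), 0, 0, 0, 0, (-1), (-3), (-3), 1, (-3), (-1), (-1), (-3), 3, 1, (-2), (-3)]), (2, 32, [13, 674, 486, (-62), (-222), (-293), (-197), (-14), (-128), (-85), (-186), (-104), 304, 87, (-75), 301, 0, 0, 0, 0, 0, 0, 0, 0, 1, 36, (-11), (-3), 28, (-20), 0, (-1), 0, (-1), (-1), 0, 1, 0, 0, (-2), 0, (-1), 0, (-1), 0, (-2), (-1), 1]), (7, 96, [(-85), 1092, 1389, 124, 277, (-726), (-1461), (-282), (-188), (-209), (-307), (-573), 1261, (-314), (-249), 1985, 0, 0, 0, 0, 0, 0, 0, 0, 258, 290, (-218), (-63), 133, (-58), (-4), 5, 2, 0,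 (-1), 1, (-1), 1, 0, 18, 1, 6, (-1), 1, (-1), 1, (-1), (-4), (-1), 2, (-6)]), (16, 101, [(-258), (-2659), (-767), (-249), 1153, 843, (-840), 90, (-82), 539, 693, 1377, (-26), (-204), (-441), 1161, 0, 0, 0, 0, 0, 0, 0, 0, 338, (-51), (-138), (-110), (-30), 110, (-2), (-41), 9, 15, 6, 1, 4, (-7), (-8), 3, 13, 15, (-6), 20, (-6), 1, 10, (-15), (-8), 9, 5]), (21, 46, [22, (-1816), (-589), (-990), 214, 605, 685, 523, (-541), 540, 827, 2533, (-777), 842, (-283), (-963), 0, 0, 0, 0, 0, 0, 0, 0, 37, (-248), 55, (-24), (-108), 114, (-8), (-32), 8, 8, 2, 0, (-3), (-5), (-4), 9, 11, 15, 1, 19, 3, 2, 6, (-5), (-7), 5, 2]), (22, 75, [322, 3004, 1058, (-444), (-1834), (-920), 1274, 233, (-415), (-312), (-622), (-302), (-82), 921, 206, (-1683), 0, 0, 0, 0, 0, 0, 0, 0, (-272), (-173), 209, 54, (-44), (-62), 4, 16, (-9), (-13), (-7), (-1), (-3), 0, 0, (-8), (-6), (-10), 5, (-11), 4, (-9), (-14), 12, 1, (-3), (-7)]), (22, 2, [(-216), (-1860), (-1328), 1469, 1641, 649, (-658), (-584),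 1178, (-223), 79, (-1815), (-153), (-1541), 498, 731, 0, 0, 0, 0, 0, 0, 0, 0, 135, 242, (-157), (-5), 60, (-20), 0, 4, 3, 4, 1, 0, 1, 1, 2, 3, 1, 1, (-1), 1, 0, 2, 2, (-2), 1, (-3), (-1)]), (3, 61, [(-232), (-3564), (-2085), 813, 1872, 1404, (-664), (-342), 856, 282, 638, (-369), (-612), (-1284), 131, 767, 0, 0, 0, 0, 0, 0, 0, 0, 234, 108, (-169), (-47), 12, 78, (-4), (-7), 7, 10, 6, 1, 3, 0, 0, 7, 3, 7, (-4), 8, (-5), 8, 11, (-9), 0, 1, 4]), (8, 104, [98, (-2668), (-679), (-2098), (-48), 1164, (-371), 704, (-1192), 1076, 991, 3418, (-598), 1026, (-1095), 682, 0, 0, 0, 0, 0, 0, 0, 0, 152, (-264), (-44), (-42), (-100), 235, 10, (-56), 17, 15, 12, 2, (-2), (-13), (-14), 27, 17, 20, (-4), 33, 2, 18, 18, (-22), (-13), 2, 3]), (10, 28, [(-236), (-3810), (-668), (-1125), 1530, 1049, (-993), 431, (-563), 909, 1020, 3391, (-203), 371, (-964), 1456, 0, 0, 0, 0, 0, 0, 0, 0, 196, (-28), (-135), (-44), 17, 140, 8, (-53), 16, 23, 15, 1, 0, (-8), (-13), 9, 16, 17, 0, 30, (-2), 25,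 26, (-26), (-8), 2, 8]), (4, 16, [482, 3258, 135, (-708), (-2967), (-469), 2819, 457, (-450), (-82), (-529), (-55), (-1016), 1346, 406, (-3793), 0, 0, 0, 0, 0, 0, 0, 0, (-516), (-479), 449, 79, (-160), (-38), 3, 51, (-20), (-23), (-7), (-2), (-1), 6, 6, (-31), (-20), (-26), 8, (-32), (-6), (-17), (-22), 20, 9, (-4), (-8)]), (21, 2, [(-284), 337, 160, 2148, 1523, (-382), (-1816), (-1010), 1299, (-790), (-603), (-3467), 1076, (-2040), 528, 2329, 0, 0, 0, 0, 0, 0, 0, 0, 188, 547, (-287), (-1), 211, (-119), (-5), 17, 2, 2, (-2), 0, 4, 8, 9, 1, (-4), (-1), (-3), (-8), 1, 1, 4, 1, 7, (-3), 4]), (22, 99, [(-352), (-2398), (-1338), 1937, 2410, 687, (-1483), (-836), 1459, (-325), 69, (-2357), 230, (-2111), 474, 1841, 0, 0, 0, 0, 0, 0, 0, 0, 245, 407, (-269), (-25), 130, (-40), (-2), 4, 5, 8, 4, 0, 5, 4, 3, 1, 0, 1, (-2), (-1), (-3), 6, 9, (-7), 4, (-2), 3]), (5, 108, [300, 3356, 2041, (-1677), (-2446), (-1221), 1250, 718, (-1488), 40, (-295), 1774, 197, 2136, (-396), (-1479),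 0, 0, 0, 0, 0, 0, 0, 0, (-211), (-331), 256, 5, (-105), (-23), (-2), 4, (-8), (-12), (-5), (-1), (-5), 1, 1, (-8), (-2), (-5), 3, (-6), 6, (-9), (-9), 9, 0, 6, (-3)]), (22, 28, [258, 4843, 3045, (-1158), (-2434), (-1962), 552, 430, (-1343), (-395), (-936), 511, 1054, 1780, (-298), (-507), 0, 0, 0, 0, 0, 0, 0, 0, (-258), (-87), 187, 45, 0, (-122), 0, 24, (-10), (-16), (-8), (-1), (-4), 4, 6, (-8), (-8), (-10), 2, (-17), 6, (-11), (-15), 14, 3, 0, (-6)]), (16, 20, [202, (-3101), (-1889), (-1552), (-87), 1481, 1613, 774, (-605), 952, 1133, 3238, (-1851), 1111, (-325), (-2217), 0, 0, 0, 0, 0, 0, 0, 0, (-88), (-491), 187, (-4), (-202), 192, 3, (-26), 6, 7, 7, 0, (-2), (-10), (-11), 7, 8, 8, 1, 19, (-6), 8, 7, (-7), (-8), (-2)])]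

/-- data -/
def level1eqsPart1 : List (ℕ × ℕ × Vec) := [(20, 4, [186, (-4298), (-3621), (-495), 361, 2406, 1693, 323, 409, 965, 1326, 1438, (-2365), (-198), 171, (-2551), 0, 0, 0, 0, 0, 0, 0, 0, (-31), (-437), 129, (-10), (-208), 222, 3, (-14), 8, 6, 9, 0, 2, (-11), (-11), 5, 4, 4, 3, 15, (-13), 5, 4, (-6), (-7), (-6), (-5)]), (7, 21, [35, 719, (-2203), 2991, 158, 675, 75, (-1287), 2294, (-804), (-737), (-6346), (-320), (-2934), 1446, (-491), 0, 0, 0, 0, 0, 0, 0, 0, (-115), 325, (-48), 69, 56, (-109), (-2), 94, (-12), (-18), (-3), 2, 7, 12, 13, (-17), (-31), (-31), 0, (-42), (-17), (-3), (-15), 16, 19, (-12), (-13)]), (13, 52, [25, 4151, 548, 2383, (-1010), (-1161), 104, (-989), 1435, (-1230), (-1568), (-5575), 893, (-1590), 1201, (-167), 0, 0, 0, 0, 0, 0, 0, 0, (-149), 239, 62, 35, 68, (-233), (-1), 67, (-23), (-28), (-13), 1, 1, 15, 17, (-30), (-24), (-31), 3, (-46), (-1), (-22), (-25), 24, 15, (-1), (-5)]), (16, 74, [404, 5115, 2922, (-1702), (-3162), (-1815), 1050,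 633, (-1628), (-181), (-838), 1074, 753, 2179, (-416), (-1195), 0, 0, 0, 0, 0, 0, 0, 0, (-316), (-213), 254, 48, (-43), (-83), (-1), 25, (-10), (-17), (-6), 0, (-4), 4, 5, (-8), (-9), (-11), 3, (-17), 3, (-9), (-15), 14, 3, (-1), (-6)]), (21, 1, [291, 6435, 4051, (-1153), (-2964), (-2613), 271, 359, (-1507), (-578), (-1261), 223, 1630, 1872, (-377), (-118), 0, 0, 0, 0, 0, 0, 0, 0, (-303), 20, 164, 67, 72, (-172), (-2), 29, (-11), (-18), (-9), 0, (-4), 7, 9, (-10), (-10), (-12), 4, (-22), 9, (-11), (-15), 16, 6, 0, (-4)]), (11, 71, [407, 3174, 2097, (-2539), (-2926), (-1065), 1581, 1058, (-2009), 394, (-97), 3144, 6, 2772, (-716), (-1904), 0, 0, 0, 0, 0, 0, 0, 0, (-294), (-452), 318, 29, (-144), 23, 3, 2, (-8), (-8), (-2), 1, (-4), (-2), (-2), (-8), (-2), (-5), 2, (-5), 3, (-4), (-8), 6, (-2), 0, (-4)]), (21, 111, [(-445), (-2959), (-1734), 2453, 2919, 910, (-1936), (-1075), 1885, (-374), 141, (-2936), 359, (-2750), 595, 2405, 0, 0, 0, 0, 0, 0, 0, 0, 400, 473, (-364),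 (-66), 157, (-19), 2, (-12), 8, 12, 0, (-1), 7, (-2), (-1), 8, 6, 9, (-4), 10, (-1), 0, 9, (-8), 0, (-3), 5])]

/-- the table with its checks -/
def level1 : CfsgLib.Sporadic.ChainLevel where
  table := table1
  gexp := [[(-1), 1], [0, 1]]
  perm := [0x895ee68e1e6d1dd74dce83d4d8661d821b26dde9871cb699c47c199569db746166b20270ded815f66ada76899e81a216e551855bf7321f839eb795c869612769cd66a0d8815d82d50801ad6f5f7531aa761bc559a9571c171d5854dd5791dc841fe6a1f379e2381e0c716116b9ec8915b785fb7a14f57de277a01811f878ddf7299b549b3869b185daf686226d9ba681d2676187e9c075955661b57f1d4551f975d9c80df57be13691cf709f286dc955db863d714698e45d684d5654b99748d78501726291f5f57a5bd184d991451634893a5198362d8d4c5485f18c59970611414c13f5156e5d56259d615ad195ed26475155f92862185829e056609719d967d4e6edfd6fa147fdb07c5e652dd0579ea7d16d4911e50d42659815fd444dd4951d8264d1c4c99549d604bd2c4b5734ad764a9255b1165a992619805dd895d1344e1206413944d694f93c4cd3b591794a54a4f51b6512161c9e41091428e836cfc2b0c13a8f23a4e72f1123b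095414ed3c4b1270ae2949f24cbb43cb9400fb2bcfa2c8f83e4f6314fe240f34249228cde370ee384a62908f38ce241d012e0310ecc7154da0fc341d426044670a06a35c861305f070cc1141b2809d3f4a7441083fcaa430ba310be30cb02dce0398f5390a12d4bf264a9374f42609a288df3ad0330911250ef434b62aca84189b2cce52b502238f7300f02f50e25d0b2d0961b4ce1700a0cc6315881048360c0222244e0b0d1144291c08d3404f1942b0348814c851ac6f00c841d80e1d00b1c8d32285b118420b4210904710cc63583d0a844328010e477050600641e0083e0c87d09c1512441140d23345e190c91f0cf1a44d1ecd90b8681e0253541a320050608b1604b04c80174400e81701859198103506c0101f21c831f87a0bc200e06208c7903c54128cb230351847f168090f06e1cc1d0200c3601615c521207101c820dc00, 0x895ea76a0673dfd545c5729d6579d97519f52d5d549ba7d5c068554846157a20c809a78362480621789f27ed9a83d5c6f21c7b2186fde0829f77ade5825bb69a20561c782dc479204719be7421386df17214f671d7785ab7e9b570553771e7565b67d2147f1ff761de7a5b16e15f7b5a9869ac7e5a485d5780dc2661b0539e6879ae7c156815fe7462272da2731d3755cd6e55a85a0868d9e56d9b749ce665db5319d70db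481def6cd4d7d9af541a07255550948605895ad6a5d94a489714fd7b65d434dd876551e4ad744ed2d4851b465795813e649134e57e641254f1344bd3d4811d5e14448d275dd2e49917501285d52a515614b11687e2378daa77dee6de127e2196b60e7ce106a2006c9a5875dd6f5934c98460d7d60936601666157f651494cd6c5918e5bd8a6357a5c1965a11f58d464918c4c58f5b5474e98b595915a51450562621295f135619674e11a471185c9305cd155b8b7440b23d4b34350942ced2f89f3c0a93f09d30ce4444bc250c0268eb378b8258f42650137cc2418bd23cb52ac9826cb625cc12e4f237091298a02fca53bca32a0a2284f32486812008200730947d0543205c780302d04c6e0dc461ec420080643cf9310e03ecb03f4e5438ff3dcae3f902384ad421053a0f63c4e94009529cec4489339cc52b10c429043e0ea2c4fa41c90278ee3888e2a8e62d10336caf2ecba270a4374e33405c214d51d82f360720d81e1c462220d91288c15c53228ca21c820740f32c6c160501485920c5a00c5409c2033c351dc070fcd71d48d18c223380e2042c1e40b1f0383186d1d03c11c4d09829044311bccc0f849348641c02b1e844138893585d0d00a0485519c5f084411841a178cd0147f1a81c1003a0b81b1146603439024693241622c2a0cc4301024004181f8230643d0401434484194301acd3320da21851130c713c5b180d40a05607c4b0ec00]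
  pinv := [0x895cd751b6801ef7ea2286a1566dbb86db06e60c7f554681f4741d9875f97c1d27b55f5721974e0181dc368e0a711eb54dd8559a9729af699c27a2066894b7599c5461168624821ce7e14c859c9755507dddb705c672d5e701c5881da839f3569e5695ad771a887db28354e67a1e7c9fb851bf669f677d5b746128259d781ae7f1557a5e455db47fd9885db56aa216f2186e9526e1cf7aa0b815e6789d7812137d59f88e036ddb3566026c5a46f9f1841ab639454e9154f52c6092365d945e9765ed894a16144d2b581735f13e5112a50d6361d7759d864698c4a5325b5274d18a659746156e5292f5a52d481925ad756411b6016c5a93871d4d7b9e17320f575de665e36b1a7775bd7f9ec72158871e753d18501784fd7d5bd4251d465c98b5c11f45d1e4717e4892550583645264753b5e5714dd8f4d5364cd31465624e5664c1496357f45124621485953c459955a18464d2e5918148504290c13dc92284bd2410f3a4c03749d4051129898370f52fcec30d0c3d0f23bcf0258ee2d0ac3a9083fc94288e44010329d0941d0e418b5268b337cde38cb62a0e62b4e5434d60f8093345d0e4271a0481f8791088c11cc805859110373605e3b4bb2e4a5428952c0ba24d053e0bc3d8db2dca02c48f26cf13f8b83ccfc2650b27cbe2b89e308e23ece139ca92c8c53e912310fd270aa2bcab2448e408a33e4e8440eb380971e8150d0672047408ccc1c86e088022183004821138430fc200683b1586d34c6b034690107b1c00e234261c4ce1043c340291dc452201c04c54328460bc8b198110a83301c8735c181cc061f4491e080100cb0c81712c051806531c5a17c641282e354501700f3642d15c1d00484050d42244f3688307c3d18c7f1d85b1f0cf134d20e86106c821881e09052030c93183814c350b008130550c485344280646c1d40a1a88a0400b00c2b0d8251bc5116000,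 0x89608579b8819f257dbf535fe79dcb559fc71daf839d67a15883d52805548260c7bdf97d5ae686226edec7160b81d50751ba881d580ddf725577e19d84dd754e04799bd6815a735fd7de247460d769c07d9ed57605785fa56dd2531db69a23869d378a1c6ce196d1a96e5e9885a86c9b56de1d665e57c1eb879ee68dc4776127edea52dff7d2146c5cf565d8779a267d4f741c2671be555ca7815c73151829f3539c86b5b68459a861ac691e36aa0269dc362d3461d3f5297b499774b13a4dd2e4a138651216211d5054851d4565543501785191f631365f96f5ad915958445517639354e5134ad3c64d92495334714249d3b4c5225897d73a1b85a006adb0765f1719bc662107721587d9b791c1679a585d904f9964a93058d6e6299748d676357c5c97560d295e51b62544479744f5494b5165cd6a6096161564481665b1695d92f5b58f605714c9865c1196011a5fd185a160451245e8ab40511314bd434a642ca5430b527cf32d0a4258b83d8af2f0b92fd05304a0310a32ecb243cf8370e82c5073849c428ac3f0a22c0b32a4982f9022389b2dcc23d4fb23ce72540e200871904122806040490548d1a45f0d04c1d47a0940f028572a0c340cf43a8fe38d093c90024c923a4fa448ec3c09743910284c0250ba2d8a73bc99418df2b4e538890380de374e44209d410913b4fd3dcee3acf92b8ff2a8db3989e3c49a1887e08c7b108811e40d22c141bc78174d70c81b350593244516cd019c8918c553588620c47134cc1587404431098da0ec2a04c48184820dc070e8351008c0206e1c0731f4040f06c1f07103072024431480b0087f128d914cca0ac44080c80e02f1944b060540042e0a05832c851a03f084d2138122202d3385c11822140051ac513541e068600e46a00c841dc300b0360641c3442434c163343d13c171d85e0a4cf1683e09cd8198c60cc1f1b4c707400]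
  defs := [[(1, true), (0, true), (1, true), (1, true), (0, true), (0, true)], [(0, true), (1, true), (0, true), (1, true), (0, true), (1, false), (0, false), (1, false)]]
  eqs := level1eqsPart0 ++ level1eqsPart1
  pts := [142]

end CfsgLib.Sporadic.MultTwoMcl
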