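import Mathlib
import Cfsg.Agent.Lib.Sporadic.ChainCertificate
import Cfsg.Agent.Lib.Schur.TrieFast

/-!
# Coset table 2 of a chain
-/

set_option autoImplicit false
set_option maxRecDepth 100000
set_option maxHeartbeats 0
set_option Elab.async false

noncomputable section

namespace CfsgLib.Sporadic.MultTwoMcl

open CfsgLib.Schur.Cert

/-- data -/
def next2 : Trie (ℕ) := .node (.node (.node (.node (.node (.node (.leaf 1) (.leaf 24)) (.node (.leaf 0) (.leaf 9))) (.node (.node (.leaf 8) (.leaf 16)) (.node (.leaf 18) (.leaf 5)))) (.node (.node (.node (.leaf 4) (.leaf 26)) (.node (.leaf 15) (.leaf 23))) (.node (.node (.leaf 11) (.leaf 28)) (.leaf 21)))) (.node (.node (.node (.node (.leaf 2) (.leaf 25)) (.node (.leaf 13) (.leaf 29))) (.node (.node (.leaf 10) (.leaf 3)) (.node (.leaf 20) (.leaf 19)))) (.node (.node (.node (.leaf 6) (.leaf 27)) (.node (.leaf 14) (.leaf 17))) (.node (.node (.leaf 12) (.leaf 7)) (.leaf 22)))))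 (.node (.node (.node (.node (.node (.leaf 2) (.leaf 24)) (.node (.leaf 8) (.leaf 10))) (.node (.node (.leaf 9) (.leaf 15)) (.node (.leaf 19) (.leaf 27)))) (.node (.node (.node (.leaf 5) (.leaf 26)) (.node (.leaf 16) (.leaf 22))) (.node (.node (.leaf 6) (.leaf 18)) (.leaf 4)))) (.node (.node (.node (.node (.leaf 3) (.leaf 13)) (.node (.leaf 14) (.leaf 28))) (.node (.node (.leaf 0) (.leaf 12)) (.node (.leaf 11) (.leaf 29)))) (.node (.node (.node (.leaf 7) (.leaf 21)) (.node (.leaf 17) (.leaf 25))) (.node (.node (.leaf 1) (.leaf 20)) (.leaf 23)))))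

/-- data -/
def prev2 : Trie (ℕ) := .node (.node (.node (.node (.node (.node (.leaf 8) (.leaf 20)) (.node (.leaf 4) (.leaf 16))) (.node (.node (.leaf 2) (.leaf 13)) (.node (.leaf 7) (.leaf 22)))) (.node (.node (.node (.leaf 1) (.leaf 12)) (.node (.leaf 5) (.leaf 18))) (.node (.node (.leaf 3) (.leaf 15)) (.leaf 11)))) (.node (.node (.node (.node (.leaf 0) (.leaf 27)) (.node (.leaf 24) (.leaf 17))) (.node (.node (.leaf 28) (.leaf 14)) (.node (.leaf 9) (.leaf 25)))) (.node (.node (.node (.leaf 21) (.leaf 29)) (.node (.leaf 6) (.leaf 19))) (.node (.node (.leaf 23) (.leaf 26)) (.leaf 10))))) (.node (.node (.node (.node (.node (.leaf 5) (.leaf 10)) (.node (.leaf 8) (.leaf 16))) (.node (.node (.leaf 14) (.leaf 23)) (.node (.leaf 21) (.leaf 25)))) (.node (.node (.node (.leaf 0) (.leaf 22)) (.node (.leaf 24) (.leaf 18))) (.node (.node (.leaf 6) (.leaf 26)) (.leaf 9)))) (.node (.node (.node (.node (.leaf 7) (.leaf 11)) (.node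 (.leaf 4) (.leaf 27))) (.node (.node (.leaf 2) (.leaf 19)) (.node (.leaf 17) (.leaf 29)))) (.node (.node (.node (.leaf 1) (.leaf 12)) (.node (.leaf 13) (.leaf 28))) (.node (.node (.leaf 3) (.leaf 15)) (.leaf 20)))))

/-- data -/
def lab2 : Trie (Word) := .node (.node (.node (.node (.node (.node (.leaf ([])) (.leaf ([]))) (.node (.leaf ([(0, false)])) (.leaf ([(2, true), (1, false), (0, false), (1, true), (0, false)])))) (.node (.node (.leaf ([])) (.leaf ([(2, true), (1, false), (0, true), (1, false), (0, true)]))) (.node (.leaf ([])) (.leaf ([]))))) (.node (.node (.node (.leaf ([])) (.leaf ([]))) (.node (.leaf ([])) (.leaf ([(1, true), (0, true), (1, false), (2, false), (0, true)])))) (.node (.node (.leaf ([])) (.leaf ([]))) (.leaf ([]))))) (.node (.node (.node (.node (.leaf ([(0, true)])) (.leaf ([]))) (.node (.leaf ([])) (.leaf ([])))) (.node (.node (.leaf ([])) (.leaf ([(2, false), (0, true), (1, true), (2, true),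 (1, true)]))) (.node (.leaf ([])) (.leaf ([(1, false), (2, false), (0, false), (1, false), (2, true)]))))) (.node (.node (.node (.leaf ([])) (.leaf ([]))) (.node (.leaf ([(1, false), (2, false), (1, false), (0, false), (2, true)])) (.leaf ([(2, false), (1, true), (0, true), (2, true), (1, true)])))) (.node (.node (.leaf ([])) (.leaf ([(0, true), (2, false), (1, false), (0, true), (1, false)]))) (.leaf ([])))))) (.node (.node (.node (.node (.node (.leaf ([])) (.leaf ([(1, true), (0, false), (1, false), (2, true), (1, false)]))) (.node (.leaf ([(2, true)])) (.leaf ([(1, true), (2, false), (1, true), (0, true), (1, false)])))) (.node (.node (.leaf ([])) (.leaf ([(1, false), (2, false), (0, false), (1, false), (2, true), (0, true)]))) (.node (.leaf ([])) (.leaf ([(2, false), (0, false), (2, false), (1, true), (0, false)]))))) (.node (.node (.node (.leaf ([])) (.leaf ([(1, true), (2, true), (0, true), (1, true)]))) (.node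 (.leaf ([])) (.leaf ([(1, false), (2, true), (0, false), (2, false), (1, false), (0, true)])))) (.node (.node (.leaf ([(1, true)])) (.leaf ([(2, false), (0, false)]))) (.leaf ([]))))) (.node (.node (.node (.node (.leaf ([])) (.leaf ([(1, true), (2, false), (0, true), (2, true), (0, true)]))) (.node (.leaf ([])) (.leaf ([(1, false)])))) (.node (.node (.leaf ([])) (.leaf ([(2, false), (0, false), (2, false), (1, true), (0, false)]))) (.node (.leaf ([(2, false), (1, true), (0, true), (2, true), (0, true)])) (.leaf ([(0, false), (1, false), (2, true), (0, true)]))))) (.node (.node (.node (.leaf ([])) (.leaf ([(2, false), (0, false), (2, false), (1, true), (0, false)]))) (.node (.leaf ([])) (.leaf ([(1, false), (2, false), (0, true), (2, true), (1, false), (0, true)])))) (.node (.node (.leaf ([])) (.leaf ([(2, true), (1, true), (0, false), (2, false), (1, true), (0, true)]))) (.leaf ([]))))))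

/-- data -/
def val2 : Trie (Vec) := .node (.node (.node (.node (.node (.node (.leaf ([])) (.leaf ([]))) (.node (.leaf ([0, 0, 0, 0, 0, 0, 0, 0, 0, 0, 0, 0, 0, 0, 0, 0, 0, 0, 0, 0, 0, 0, 0, 0, 1])) (.leaf ([(-1), (-42), (-32), 9, 18, 18, 9, (-2), 13, 3, 6, (-6), (-18), (-11), 6, (-13), 0, 0, 0, 0, 0, 0, 0, 0, (-2), (-1), 1, 1, (-1), 1])))) (.node (.node (.leaf ([])) (.leaf ([0, 47, 35, (-6), (-18), (-20), (-10), 0, (-12), (-3), (-5), 3, 20, 8, (-6), 16, 0, 0, 0, 0, 0, 0, 0, 0, 3, 1, (-1), (-1), 1, (-1)]))) (.node (.leaf ([])) (.leaf ([0, 0, 0, 0, 0, 0, 0, 0, 0, 0, 0, 0, 0, 0, 0, 0, 0, 0, 0, 0, 0, 0, 0, 0, 1]))))) (.node (.node (.node (.leaf ([])) (.leaf ([]))) (.node (.leaf ([])) (.leaf ([0, 0, 0, 0, 0, 0, 0, 0, (-1), 0, 0, 0, 0, 0, 1, 0, 0, 0, 0, 0, 0, 0, 0, 0, 1, 0, 0, 0, (-1)])))) (.node (.node (.leaf ([])) (.leaf ([]))) (.leaf ([]))))) (.node (.node (.node (.node (.leaf ([])) (.leaf ([]))) (.node (.leaf ([])) (.leaf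 ([])))) (.node (.node (.leaf ([])) (.leaf ([5, 160, 110, (-36), (-78), (-59), (-41), 3, (-44), (-5), (-29), 7, 68, 31, (-27), 62, 0, 0, 0, 0, 0, 0, 0, 0, 5, 5, (-3), (-2), 4, (-2)]))) (.node (.leaf ([])) (.leaf ([1, 95, 81, (-20), (-32), (-46), (-29), 3, (-24), (-6), (-18), 7, 47, 21, (-16), 44, 0, 0, 0, 0, 0, 0, 0, 0, (-2), 6, (-1), 1, 4, (-3)]))))) (.node (.node (.node (.leaf ([])) (.leaf ([]))) (.node (.leaf ([(-5), (-160), (-110), 36, 78, 59, 41, (-3), 44, 5, 29, (-7), (-68), (-31), 27, (-62), 0, 0, 0, 0, 0, 0, 0, 0, (-4), (-5), 3, 2, (-4), 2])) (.leaf ([9, (-91), (-82), (-39), (-16), 49, 101, 29, (-10), 24, 37, 85, (-83), 45, 8, (-139), 0, 0, 0, 0, 0, 0, 0, 0, (-9), (-23), 13, 1, (-11), 5])))) (.node (.node (.leaf ([])) (.leaf ([0, 0, 0, 0, 0, 0, 0, 0, 0, 0, 0, 0, 0, 0, 0, 0, 0, 0, 0, 0, 0, 0, 0, 0, 0, 0, 0, 0, 1]))) (.leaf ([])))))) (.node (.node (.node (.node (.node (.leaf ([])) (.leaf ([0, 4, 8, (-5), (-1),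 (-3), (-6), 1, (-4), 0, 0, 9, 7, 3, (-3), 8, 0, 0, 0, 0, 0, 0, 0, 0, 0, 2, (-1), 0, 1]))) (.node (.leaf ([])) (.leaf ([0, (-4), (-8), 5, 1, 3, 6, (-1), 4, 0, 0, (-9), (-7), (-3), 3, (-8), 0, 0, 0, 0, 0, 0, 0, 0, 0, (-1), 1, 0, (-1)])))) (.node (.node (.leaf ([])) (.leaf ([(-1), 11, 13, (-1), 0, (-8), 1, 0, (-5), 0, 3, 10, 7, 4, 0, 0, 0, 0, 0, 0, 0, 0, 0, 0, 2, (-3), 1, (-1), (-1)]))) (.node (.leaf ([])) (.leaf ([(-16), (-80), (-74), 109, 90, 34, (-60), (-47), 79, (-20), (-8), (-166), 6, (-114), 33, 73, 0, 0, 0, 0, 0, 0, 0, 0, 15, 17, (-12), (-3), 4, (-2)]))))) (.node (.node (.node (.leaf ([])) (.leaf ([0, 90, 83, (-24), (-30), (-46), (-29), 5, (-31), (-6), (-15), 19, 50, 28, (-17), 43, 0, 0, 0, 0, 0, 0, 0, 0, 0, 7, (-2), 0, 3, (-3)]))) (.node (.leaf ([])) (.leaf ([0, (-90), (-84), 24, 30, 46, 31, (-5), 32, 6, 15, (-20), (-51), (-28), 18, (-45), 0, 0, 0, 0, 0, 0, 0, 0, (-2), (-5), 2, 1, (-3), 3])))) (.node (.node (.leaf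 ([])) (.leaf ([0, 0, 0, 0, 0, 0, 0, 0, 0, 0, 0, 0, 0, 0, 0, 0, 0, 0, 0, 0, 0, 0, 0, 0, 2, (-1), 0, (-1)]))) (.leaf ([0, 0, 0, 0, 0, 0, 0, 0, 0, 0, 0, 0, 0, 0, 0, 0, 0, 0, 0, 0, 0, 0, 0, 0, 0, 1]))))) (.node (.node (.node (.node (.leaf ([])) (.leaf ([(-1), 57, 29, 25, (-6), (-24), (-22), (-12), 16, (-13), (-17), (-51), 27, (-22), 8, 25, 0, 0, 0, 0, 0, 0, 0, 0, (-2), 9, (-3), 2, 4, (-2)]))) (.node (.leaf ([])) (.leaf ([0, 0, 0, 0, 0, 0, 0, 0, 0, 0, 0, 0, 0, 0, 0, 0, 0, 0, 0, 0, 0, 0, 0, 0, (-1), (-1), 1])))) (.node (.node (.leaf ([0, 0, 0, 0, 0, 0, 0, 0, 0, 0, 0, 0, 0, 0, 0, 0, 0, 0, 0, 0, 0, 0, 0, 0, 0, 1])) (.leaf ([3, 60, 56, (-44), (-43), (-24), (-11), 13, (-40), 9, (-2), 54, 28, 39, (-24), 21, 0, 0, 0, 0, 0, 0, 0, 0, 3, (-4), 1, (-2)]))) (.node (.leaf ([6, 164, 109, (-36), (-81), (-59), (-37), 3, (-44), (-6), (-29), 5, 67, 31, (-26), 57, 0, 0, 0, 0, 0, 0, 0, 0, 3, 4, (-2), (-2), 4, (-2)])) (.leaf ([5, (-85), (-83),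 (-22), (-12), 56, 49, 12, (-2), 22, 26, 34, (-59), 10, 2, (-68), 0, 0, 0, 0, 0, 0, 0, 0, (-1), (-13), 5, (-1), (-7), 6]))))) (.node (.node (.node (.leaf ([])) (.leaf ([1, (-83), (-45), (-2), 37, 22, 48, 12, 7, 3, 16, 39, (-46), 16, 12, (-68), 0, 0, 0, 0, 0, 0, 0, 0, (-7), (-8), 6, 2, (-4), 1]))) (.node (.leaf ([])) (.leaf ([11, 16, (-7), (-34), (-40), 3, 59, 18, (-20), 7, 8, 48, (-36), 39, 1, (-80), 0, 0, 0, 0, 0, 0, 0, 0, (-7), (-12), 7, 1, (-4), 3])))) (.node (.node (.leaf ([0, 0, 0, 0, 0, 0, 0, 0, 0, 0, 0, 0, 0, 0, 0, 0, 0, 0, 0, 0, 0, 0, 0, 0, 0, 1])) (.leaf ([(-1), (-113), (-102), 40, 49, 52, 35, (-8), 46, 0, 15, (-49), (-60), (-38), 27, (-54), 0, 0, 0, 0, 0, 0, 0, 0, (-5), (-5), 3, 2, (-3), 3]))) (.leaf ([]))))))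

/-- data -/
def rank2 : Trie (ℕ) := .node (.node (.node (.node (.node (.node (.leaf 0) (.leaf 0)) (.node (.leaf 4) (.leaf 15))) (.node (.node (.leaf 0) (.leaf 16)) (.node (.leaf 0) (.leaf 5)))) (.node (.node (.node (.leaf 0) (.leaf 0)) (.node (.leaf 0) (.leaf 12))) (.node (.node (.leaf 0) (.leaf 0)) (.leaf 0)))) (.node (.node (.node (.node (.leaf 1) (.leaf 0)) (.node (.leaf 0) (.leaf 0))) (.node (.node (.leaf 0) (.leaf 19)) (.node (.leaf 0) (.leaf 25)))) (.node (.node (.node (.leaf 0) (.leaf 0)) (.node (.leaf 21) (.leaf 30))) (.node (.node (.leaf 0) (.leaf 11)) (.leaf 0))))) (.node (.node (.node (.node (.node (.leaf 0) (.leaf 14)) (.node (.leaf 3) (.leaf 13))) (.node (.node (.leaf 0) (.leaf 17)) (.node (.leaf 0) (.leaf 31)))) (.node (.node (.node (.leaf 0) (.leaf 22)) (.node (.leaf 0) (.leaf 20))) (.node (.node (.leaf 2) (.leaf 10)) (.leaf 8)))) (.node (.node (.node (.node (.leaf 0) (.leaf 26)) (.node (.leaf 0) (.leaf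 9))) (.node (.node (.leaf 6) (.leaf 24)) (.node (.leaf 23) (.leaf 28)))) (.node (.node (.node (.leaf 0) (.leaf 27)) (.node (.leaf 0) (.leaf 29))) (.node (.node (.leaf 7) (.leaf 18)) (.leaf 0)))))

/-- data -/
def tree2 : Trie (ℕ × ℕ) := .node (.node (.node (.node (.node (.leaf (0, 0)) (.leaf (10, 1))) (.node (.leaf (4, 0)) (.leaf (16, 0)))) (.node (.node (.leaf (2, 0)) (.leaf (13, 0))) (.node (.leaf (7, 0)) (.leaf (22, 0))))) (.node (.node (.node (.leaf (0, 1)) (.leaf (12, 0))) (.node (.leaf (5, 0)) (.leaf (18, 0)))) (.node (.node (.leaf (3, 0)) (.leaf (15, 0))) (.leaf (9, 1))))) (.node (.node (.node (.node (.leaf (0, 0)) (.leaf (11, 1))) (.node (.leaf (4, 1)) (.leaf (17, 0)))) (.node (.node (.leaf (2, 1)) (.leaf (14, 0))) (.node (.leaf (9, 0)) (.leaf (25, 0))))) (.node (.node (.node (.leaf (1, 1)) (.leaf (12, 1))) (.node (.leaf (6, 0)) (.leaf (19, 0)))) (.node (.node (.leaf (3, 1)) (.leaf (15, 1))) (.leaf (10, 0)))))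

/-- data -/
def cert2 : Trie (ℕ × ℕ × ℕ) := .node (.node (.node (.node (.node (.leaf (0, 0, 1)) (.leaf (6, 4, 5))) (.node (.leaf (5, 0, 7)) (.leaf (6, 12, 10)))) (.node (.node (.leaf (3, 5, 4)) (.leaf (3, 3, 2))) (.node (.leaf (5, 1, 5)) (.leaf (7, 24, 8))))) (.node (.node (.node (.leaf (2, 0, 3)) (.leaf (8, 21, 0))) (.node (.leaf (7, 0, 5)) (.leaf (7, 12, 1)))) (.node (.node (.leaf (4, 1, 2)) (.leaf (5, 2, 3))) (.node (.leaf (8, 26, 8)) (.leaf (7, 28, 0)))))) (.node (.node (.node (.node (.leaf (1, 0, 3)) (.leaf (8, 13, 7))) (.node (.leaf (6, 2, 8)) (.leaf (7, 9, 20)))) (.node (.node (.leaf (4, 0, 2)) (.leaf (4, 18, 0))) (.node (.leaf (4, 10, 1)) (.leaf (7, 27, 27))))) (.node (.node (.node (.leaf (3, 0, 4)) (.leaf (8, 28, 14))) (.node (.leaf (3, 7, 3)) (.leaf (7, 18, 10)))) (.node (.node (.leaf (4, 4, 2)) (.leaf (5, 12, 9))) (.leaf (3, 9, 2)))))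

/-- data -/
def pot2 : Trie (Vec) := .node (.node (.node (.node (.node (.leaf ([])) (.leaf ([(-9), 12]))) (.node (.leaf ([(-8), 14])) (.leaf ([(-12), 18])))) (.node (.node (.leaf ([(-5), 8])) (.leaf ([(-13), 22]))) (.node (.leaf ([(-10), 16])) (.leaf ([(-16), 28]))))) (.node (.node (.node (.leaf ([(-2), 2])) (.leaf ([(-13), 22]))) (.node (.leaf ([(-7), 10])) (.leaf ([(-16), 28])))) (.node (.node (.leaf ([(-8), 14])) (.leaf ([(-13), 22]))) (.leaf ([(-9), 12]))))) (.node (.node (.node (.node (.leaf ([(-3), 6])) (.leaf ([(-13), 22]))) (.node (.leaf ([(-7), 10])) (.leaf ([(-16), 28])))) (.node (.node (.leaf ([(-4), 4])) (.leaf ([(-12), 18]))) (.node (.leaf ([(-10), 16])) (.leaf ([(-19), 34]))))) (.node (.node (.node (.leaf ([(-5), 8])) (.leaf ([(-12), 18]))) (.node (.leaf ([(-11), 20])) (.leaf ([(-15), 24])))) (.node (.node (.leaf ([(-7), 10])) (.leaf ([(-12), 18]))) (.leaf ([(-10), 16])))))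

/-- the table -/
def table2 : Table where
  size := 30
  ngen := 2
  next g x := next2.getK (2 * g + x)
  prev g x := prev2.getK (2 * g + x)
  lab g x := lab2.getK (2 * g + x)
  val g x := val2.getK (2 * g + x)
  rank g x := rank2.getK (2 * g + x)
  tree g := tree2.getK g
  cert j := cert2.getK j
  nded := 31
  rels := [⟨[(0, true), (0, true), (1, false)], [(0, true)], []⟩,
    ⟨[(0, true), (1, true), (0, true), (1, true), (0, false), (1, false), (0, false)], [(1, true)], []⟩,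
    ⟨[(1, true), (0, true), (0, true), (1, true), (0, false), (0, false), (1, false)], [(2, true)], []⟩,
    ⟨[(0, true), (0, true), (0, true), (0, true), (0, true)], [], [0, 0, 0, 0, 0, 0, 0, 0, 0, 0, 0, 0, 0, 0, 0, 0, 0, 0, 0, 0, 0, 0, 0, 0, 1]⟩,
    ⟨[(1, true), (1, true), (1, true)], [], [0, 0, 0, 0, 0, 0, 0, 0, 0, 0, 0, 0, 0, 0, 0, 0, 0, 0, 0, 0, 0, 0, 0, 0, 0, 1]⟩,
    ⟨[(0, true), (1, true), (0, true), (1, true), (0, true), (1, true), (0, true), (1, true), (0, true), (1, true)], [], [0, 0, 0, 0, 0, 0, 0, 0, 0, 0, 0, 0, 0, 0, 0, 0, 0, 0, 0, 0, 0, 0, 0, 0, 0, 0, 1]⟩,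
    ⟨[(0, true), (0, true), (1, false), (0, true), (0, true), (1, false), (0, true), (0, true), (1, false), (0, true), (0, true), (1, false)], [], [0, 0, 0, 0, 0, 0, 0, 0, 0, 0, 0, 0, 0, 0, 0, 0, 0, 0, 0, 0, 0, 0, 0, 0, 0, 0, 0, 1]⟩,
    ⟨[(1, true), (1, true), (0, true), (0, true), (1, true), (0, true), (1, false), (0, true), (1, true), (0, false), (1, false), (0, false), (1, true), (0, false), (1, true), (0, true), (1, true), (0, false), (1, false), (0, false), (1, true), (0, true), (0, true), (1, true), (0, false), (0, false), (0, false), (0, false)], [], [0, 0, 0, 0, 0, 0, 0, 0, 0, 0, 0, 0, 0, 0, 0, 0, 0, 0, 0, 0, 0, 0, 0, 0, 0, 0, 0, 0, 1]⟩,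
    ⟨[(0, true), (0, true), (1, true), (0, false), (1, false), (0, true), (1, true), (1, true), (0, true), (1, false), (0, false), (1, true), (0, false), (0, false), (1, true), (0, true)], [], [0, 0, 0, 0, 0, 0, 0, 0, 0, 0, 0, 0, 0, 0, 0, 0, 0, 0, 0, 0, 0, 0, 0, 0, 0, 0, 0, 0, 0, 1]⟩]
  pot g := pot2.getK g
  innerSize := 972
  innerGen := 3

/-- the table with its checks -/
def level2 : CfsgLib.Sporadic.ChainLevel where
  table := table2
  gexp := [[(-3), 6], [(-2), 2]]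
  perm := [0x896206b1d88760a7b9ed83d5368e0b6f5a28861f6fdaa839c776dc881dde6a5f67ee11705f985db0851d67a5c56ca1c841c2869b8546066f1cc825ea7659f79d50669a16c5e188da5859b96e9af79a1869a1e6659d7ade0561be7b1ab891cd85604755d46722273a1977dcb6820d7ddc657a0c75de87e2127ea0884e05769bb57dc378d9e6b5b672955535b474e036615d566027fd4e53de4795fe6d5dd6a15a69d52805f3801fc741c4571567454c749b765d7d60991471925e56c5998b5c91d5251e5b5254ad714b9405bd68581656116e4dd954e9785e9945cd635ed4364d836591f4618f5fd224b11a589424d9354cd24519414b58e7d5f486dae701dc6914b6cdc973d547c1ef7f5f156de255df266d61605345913f6417461d7c621894a98a5ad1b5dd394813c619305f92f4c517459195a93d63185511764514544d295a57059d284557551d325293b49d4848d8d4f980499214e0ed410ff294e726102374fe3a8db3ccde2c1103f4be2d4bc3f112381112bce1280993a0bb4310f438f43d8a73d49f3a5053b0ae428ba26cfb2709d2a49e2c495398c13c4a43108a0ccce10cca0d0280d835344561707236881124651dc0a0c43025cf8390df404f23c0ef38cc342cf940ca62590d4188f28892388aa308b2244ab2b4eb240ee2dca1300c52f4b6394f72d0fa400b841cdc420b3268bf2e4ac24d09250a32a08e1b8533645433cc9184550a4250c82434c7e32c7d1207009c40104d635c2608ccc3208d088521c4d83405b1bc7821c42188c61a84b080120742b04c2d0f44e064c717c2e06085168460305700c891445008410160011e83919ccd1143a2208c01c7f0343f1d86b1b00f20002110742108b3543e2184c0ec1c1646907cd41b40b18c15024731803c13c111d40e0b0640502a0bc7c11c1e1744a178171ec660180420c6806882348160e03706c081347901400,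 0x896217a60b831ee802236e5b485602815b76adbc791aa78959812108220e7b62474d53762068820f7b1c586a03751d975db87a952875e568dd5575ac871c8799fc661ba862077ae19835c4879e879d9a6da1b681cf6a5e370d996ce178260187ddb745bf689da889bb7fdd084e16829bd7f9b567da8559c6845fd6fa12679a757ddf541ce571a67edcb7bdfa551f56c5f6775c1561de555b27715b545f455df0695a4569f87dde053db06b54c7c5f36b99b65d824d943505844b9715b94a641926458f60d654896c5d58c48d7a599804816b4d5816399658d3764d2d5a97f4916d635694e98a5251a5218546d304bd7c4c514511385a132759c7685d2851f97094d7015e675ca735f2785cc7254e6bd4b6717b5c97e4952c65579509945dd6f5e17658162485404753c4fd454d17d4553d621614658b4f92b5191e5cd874cd2647d296252844d7451d1845d1c5c18659d2a4e56449d164ecea43cfe304ec3ecbe27cb54250e434de2c5123f49c3f1063fcf2278b241cdf3e8e72690c3109d3a1102a0f1380e63a5083950430cc52bcad2d8ae244e32b0903e50029cb32a8893687635c5c164440cc5816c8831c65360630b01114c841784f3ccbd3b4e1444f42a4f63d50a280dd42cdc26ceb2f0982e101298bb3e0923b8c223c97290f02e905294bf2ad02264b02e503300a22589424c9536cb72d0f7284e4388ef28c8e228770c834364781d4d61142e0b4cb204800d4ce0c4d4328491ccd011ccd190480bc740c0d10ac361682a1fcc915cd5118c61f88704c670a01417ccf1f4861c0271a01b03c12154261a80312c8319854128060901c03872230621087c158850286f22c3e0f407184180303a0780d1ac8d0a43f174091e4c8140821000834c3b1b44e130510880b180390580507c4d348520043805c1d05421330431ec411a47a1b82008c101c46c008250dc190683c01000]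
  pinv := [0x895db7b5d485e24859e488600575fd749e681deb7660570dc6829ff87613739ca86a207ddc483dfa709d86d1b068da16bdaa545a082dc5821c77360c57d5e6894c5415354a1f879dd785f680dc87cde76adac6f54e7b9e07460e6a15a845c17d6227260475dd66d59966d9f555d3769f8741b955a10849cc8099e6f9fe8255b855de865f9701e97a9fc661ba6a5b655e017be067a15c6ee2377214835a7695e57b15986e187c1cf7d1bc789d552df178db365d715f1785cd92651455b9604612d6393e5014150d374b17f5c995525165b535659425d5796457a4ed2a481445dd8d6192460d7e625904f52f4958248d8f601475d969529816fdcb6c99d53da66c5df5359c6e154871a47edf26b5ae6dd9a5611d62d1a47d634a12b5d16858984519174b9384717b4e9135f567599485951e4cd364d1855856b61d3f4992246d15621644656c451395c18a631934f16a4c16f4c9314852949cfe3f1043d0f32d8f52ece92489926cb53b1112e50c3049d4410a40cff3989e2e8c4280f13bcf241cc0374bf2f8a8448eb2a9093b4f7438df284c32f4b13e8fd3090642c9a420cd22c6e1dc780cc2a204093446d224d8118741fcd62207316866290db2f0af378a52590228d003d8e82549c29ca24049f260ae385053ecea2ac942b0b038c8f3c0b843cdc240b3298f93b8e2390e539c973e10d314b73809124cb22b4a92d08e1c8420d0da140431a431158350340a33039100801f818044490086a3243d07c36090ce1bc7c1ac8d0a43b0f0650b00c11c103281c09c6721c2316413054cf1b0550b44b148d02188a2307013c4e0845c00c301901432c7d05c541143735c681e47a0f832174220bc4412007018d3348d53648331cc6064581781d1801a214d41ec76210821d471134630ac161842e0140b16c57048080981b17c620804c0e81e0fc530a0c8094041040f0040e1443812800,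 0x8960c879d389207765e97edf5792037b1ef771ce86d5b73dc27161081a0e7ae21889cd76e0f7ba088661180a1a76a1f745cb711f26e5b6569a2685b26d1a86695266da66de20836057b5fd88de879df37ea1578213545a06f9ae6c5ab761d4802097fd5f7e20182d5c75dd0789bc54d506e15453df4579c6811ea77d596c157759c373216749f0875fe861e572a1c775ac6cd9e53599675f685e14785c8701ba695a47e5d5575e3725c15554b661e6779f165d7a515425dd8c62d8d6297b5c5844b96e48d314a11a5a992625965f1805d1484d166529825113f5053e615204a5496411b5018f5c9865f9755c16146581621165e53c4c13d6fd567ddbb6a9a3849af69dc76b5b5829fc6a5bd67d4e5619c5318e5b56b47d2b4d9636514364d3a4dd2d4c93844d6f45d625e1955f53549d605956859d915d9464b118491224552651d7360d874ed7f4952a4e51c5a56c4bd1e475144cd6448504304f24450841cf62e4bc424ec3ed00298ea278a22c8de3fd1040d01434f937caf250be2f4c0314fe3c0a8240ad30d0e2d9123b4f33e0ee3ac9238891308ef3e9062e8b825cd9224cd35c861a07c0a41b1c0781787e1d8132087b1a82e33c663a0f53a4ac43c9d2910c310b52c0a727cb3258e542895370fc414a039ce4398e128cdb2fcf1374b1294a923c9c24cbb42cfd3d1022dcf7284b42a89b2609a264ae38ce02ac8e0d0470fc8d368d01905c108c81402c204801ac65174440440e0bc88230d821c721e4480245b1000d09c080d45303c591884f33875330460ec2117cc70c4d63446d354d21a4431544e3241a0902d31826070251444d1e8741dc67214d4048450402b0c83e0f4020a038080180146e1fc8a34c8b1f4711cc8420ccb1bc6c0cc61168540184b02c230500c074370584a160030103a05c1f0546018c563280a15c490d839088410c02a0f04c078011480706400]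
  defs := [[(0, true), (0, true), (1, false)], [(0, true), (1, true), (0, true), (1, true), (0, false), (1, false), (0, false)], [(1, true), (0, true), (0, true), (1, true), (0, false), (0, false), (1, false)]]
  eqs := [(4, 6, [0, 0, 0, 0, 0, 0, 1, 0, 0, 0, 0, 0, 0, 0, 0, 0, 0, 0, 0, 0, 0, 0, 0, 0, 0, (-1)]), (4, 8, [0, 0, 0, 0, 0, 0, 0, 1, 0, 0, 0, 0, 0, 0, 0, 0, 0, 0, 0, 0, 0, 0, 0, 0, 0, (-1)]), (6, 0, [0, 0, 0, 0, 0, 0, 0, 0, 1, 0, 0, 0, 0, 0, 0, 0, 0, 0, 0, 0, 0, 0, 0, 0, 0, 0, 0, (-1)]), (4, 26, [0, 0, 5, (-6), 0, (-2), 0, 2, (-2), 3, 1, 15, 2, 3, (-2), 1]), (6, 20, [(-1), (-4), 4, (-3), 3, (-3), 4, 4, 1, 2, (-1), 12, (-2), 5, (-2), (-4)]), (6, 15, [1, 2, (-6), 7, 0, 1, 2, (-3), 9, (-1), (-2), (-16), (-6), (-8), 3, (-2)]), (7, 21, [(-9), (-23), (-10), 18, 17, 5, 4, (-2), 3, 0, 7, (-1), 1, (-3), 3, (-6), 0, 0, 0, 0, 0, 0, 0, 0, 6, 0, 0, (-3), (-2), (-2)]), (6, 3, [(-6), (-23), 12, 5, 31, (-9), (-1), 3, 0, (-3),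 9, 20, 8, 7, 3, 0, 0, 0, 0, 0, 0, 0, 0, 0, 3, 2, (-1), (-1), 0, (-2)]), (8, 1, [(-1), 3, 9, (-11), (-6), (-5), 10, 6, (-10), 4, 9, 27, 3, 16, 0, (-12), 0, 0, 0, 0, 0, 0, 0, 0, 1, (-7), 4, (-1), (-4), (-1)]), (7, 1, [(-5), (-18), 11, (-4), 18, (-3), (-15), 2, 0, 5, 3, 32, 18, 0, (-4), 18, 0, 0, 0, 0, 0, 0, 0, 0, (-1), 11, (-3), 1, 1, (-2)]), (6, 13, [(-7), (-40), (-13), 30, 45, 1, 0, (-5), 18, (-11), 6, (-19), (-7), (-13), 13, (-3), 0, 0, 0, 0, 0, 0, 0, 0, 3, 2, (-1), (-1), 0, (-2)]), (6, 23, [(-6), 38, 44, 9, 6, (-28), (-20), (-3), (-5), (-9), (-12), 4, 28, 4, (-3), 26, 0, 0, 0, 0, 0, 0, 0, 0, 3, 9, (-4), (-1), 4, (-3)]), (7, 16, [11, 67, 4, (-7), (-54), (-7), 14, 1, 2, (-7), (-25), (-21), (-17), 3, (-2), (-15), 0, 0, 0, 0, 0, 0, 0, 0, (-5), (-4), 2, 1, 2, 3])]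
  pts := [146]

end CfsgLib.Sporadic.MultTwoMcl
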