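import Mathlib
import Cfsg.Agent.Lib.Sporadic.ChainCertificate
import Cfsg.Agent.Lib.Schur.TrieFast

/-!
# Coset table 4 of a chain
-/

set_option autoImplicit false
set_option maxRecDepth 100000
set_option maxHeartbeats 0
set_option Elab.async false

noncomputable section

namespace CfsgLib.Sporadic.MultTwoMcl

open CfsgLib.Schur.Cert

/-- data -/
def next4 : Trie (ℕ) := .node (.node (.node (.node (.node (.node (.node (.node (.leaf 1) (.leaf 21)) (.leaf 6)) (.node (.leaf 4) (.leaf 20))) (.node (.node (.leaf 1) (.leaf 10)) (.node (.leaf 3) (.leaf 10)))) (.node (.node (.node (.leaf 8) (.leaf 11)) (.node (.leaf 12) (.leaf 21))) (.node (.node (.leaf 15) (.leaf 22)) (.node (.leaf 23) (.leaf 7))))) (.node (.node (.node (.node (.node (.leaf 5) (.leaf 13)) (.leaf 25)) (.node (.leaf 19) (.leaf 6))) (.node (.node (.leaf 8) (.leaf 18)) (.node (.leaf 22) (.leaf 4)))) (.node (.node (.node (.leaf 8) (.leaf 16)) (.node (.leaf 20) (.leaf 13)))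 (.node (.node (.leaf 12) (.leaf 23)) (.node (.leaf 4) (.leaf 3)))))) (.node (.node (.node (.node (.node (.node (.leaf 3) (.leaf 23)) (.leaf 25)) (.node (.leaf 2) (.leaf 2))) (.node (.node (.leaf 14) (.leaf 5)) (.node (.leaf 17) (.leaf 23)))) (.node (.node (.node (.leaf 9) (.leaf 19)) (.node (.leaf 2) (.leaf 13))) (.node (.node (.leaf 12) (.leaf 24)) (.node (.leaf 19) (.leaf 25))))) (.node (.node (.node (.node (.node (.leaf 6) (.leaf 22)) (.leaf 25)) (.node (.leaf 0) (.leaf 9))) (.node (.node (.leaf 6) (.leaf 14)) (.node (.leaf 24) (.leaf 20)))) (.node (.node (.node (.leaf 12) (.leaf 16)) (.node (.leaf 18) (.leaf 26))) (.node (.node (.leaf 15) (.leaf 11)) (.node (.leaf 12) (.leaf 21))))))) (.node (.node (.node (.node (.node (.node (.node (.leaf 2) (.leaf 14)) (.leaf 11)) (.node (.leaf 17) (.leaf 17))) (.node (.node (.leaf 0) (.leaf 26)) (.node (.leaf 4) (.leaf 6)))) (.node (.node (.node (.leaf 0) (.leaf 9)) (.node (.leaf 17) (.leaf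 2))) (.node (.node (.leaf 0) (.leaf 7)) (.node (.leaf 14) (.leaf 5))))) (.node (.node (.node (.node (.node (.leaf 5) (.leaf 15)) (.leaf 17)) (.node (.leaf 1) (.leaf 7))) (.node (.node (.leaf 11) (.leaf 16)) (.node (.leaf 23) (.leaf 18)))) (.node (.node (.node (.leaf 11) (.leaf 15)) (.node (.leaf 21) (.leaf 8))) (.node (.node (.leaf 1) (.leaf 1)) (.node (.leaf 24) (.leaf 19)))))) (.node (.node (.node (.node (.node (.node (.leaf 4) (.leaf 15)) (.leaf 26)) (.node (.leaf 18) (.leaf 25))) (.node (.node (.leaf 10) (.leaf 26)) (.node (.leaf 0) (.leaf 22)))) (.node (.node (.node (.leaf 10) (.leaf 20)) (.node (.leaf 18) (.leaf 21))) (.node (.node (.leaf 16) (.leaf 22)) (.node (.leaf 16) (.leaf 5))))) (.node (.node (.node (.node (.leaf 7) (.leaf 8)) (.node (.leaf 13) (.leaf 10))) (.node (.node (.leaf 7) (.leaf 19)) (.node (.leaf 3) (.leaf 26)))) (.node (.node (.node (.leaf 13) (.leaf 9)) (.node (.leaf 20) (.leaf 9))) (.node (.node (.leaf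 3) (.leaf 14)) (.node (.leaf 24) (.leaf 24)))))))

/-- data -/
def prev4 : Trie (ℕ) := .node (.node (.node (.node (.node (.node (.node (.node (.leaf 5) (.leaf 13)) (.leaf 2)) (.node (.leaf 4) (.leaf 7))) (.node (.node (.leaf 6) (.leaf 17)) (.node (.leaf 14) (.leaf 10)))) (.node (.node (.node (.leaf 18) (.leaf 11)) (.node (.leaf 4) (.leaf 8))) (.node (.node (.leaf 9) (.leaf 6)) (.node (.leaf 4) (.leaf 18))))) (.node (.node (.node (.node (.node (.leaf 1) (.leaf 13)) (.leaf 21)) (.node (.leaf 20) (.leaf 15))) (.node (.node (.leaf 12) (.leaf 11)) (.node (.leaf 22) (.leaf 11)))) (.node (.node (.node (.leaf 8) (.leaf 26)) (.node (.leaf 21) (.leaf 25))) (.node (.node (.leaf 24) (.leaf 23)) (.node (.leaf 8) (.leaf 10)))))) (.node (.node (.node (.node (.node (.node (.leaf 3) (.leaf 22)) (.leaf 21)) (.node (.leaf 12) (.leaf 11))) (.node (.node (.leaf 9) (.leaf 5)) (.node (.leaf 16) (.leaf 26)))) (.node (.node (.node (.leaf 21) (.leaf 25))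 (.node (.leaf 2) (.leaf 25))) (.node (.node (.leaf 24) (.leaf 7)) (.node (.leaf 2) (.leaf 25))))) (.node (.node (.node (.node (.node (.leaf 3) (.leaf 23)) (.leaf 19)) (.node (.leaf 4) (.leaf 9))) (.node (.node (.leaf 6) (.leaf 8)) (.node (.leaf 3) (.leaf 10)))) (.node (.node (.node (.leaf 6) (.leaf 26)) (.node (.leaf 22) (.leaf 23))) (.node (.node (.leaf 20) (.leaf 16)) (.node (.leaf 12) (.leaf 13))))))) (.node (.node (.node (.node (.node (.node (.node (.leaf 10) (.leaf 19)) (.leaf 3)) (.node (.leaf 22) (.leaf 17))) (.node (.node (.leaf 0) (.leaf 15)) (.node (.leaf 15) (.leaf 17)))) (.node (.node (.node (.leaf 5) (.leaf 3)) (.node (.leaf 14) (.leaf 9))) (.node (.node (.leaf 1) (.leaf 13)) (.node (.leaf 14) (.leaf 12))))) (.node (.node (.node (.node (.node (.leaf 0) (.leaf 16)) (.leaf 7)) (.node (.leaf 1) (.leaf 19))) (.node (.node (.leaf 23) (.leaf 10)) (.node (.leaf 20) (.leaf 18)))) (.node (.node (.node (.leaf 19) (.leaf 15))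 (.node (.leaf 2) (.leaf 20))) (.node (.node (.leaf 0) (.leaf 8)) (.node (.leaf 5) (.leaf 14)))))) (.node (.node (.node (.node (.node (.node (.leaf 7) (.leaf 16)) (.leaf 26)) (.node (.leaf 24) (.leaf 14))) (.node (.node (.leaf 24) (.leaf 15)) (.node (.leaf 2) (.leaf 26)))) (.node (.node (.node (.leaf 0) (.leaf 6)) (.node (.leaf 1) (.leaf 21))) (.node (.node (.leaf 16) (.leaf 9)) (.node (.leaf 18) (.leaf 12))))) (.node (.node (.node (.node (.leaf 7) (.leaf 17)) (.node (.leaf 17) (.leaf 23))) (.node (.node (.leaf 0) (.leaf 19)) (.node (.leaf 13) (.leaf 22)))) (.node (.node (.node (.leaf 11) (.leaf 4)) (.node (.leaf 20) (.leaf 18))) (.node (.node (.leaf 1) (.leaf 25)) (.node (.leaf 5) (.leaf 24)))))))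

/-- data -/
def lab4 : Trie (Word) := .node (.node (.node (.node (.node (.node (.node (.node (.leaf ([])) (.leaf ([(2, true)]))) (.leaf ([(0, false)]))) (.node (.leaf ([(1, true), (2, true), (1, true)])) (.leaf ([(1, true), (2, true), (1, true), (0, false)])))) (.node (.node (.leaf ([(1, true)])) (.leaf ([(1, true), (0, false)]))) (.node (.leaf ([(1, true), (2, true), (1, true)])) (.leaf ([]))))) (.node (.node (.node (.leaf ([])) (.leaf ([(1, true), (2, true)]))) (.node (.leaf ([(1, true), (2, true), (0, false)])) (.leaf ([(1, true), (2, true), (0, false)])))) (.node (.node (.leaf ([])) (.leaf ([(2, true)]))) (.node (.leaf ([])) (.leaf ([(1, true), (0, false)])))))) (.node (.node (.node (.node (.node (.leaf ([])) (.leaf ([]))) (.leaf ([(2, true), (1, true)]))) (.node (.leaf ([])) (.leaf ([(1, true), (2, true), (0, true)])))) (.node (.node (.leaf ([])) (.leaf ([]))) (.node (.leaf ([])) (.leaf ([]))))) (.node (.node (.node (.leaf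 ([(1, true), (2, true), (1, true)])) (.leaf ([(1, true), (2, true), (1, true), (0, true)]))) (.node (.leaf ([])) (.leaf ([(1, true), (2, true), (1, true)])))) (.node (.node (.leaf ([(1, true), (2, true)])) (.leaf ([(2, true), (1, true)]))) (.node (.leaf ([(2, true), (1, true), (0, true)])) (.leaf ([(1, true), (0, true)]))))))) (.node (.node (.node (.node (.node (.node (.leaf ([])) (.leaf ([(2, true), (1, true)]))) (.leaf ([]))) (.node (.leaf ([(0, true)])) (.leaf ([(2, true)])))) (.node (.node (.leaf ([])) (.leaf ([]))) (.node (.leaf ([(2, true), (1, true)])) (.leaf ([(1, true), (2, true), (1, true), (0, true)]))))) (.node (.node (.node (.leaf ([])) (.leaf ([(2, true), (1, true), (0, false)]))) (.node (.leaf ([(1, true), (2, true), (1, true)])) (.leaf ([(1, true)])))) (.node (.node (.leaf ([])) (.leaf ([(1, true), (0, false)]))) (.node (.leaf ([(2, true)])) (.leaf ([(0, true)])))))) (.node (.node (.node (.node (.node (.leaf ([]))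 (.leaf ([(1, true), (0, false)]))) (.leaf ([(2, true), (1, true)]))) (.node (.leaf ([(2, true)])) (.leaf ([(1, true), (2, true), (1, true), (0, false)])))) (.node (.node (.leaf ([(1, true), (2, true), (1, true)])) (.leaf ([(1, true)]))) (.node (.leaf ([])) (.leaf ([(1, true), (2, true), (0, false)]))))) (.node (.node (.node (.leaf ([])) (.leaf ([(2, true), (0, true)]))) (.node (.leaf ([(1, true)])) (.leaf ([(1, true)])))) (.node (.node (.leaf ([(2, true), (1, true), (0, false)])) (.leaf ([(1, true), (2, true), (1, true), (0, true)]))) (.node (.leaf ([(1, true), (0, true)])) (.leaf ([(1, true)])))))))) (.node (.node (.node (.node (.node (.node (.node (.leaf ([])) (.leaf ([(1, true), (2, true), (0, false)]))) (.leaf ([(1, true), (2, true), (1, true)]))) (.node (.leaf ([])) (.leaf ([(2, true), (1, true)])))) (.node (.node (.leaf ([])) (.leaf ([(1, true), (0, false)]))) (.node (.leaf ([(2, true), (1, true), (0, true)])) (.leaf ([(2,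 true)]))))) (.node (.node (.node (.leaf ([(0, true)])) (.leaf ([(1, true), (2, true), (1, true)]))) (.node (.leaf ([])) (.leaf ([])))) (.node (.node (.leaf ([(0, true)])) (.leaf ([(1, true), (2, true), (1, true), (0, false)]))) (.node (.leaf ([(2, true), (1, true)])) (.leaf ([])))))) (.node (.node (.node (.node (.node (.leaf ([(0, false)])) (.leaf ([(0, false)]))) (.leaf ([(1, true), (2, true), (1, true), (0, true)]))) (.node (.leaf ([])) (.leaf ([(1, true), (2, true), (1, true), (0, false)])))) (.node (.node (.leaf ([])) (.leaf ([(1, true), (2, true), (1, true), (0, false)]))) (.node (.leaf ([])) (.leaf ([(1, true), (2, true)]))))) (.node (.node (.node (.leaf ([])) (.leaf ([(2, true), (0, true)]))) (.node (.leaf ([])) (.leaf ([(2, true), (1, true), (0, true)])))) (.node (.node (.leaf ([(0, false)])) (.leaf ([(2, true)]))) (.node (.leaf ([])) (.leaf ([]))))))) (.node (.node (.node (.node (.node (.node (.leaf ([])) (.leaf ([(2,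 true), (1, true), (0, false)]))) (.leaf ([]))) (.node (.leaf ([])) (.leaf ([(0, false)])))) (.node (.node (.leaf ([(1, true), (0, true)])) (.leaf ([(2, true), (0, false)]))) (.node (.leaf ([])) (.leaf ([(1, true), (2, true), (1, true)]))))) (.node (.node (.node (.leaf ([])) (.leaf ([]))) (.node (.leaf ([(2, true)])) (.leaf ([(1, true)])))) (.node (.node (.leaf ([])) (.leaf ([]))) (.node (.leaf ([(1, true), (2, true), (1, true), (0, true)])) (.leaf ([(1, true), (2, true)])))))) (.node (.node (.node (.node (.leaf ([])) (.leaf ([(1, true)]))) (.node (.leaf ([(0, false)])) (.leaf ([(2, true), (1, true), (0, true)])))) (.node (.node (.leaf ([(2, true)])) (.leaf ([(1, true), (2, true)]))) (.node (.leaf ([(1, true), (2, true), (1, true)])) (.leaf ([(1, true), (2, true), (0, true)]))))) (.node (.node (.node (.leaf ([])) (.leaf ([(1, true), (2, true), (0, false)]))) (.node (.leaf ([(1, true), (2, true), (1, true), (0, false)])) (.leaf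 ([(1, true)])))) (.node (.node (.leaf ([(1, true)])) (.leaf ([(1, true), (2, true)]))) (.node (.leaf ([(1, true), (2, true)])) (.leaf ([(0, false)]))))))))

/-- data -/
def val4 : Trie (Vec) := .node (.node (.node (.node (.node (.node (.node (.node (.leaf ([])) (.leaf ([0, 4, 3, (-1), (-1), (-2), 2, 0, (-1), 1, 1, 2, 0, 1, 0, (-3)]))) (.leaf ([0, 0, 0, 0, 0, 0, 0, 0, 0, 1, 0, 2]))) (.node (.leaf ([0, (-3), (-6), 5, 1, 2, 2, (-1), 5, (-1), (-1), (-9), (-3), (-4), 2, (-3)])) (.leaf ([0, 0, 5, (-4), 0, (-2), (-2), 2, (-4), 1, 2, 10, 3, 4, (-3), 3])))) (.node (.node (.leaf ([])) (.leaf ([1, 3, 0, (-1), (-3), 0, 2, (-1), 0, 1, 0, (-1), 0, 0, 0, (-2)]))) (.node (.leaf ([0, 3, (-1), 3, (-2), 0, (-2), (-1), 2, (-1), (-1), (-7), 2, (-4), 1, 3])) (.leaf ([0, 0, 0, 0, 0, 0, 0, 0, 1]))))) (.node (.node (.node (.leaf ([])) (.leaf ([0, (-4), 3, (-4), 3, (-1), 0, 1, (-5), 0, 1, 4, 0, 6, (-2)]))) (.node (.leaf ([0, 0, 1, (-1), (-1), 0, (-1),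 0, (-2), 0, 1, 1, 0, 1, (-1), 2])) (.leaf ([(-1), 2, 6, 1, 3, (-4), (-1), 0, (-3), (-1), 1, 4, 1, 3, 0, 1])))) (.node (.node (.leaf ([])) (.leaf ([0, (-4), (-7), 5, 2, 3, 2, (-2), 4, (-1), (-1), (-10), (-3), (-5), 3, (-3)]))) (.node (.leaf ([0, 0, 0, 0, 0, 0, 0, 0, 0, 0, (-1)])) (.leaf ([0, (-1), 0, (-1), 0, 0, 0, 1, 0, 1, 0, 4, 0, 0, 0, 1])))))) (.node (.node (.node (.node (.node (.leaf ([])) (.leaf ([0, 0, 0, 0, 0, 0, 0, 0, 1]))) (.leaf ([0, 2, (-11), 10, (-3), 4, 2, (-4), 11, (-1), 0, (-16), (-3), (-12), 5, (-3)]))) (.node (.leaf ([])) (.leaf ([(-2), (-8), 11, (-6), 10, (-6), 2, 4, (-7), 1, 4, 24, 2, 11, (-2), (-3)])))) (.node (.node (.leaf ([0, 0, 0, 0, 0, 0, 0, 0, 0, 0, 0, 0, (-1)])) (.leaf ([0, 0, (-1), 0, 0, 0, 0, 0, 1, 0, 0, 0, (-1), 0, 1]))) (.node (.leaf ([])) (.leaf ([0, 0, 0, 0, 0, 0, 0, 1, 0, 0, (-1)]))))) (.node (.node (.node (.leaf ([0, (-2), (-6), 4, 0, 2, 2, (-1), 4, (-1), (-1), (-10), (-3), (-3), 2, (-3)]))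 (.leaf ([0, 3, (-2), 3, (-2), 0, 0, (-1), 3, (-1), (-2), (-8), 0, (-4), 2]))) (.node (.leaf ([])) (.leaf ([0, 3, (-1), 3, (-2), 0, (-2), (-1), 2, (-1), (-1), (-7), 3, (-4), 1, 3])))) (.node (.node (.leaf ([0, (-1), 0, (-1), 0, 0, 0, 0, (-1), 0, 1, 1, 0, 1])) (.leaf ([0, 0, 0, 1, 0, 0, 0, (-1), 0, 0, 0, (-1), 1, 0, (-1)]))) (.node (.leaf ([0, 0, (-2), 1, 0, 0, 2, 0, 2, 0, (-1), (-1), (-2), (-1), 1, (-2)])) (.leaf ([0, (-1), 0, (-1), 0, 0, 0, 1, 0, 1, 0, 4]))))))) (.node (.node (.node (.node (.node (.node (.leaf ([])) (.leaf ([3, 6, (-18), 22, 3, 2, 13, (-9), 21, (-9), (-6), (-43), (-14), (-18), 14, (-18)]))) (.leaf ([]))) (.node (.leaf ([0, 0, 0, 0, 0, 0, 0, 0, 0, 0, 0, 1])) (.leaf ([0, 0, 0, 0, 0, 0, 0, 0, 0, 0, 1])))) (.node (.node (.leaf ([])) (.leaf ([0, 0, 0, 0, 0, 0, 0, 0, 1]))) (.node (.leaf ([0, 1, 6, (-6), (-1), (-2), (-4), 2, (-5), 2, 1, 10, 4, 4, (-4), 6])) (.leaf ([0, 9, 2, 6, (-1), (-4), 0, (-2), 4, (-4), (-3), (-12),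 0, (-3), 3]))))) (.node (.node (.node (.leaf ([])) (.leaf ([0, (-2), (-6), 5, 1, 2, 2, (-2), 4, (-1), 0, (-8), (-3), (-4), 3, (-3)]))) (.node (.leaf ([0, (-5), 1, (-3), 2, 0, 0, 1, (-3), 0, 1, 7, 0, 4, (-1)])) (.leaf ([2, (-2), (-11), 2, (-5), 6, 0, (-1), 6, 0, (-3), (-15), (-3), (-7), 2])))) (.node (.node (.leaf ([0, 0, 0, 0, 0, 0, 0, 0, 0, 0, 0, (-1)])) (.leaf ([0, 0, 0, 2, 0, 0, 1, (-1), 0, (-1), 0, (-4), 0, 0, 0, (-1)]))) (.node (.leaf ([0, 2, 3, (-4), (-2), (-1), (-2), 1, (-3), 1, 2, 6, 3, 2, (-1), 3])) (.leaf ([(-1), 10, 11, (-8), (-8), (-4), (-7), 3, (-6), 3, 3, 15, 10, 5, (-5), 10])))))) (.node (.node (.node (.node (.node (.leaf ([])) (.leaf ([4, 18, 2, 2, (-9), (-4), 5, (-3), 4, (-3), (-3), (-16), (-1), (-3), 4, (-7)]))) (.leaf ([(-2), (-2), 8, (-6), 1, (-2), (-8), 2, (-7), 2, 3, 11, 8, 5, (-5), 12]))) (.node (.leaf ([])) (.leaf ([0, (-1), 16, (-15), 1, (-6), (-4), 5, (-13), 4, 4, 31, 10, 14, (-7), 6])))) (.node (.node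 (.leaf ([0, 1, 5, (-5), (-1), (-2), (-2), 1, (-4), 1, 1, 9, 3, 4, (-2), 3])) (.leaf ([0, (-1), 0, 0, 0, 0, 0, 1, 0, 0, (-1)]))) (.node (.leaf ([])) (.leaf ([0, (-15), (-19), 6, 2, 10, 6, (-1), 8, 1, 0, (-11), (-12), (-7), 4, (-9)]))))) (.node (.node (.node (.leaf ([])) (.leaf ([0, 2, 3, (-4), (-2), (-1), (-2), 1, (-4), 0, 0, 6, 3, 3, (-1), 3]))) (.node (.leaf ([0, 0, (-12), 11, (-1), 4, 2, (-3), 11, (-3), (-3), (-22), (-5), (-11), 6, (-3)])) (.leaf ([(-1), 17, 23, (-13), (-9), (-10), (-10), 5, (-14), 2, 0, 19, 14, 12, (-8), 15])))) (.node (.node (.leaf ([0, (-5), (-9), 10, 5, 2, 5, (-2), 9, (-3), (-1), (-15), (-6), (-7), 5, (-7)])) (.leaf ([0, (-4), 2, (-4), 1, 0, 0, 1, (-4), 2, 1, 7, 1, 4, (-3)]))) (.node (.leaf ([0, 2, (-1), 2, (-1), 0, 0, (-1), 2, (-1), 0, (-6), 0, (-2), 1])) (.leaf ([0, 4, 11, (-5), 2, (-6), 0, 2, (-6), 0, 3, 12, 3, 7, (-2)])))))))) (.node (.node (.node (.node (.node (.node (.node (.leaf ([])) (.leaf ([1,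 (-4), (-14), 13, 4, 4, 7, (-4), 12, (-3), (-3), (-20), (-10), (-11), 7, (-10)]))) (.leaf ([0, (-5), 0, (-3), 2, 0, 3, 1, (-2), 1, 1, 7, (-1), 4, (-1), (-3)]))) (.node (.leaf ([])) (.leaf ([0, (-3), 1, (-3), 1, 0, 0, 1, (-1), 2, 1, 8, 0, 2, (-2)])))) (.node (.node (.leaf ([0, 0, 0, 0, 0, 0, 0, 0, 1])) (.leaf ([(-2), (-29), (-3), (-14), 8, 8, (-5), 6, (-11), 9, 6, 34, 1, 10, (-9), 7]))) (.node (.leaf ([0, (-3), (-10), 7, 0, 4, 2, (-2), 7, (-1), (-1), (-16), (-4), (-7), 3, (-3)])) (.leaf ([0, 0, 7, (-9), (-1), (-2), (-4), 3, (-7), 2, 4, 16, 3, 7, (-4), 6]))))) (.node (.node (.node (.leaf ([])) (.leaf ([0, (-3), 4, (-7), 0, (-1), 0, 2, (-5), 2, 4, 13, 4, 6, (-2)]))) (.node (.leaf ([0, 0, 0, 0, 0, 0, 0, 0, 0, 0, (-1)])) (.leaf ([0, 0, 0, 0, 0, 0, 1])))) (.node (.node (.leaf ([0, 0, (-1), 0, 0, 0, 2, 0, 1, 0, 0, 0, (-1), 0, 1, (-2)])) (.leaf ([0, (-3), (-6), 5, 1, 2, 2, (-1), 4, (-1), (-1), (-9), (-3), (-4), 3, (-3)]))) (.node (.leaf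 ([0, 3, (-1), 4, 0, (-1), 0, (-1), 3, (-2), (-1), (-7), 0, (-3), 2])) (.leaf ([0, 0, 0, 0, 0, 0, 0, 1, 0, 0, 0, (-1)])))))) (.node (.node (.node (.node (.node (.leaf ([0, 0, 1, 0, 0, 0, (-1), 0, (-1), 0, 0, 0, 1, 0, (-1), 2])) (.leaf ([1, (-22), (-24), 14, 13, 10, 11, (-4), 16, (-3), 3, (-18), (-16), (-12), 9, (-16)]))) (.leaf ([1, (-4), (-14), 12, 4, 4, 7, (-5), 12, (-3), (-2), (-21), (-10), (-11), 7, (-10)]))) (.node (.leaf ([0, 0, 0, 0, 0, 0, 0, 0, 1])) (.leaf ([0, (-3), (-6), 5, 1, 2, 2, (-1), 4, (-1), (-2), (-10), (-3), (-4), 3, (-3)])))) (.node (.node (.leaf ([0, 0, 0, 0, 0, 0, 0, 0, 0, 0, (-1)])) (.leaf ([(-1), (-6), (-7), 8, 4, 2, 3, (-1), 5, (-3), (-1), (-9), (-4), (-4), 4, (-4)]))) (.node (.leaf ([])) (.leaf ([0, (-1), (-1), (-1), 0, 0, 0, 1, 1, 0, 0, 1, (-1), 0, 1]))))) (.node (.node (.node (.leaf ([])) (.leaf ([0, (-5), (-2), (-2), 2, 1, 2, 1, (-1), 0, 0, 6, (-3), 3, 0, (-3)]))) (.node (.leaf ([])) (.leaf ([1, 7,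 (-4), 2, (-7), 2, (-3), (-2), 3, 0, (-1), (-16), 2, (-6), 0, 5])))) (.node (.node (.leaf ([0, 0, 0, 0, 0, 0, 0, 0, 0, 1])) (.leaf ([0, 0, 0, 0, 0, 0, 0, 0, 0, 0, 0, 0, 1]))) (.node (.leaf ([0, 0, 0, 0, 0, 0, 0, 0, 0, 0, 0, (-1)])) (.leaf ([0, 6, 4, (-5), (-6), (-2), 3, 2, (-1), 3, 3, 11, 4, 3, (-1), (-3)]))))))) (.node (.node (.node (.node (.node (.node (.leaf ([])) (.leaf ([3, 26, 4, 10, (-8), (-8), 5, (-4), 8, (-8), (-7), (-29), (-1), (-6), 7, (-7)]))) (.leaf ([]))) (.node (.leaf ([])) (.leaf ([0, 0, 1, 0, 0, 0, (-3), 0, (-1), 0, 0, 1, 1, 0, (-1), 4])))) (.node (.node (.leaf ([0, 0, 0, 0, 0, 0, 0, (-1), 0, 0, 0, (-1)])) (.leaf ([(-2), (-2), 17, (-23), (-7), (-2), (-11), 8, (-21), 10, 6, 42, 13, 18, (-14), 16]))) (.node (.leaf ([0, 0, 0, 0, 0, 0, 0, 1])) (.leaf ([(-2), (-25), (-6), (-9), 6, 8, (-2), 4, (-7), 7, 6, 24, 0, 6, (-6), 3]))))) (.node (.node (.node (.leaf ([])) (.leaf ([0, 1, (-5), 4, (-1), 2, 0, (-2), 4, (-1), (-3),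 (-9), (-2), (-5), 2, 1]))) (.node (.leaf ([0, (-4), 0, (-4), 1, 1, (-2), 1, (-3), 1, 0, 6, (-1), 2, (-1), 3])) (.leaf ([(-1), (-9), (-2), 2, 7, 0, 4, 1, 2, (-1), 0, 6, (-3), 2, 2, (-6)])))) (.node (.node (.leaf ([])) (.leaf ([0, 0, (-7), 9, 1, 2, 4, (-3), 7, (-2), (-3), (-16), (-2), (-7), 4, (-6)]))) (.node (.leaf ([0, 3, (-2), 3, (-2), 0, 0, (-1), 3, (-1), (-1), (-7), 0, (-4), 2])) (.leaf ([0, (-1), 0, (-1), 0, 0, 0, 1, (-1), 0, 0, 1, 0, 1])))))) (.node (.node (.node (.node (.leaf ([])) (.leaf ([0, 0, 0, 0, 0, 0, 0, 0, 0, 0, (-1)]))) (.node (.leaf ([0, 0, 1, 0, 0, 0, (-3), 0, (-1), 0, 0, 0, 1, 0, (-1), 4])) (.leaf ([0, (-2), (-4), 4, 2, 1, 2, (-2), 4, (-1), 0, (-10), (-3), (-4), 3, (-3)])))) (.node (.node (.leaf ([0, 2, 3, (-4), (-2), (-1), (-2), 1, (-3), 1, 0, 6, 3, 2, (-1), 3])) (.leaf ([0, 2, (-2), 3, (-1), 0, 0, (-1), 2, (-2), (-1), (-8), 0, (-2), 2]))) (.node (.leaf ([0, 3, (-1), 3, (-2), 0, (-2), (-1), 2, (-1), (-1), (-7),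 1, (-4), 1, 3])) (.leaf ([(-3), (-28), (-5), (-10), 9, 8, (-5), 5, (-8), 8, 6, 28, 1, 6, (-7), 7]))))) (.node (.node (.node (.leaf ([])) (.leaf ([0, 3, 9, (-7), (-1), (-4), (-2), 2, (-7), 2, 1, 16, 4, 7, (-3), 3]))) (.node (.leaf ([0, (-2), (-8), 4, (-3), 4, 0, (-1), 5, 0, (-1), (-10), (-1), (-5), 1])) (.leaf ([0, 1, 11, (-12), (-2), (-4), (-2), 5, (-9), 3, 3, 23, 7, 11, (-5), 3])))) (.node (.node (.leaf ([0, (-1), 0, 0, 0, 0, 0, 1])) (.leaf ([0, 3, (-3), 7, 0, 0, 0, (-2), 5, (-2), (-3), (-13), (-3), (-6), 2]))) (.node (.leaf ([0, (-1), 0, (-1), 0, 0, 0, 0, (-1), 0, (-1), 1, 0, 1])) (.leaf ([1, (-1), 1, (-4), (-1), 0, 3, 1, (-2), 1, 0, 6, (-1), 4, (-1), (-4)]))))))))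

/-- data -/
def rank4 : Trie (ℕ) := .node (.node (.node (.node (.node (.node (.node (.node (.leaf 0) (.leaf 104)) (.leaf 24)) (.node (.leaf 47) (.leaf 90))) (.node (.node (.leaf 2) (.leaf 60)) (.node (.leaf 67) (.leaf 10)))) (.node (.node (.node (.leaf 0) (.leaf 74)) (.node (.leaf 39) (.leaf 80))) (.node (.node (.leaf 0) (.leaf 72)) (.node (.leaf 15) (.leaf 31))))) (.node (.node (.node (.node (.node (.leaf 0) (.leaf 11)) (.leaf 106)) (.node (.leaf 0) (.leaf 86))) (.node (.node (.leaf 27) (.leaf 29)) (.node (.leaf 0) (.leaf 19)))) (.node (.node (.node (.leaf 50) (.leaf 63)) (.node (.leaf 0) (.leaf 69))) (.node (.node (.leaf 38) (.leaf 33)) (.node (.leaf 40) (.leaf 26)))))) (.node (.node (.node (.node (.node (.node (.leaf 0) (.leaf 89)) (.leaf 0)) (.node (.leaf 21) (.leaf 18))) (.node (.node (.leaf 0) (.leaf 9)) (.node (.leaf 55) (.leaf 77)))) (.node (.node (.node (.leaf 0) (.leaf 66)) (.node (.leaf 51) (.leaf 100))) (.node (.node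 (.leaf 20) (.leaf 32)) (.node (.leaf 49) (.leaf 105))))) (.node (.node (.node (.node (.node (.leaf 0) (.leaf 91)) (.leaf 109)) (.node (.leaf 3) (.leaf 75))) (.node (.node (.leaf 45) (.leaf 17)) (.node (.leaf 0) (.leaf 78)))) (.node (.node (.node (.leaf 0) (.leaf 43)) (.node (.leaf 65) (.leaf 87))) (.node (.node (.leaf 68) (.leaf 62)) (.node (.leaf 44) (.leaf 99))))))) (.node (.node (.node (.node (.node (.node (.node (.leaf 0) (.leaf 98)) (.leaf 59)) (.node (.leaf 0) (.leaf 48))) (.node (.node (.leaf 7) (.leaf 97)) (.node (.leaf 57) (.leaf 94)))) (.node (.node (.node (.leaf 1) (.leaf 71)) (.node (.leaf 14) (.leaf 4))) (.node (.node (.leaf 36) (.leaf 52)) (.node (.leaf 73) (.leaf 25))))) (.node (.node (.node (.node (.node (.leaf 35) (.leaf 103)) (.leaf 83)) (.node (.leaf 8) (.leaf 64))) (.node (.node (.leaf 13) (.leaf 58)) (.node (.leaf 0) (.leaf 30)))) (.node (.node (.node (.leaf 0) (.leaf 54)) (.node (.leaf 0) (.leaf 81))) (.node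 (.node (.leaf 12) (.leaf 28)) (.node (.leaf 22) (.leaf 108)))))) (.node (.node (.node (.node (.node (.node (.leaf 0) (.leaf 101)) (.leaf 0)) (.node (.leaf 0) (.leaf 96))) (.node (.node (.leaf 23) (.leaf 102)) (.node (.leaf 5) (.leaf 85)))) (.node (.node (.node (.leaf 0) (.leaf 84)) (.node (.leaf 41) (.leaf 82))) (.node (.node (.leaf 0) (.leaf 92)) (.node (.leaf 53) (.leaf 34))))) (.node (.node (.node (.node (.leaf 0) (.leaf 16)) (.node (.leaf 79) (.leaf 95))) (.node (.node (.leaf 42) (.leaf 46)) (.node (.leaf 56) (.leaf 88)))) (.node (.node (.node (.leaf 0) (.leaf 61)) (.node (.leaf 76) (.leaf 93))) (.node (.node (.leaf 6) (.leaf 70)) (.node (.leaf 37) (.leaf 107)))))))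

/-- data -/
def tree4 : Trie (ℕ × ℕ) := .node (.node (.node (.node (.node (.leaf (0, 0)) (.leaf (5, 2))) (.node (.leaf (1, 3)) (.leaf (10, 4)))) (.node (.node (.leaf (0, 3)) (.leaf (8, 4))) (.leaf (2, 4)))) (.node (.node (.node (.leaf (0, 1)) (.leaf (7, 0))) (.node (.leaf (2, 1)) (.leaf (13, 2)))) (.node (.node (.leaf (1, 1)) (.leaf (10, 2))) (.leaf (3, 3))))) (.node (.node (.node (.node (.leaf (0, 0)) (.leaf (6, 3))) (.node (.leaf (2, 0)) (.leaf (13, 1)))) (.node (.node (.leaf (0, 4)) (.leaf (9, 0))) (.leaf (3, 0)))) (.node (.node (.node (.leaf (0, 2)) (.leaf (7, 1))) (.leaf (2, 3))) (.node (.node (.leaf (1, 2)) (.leaf (10, 3))) (.leaf (4, 4)))))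

/-- data -/
def cert4 : Trie (ℕ × ℕ × ℕ) := .node (.node (.node (.node (.node (.node (.node (.leaf (0, 0, 1)) (.leaf (8, 9, 0))) (.node (.leaf (5, 18, 0)) (.leaf (8, 11, 2)))) (.node (.node (.leaf (7, 6, 2)) (.leaf (12, 6, 4))) (.leaf (7, 4, 1)))) (.node (.node (.node (.leaf (5, 5, 1)) (.leaf (10, 11, 0))) (.node (.leaf (9, 8, 3)) (.leaf (10, 14, 4)))) (.node (.node (.leaf (8, 10, 2)) (.leaf (3, 22, 1))) (.leaf (12, 12, 4))))) (.node (.node (.node (.node (.leaf (4, 0, 2)) (.leaf (9, 9, 1))) (.node (.leaf (7, 12, 3)) (.leaf (8, 23, 2)))) (.node (.node (.leaf (8, 1, 1)) (.leaf (12, 16, 3))) (.leaf (11, 8, 2)))) (.node (.node (.node (.leaf (7, 0, 2)) (.leaf (11, 19, 2))) (.node (.leaf (11, 16, 3)) (.leaf (12, 14, 0)))) (.node (.node (.leaf (11, 1, 4)) (.leaf (7, 17, 2))) (.leaf (6, 4, 1)))))) (.node (.node (.node (.node (.node (.leaf (2, 0, 2)) (.leaf (9, 2, 1))) (.node (.leaf (12, 1, 0)) (.leaf (8, 19, 2)))) (.node (.node (.leaf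 (7, 10, 2)) (.leaf (12, 13, 6))) (.leaf (10, 12, 4)))) (.node (.node (.node (.leaf (5, 13, 1)) (.leaf (10, 20, 0))) (.node (.leaf (10, 1, 3)) (.leaf (10, 25, 0)))) (.node (.node (.leaf (9, 0, 2)) (.leaf (6, 22, 2))) (.leaf (3, 3, 1))))) (.node (.node (.node (.node (.leaf (5, 0, 1)) (.leaf (9, 19, 1))) (.node (.leaf (9, 1, 2)) (.leaf (9, 22, 1)))) (.node (.node (.leaf (8, 3, 3)) (.leaf (12, 22, 0))) (.leaf (12, 5, 3)))) (.node (.node (.node (.leaf (7, 2, 2)) (.leaf (12, 0, 2))) (.leaf (5, 4, 1))) (.node (.node (.leaf (12, 24, 0)) (.leaf (7, 19, 1))) (.leaf (8, 4, 2))))))) (.node (.node (.node (.node (.node (.node (.leaf (1, 0, 1)) (.leaf (8, 17, 1))) (.node (.leaf (10, 18, 3)) (.leaf (8, 13, 1)))) (.node (.node (.leaf (7, 7, 1)) (.leaf (12, 9, 1))) (.leaf (10, 2, 0)))) (.node (.node (.node (.leaf (5, 10, 1)) (.leaf (10, 16, 4))) (.node (.leaf (9, 12, 1)) (.leaf (10, 24, 1)))) (.node (.node (.leaf (8, 12, 1)) (.leaf (4, 7, 1)))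 (.leaf (12, 17, 0))))) (.node (.node (.node (.node (.leaf (4, 1, 1)) (.leaf (9, 11, 2))) (.node (.leaf (7, 24, 1)) (.leaf (9, 16, 3)))) (.node (.node (.leaf (8, 2, 2)) (.leaf (12, 20, 0))) (.leaf (12, 4, 5)))) (.node (.node (.node (.leaf (7, 1, 2)) (.leaf (11, 20, 5))) (.leaf (11, 17, 0))) (.node (.node (.leaf (11, 23, 0)) (.leaf (7, 18, 1))) (.leaf (6, 11, 2)))))) (.node (.node (.node (.node (.node (.leaf (3, 2, 2)) (.leaf (9, 6, 0))) (.node (.leaf (3, 0, 2)) (.leaf (8, 20, 2)))) (.node (.node (.leaf (8, 0, 2)) (.leaf (12, 15, 0))) (.leaf (11, 4, 2)))) (.node (.node (.node (.leaf (6, 0, 1)) (.leaf (11, 7, 3))) (.node (.leaf (11, 12, 0)) (.leaf (12, 10, 3)))) (.node (.node (.leaf (9, 7, 1)) (.leaf (7, 8, 2))) (.leaf (3, 10, 2))))) (.node (.node (.node (.node (.leaf (5, 1, 1)) (.leaf (10, 10, 1))) (.node (.leaf (9, 5, 2)) (.leaf (10, 8, 3)))) (.node (.node (.leaf (8, 5, 1)) (.leaf (12, 23, 6))) (.leaf (12, 11, 0)))) (.node (.node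 (.node (.leaf (7, 3, 2)) (.leaf (12, 2, 2))) (.leaf (5, 17, 1))) (.node (.node (.leaf (3, 7, 1)) (.leaf (8, 7, 1))) (.leaf (8, 8, 2)))))))

/-- data -/
def pot4 : Trie (Vec) := .node (.node (.node (.node (.node (.leaf ([])) (.leaf ([(-10), 22]))) (.node (.leaf ([(-4), 4])) (.leaf ([(-6), 6])))) (.node (.node (.leaf ([(-2), 2])) (.leaf ([(-6), 6]))) (.leaf ([(-4), 4])))) (.node (.node (.node (.leaf ([(-2), 2])) (.leaf ([(-12), 24]))) (.node (.leaf ([(-4), 4])) (.leaf ([(-18), 42])))) (.node (.node (.leaf ([(-4), 4])) (.leaf ([(-12), 24]))) (.leaf ([(-10), 22]))))) (.node (.node (.node (.node (.leaf ([(-2), 2])) (.leaf ([(-6), 6]))) (.node (.leaf ([(-4), 4])) (.leaf ([(-12), 24])))) (.node (.node (.leaf ([(-2), 2])) (.leaf ([(-6), 6]))) (.leaf ([(-10), 22])))) (.node (.node (.node (.leaf ([(-8), 20])) (.leaf ([(-12), 24]))) (.leaf ([(-4), 4]))) (.node (.node (.leaf ([(-10), 22])) (.leaf ([(-6), 6]))) (.leaf ([(-4), 4])))))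

/-- the table -/
def table4 : Table where
  size := 27
  ngen := 5
  next g x := next4.getK (5 * g + x)
  prev g x := prev4.getK (5 * g + x)
  lab g x := lab4.getK (5 * g + x)
  val g x := val4.getK (5 * g + x)
  rank g x := rank4.getK (5 * g + x)
  tree g := tree4.getK g
  cert j := cert4.getK j
  nded := 109
  rels := [⟨[(0, true), (4, true)], [(0, true)], []⟩,
    ⟨[(2, true), (1, true), (0, false)], [(1, true)], []⟩,
    ⟨[(0, true), (2, true), (3, true)], [(2, true)], []⟩,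
    ⟨[(0, true), (0, true), (0, true)], [], [0, 0, 0, 0, 0, 0, 1]⟩,
    ⟨[(1, true), (1, true), (1, true)], [], [0, 0, 0, 0, 0, 0, 0, 1]⟩,
    ⟨[(2, true), (2, true)], [], [0, 0, 0, 0, 0, 0, 0, 0, 1]⟩,
    ⟨[(4, true), (4, true), (4, true)], [], [0, 0, 0, 0, 0, 0, 0, 0, 0, 1]⟩,
    ⟨[(1, true), (3, true), (1, false), (3, false)], [], [0, 0, 0, 0, 0, 0, 0, 0, 0, 0, 1]⟩,
    ⟨[(1, true), (4, true), (1, false), (4, false)], [], [0, 0, 0, 0, 0, 0, 0, 0, 0, 0, 0, 1]⟩,
    ⟨[(0, true), (3, true), (0, false), (3, false)], [], [0, 0, 0, 0, 0, 0, 0, 0, 0, 0, 0, 0, 1]⟩,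
    ⟨[(2, true), (3, false), (4, true), (3, true), (2, true), (4, true)], [], [0, 0, 0, 0, 0, 0, 0, 0, 0, 0, 0, 0, 0, 1]⟩,
    ⟨[(2, true), (3, true), (4, true), (2, false), (4, true), (3, true)], [], [0, 0, 0, 0, 0, 0, 0, 0, 0, 0, 0, 0, 0, 0, 1]⟩,
    ⟨[(0, true), (2, true), (4, true), (0, true), (4, true), (2, false), (4, false)], [], [0, 0, 0, 0, 0, 0, 0, 0, 0, 0, 0, 0, 0, 0, 0, 1]⟩]
  pot g := pot4.getK g
  innerSize := 18
  innerGen := 3

/-- the table with its checks -/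
def level4 : CfsgLib.Sporadic.ChainLevel where
  table := table4
  gexp := [[(-2), 2], [(-2), 2], [(-8), 20], [(-2), 2], [(-2), 2]]
  perm := [0x8960f87221835d88921771202759e975de380d5d811cf721fc7a9e787e1988a207ba01819a3685bc6f5bf87a2376a087b1a76e9b78461d74dc782db46b1b884e187f9b5665f7739cc7e5fb6c99c6c54d7c1e17c958729de72d4f775f57b60a81e0c839b6559537add2815e86f9db751ff6a9e4549f35715e545fa55dc257d5585614746097559e6a59a84a1b795ab6ce1a841c56619f789dc7d9df551c07c5c1725a4801c6765a0565fd70dd0799f45395b65d7863d7b64d664d92e635836556b5c5915e5624897e6117d5193f4e588521196151d5e9945092d4954a4d592505455253b5d9726418c5b1814857f5d5744513c50d804813d699a2569f86be166b9ad675bb6a1b9735a56c150781ef66d4c52d6f62d684998e5b9374e98947d184ad404a1314cd635a9654798a59d615c187591174c16d659236092c5dd605a5244a5474a93249d345cd44469134717c6193e4bd164553846d0a3b51043cf639c9f2a5094490b384b23c4fe3ccfb378fc404bc314ae3e4a34088f2e0f5438c1278b5310be26d07300bb308f23d0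fd394fa43506270eb3b8b725cff2f49a2d8da3648a0d84535475200581b07d1a8881e07703c760b4cb20c7f3a105294e23a5112c4b029904290b9264952ccaf3a8dc380e424cf036d003e0e3244ab420a0430dd274ec398df2a0a129d0330cac250b42e890288983dcef2fc922a8962b48e328d70c43f154620a0cc2144c17c252045c19034194d11182f124432188d1801502c721e8400281322c7c21c500705404410340c618cce0acd431cc90c8d31047b09851128670f42014c3a348cf1bc170641e06c380c0483585a11c5b334331103536074224730a82c164570b88c1c027034121b4791c41a17852020141b86b1f8390744b00807198681a4842081f0903701403030060f83b0a45d15821320221084e0f04f08c6103801134180100905800, 0x895ea8560276a2482de47961f7e9c174218765ca7ede07215c829f1885e283204872067ddc47f61173e0d6adbc6fd5467da75459a88de9869fc761dc85df4565aa6c5b669201716137522086de8719c0699ba6ed9c7b5de77e14661b05760f7d60975deb7c9d66d55253d586fa0357dff78dac539ec71d5e7855352de67e5c27ba057462272e1e7c2126ddb968d9e66e00841f670df36b616739d57354c68a1d7bda574dfe76d5b7315a7760e555f8749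9d65d485c54364d815d9745a9224b5325fd85649805f52f5b1835ed876251b479606093d6114a655424ed2b465494f13e5e533639755118a5e96849d8f469965c17351924619406a5e7685b855db46ba19681566cdb28219981dc96f5506a14d6bd6b6416644d36481394fd374857e6511d4d1644958c5b5145e16348d7c5953a5a5675858d4b917645454e1354c5625dd264a16f47d2a5058b5c947621305b92c4611645529471093f11043d0d3e4b73d49d378b3268e43ed062d8fd3fcae30cf43c0ed38094438f7260c42f8bc3acc02a502308ad444b826500304f14209129d043b8e63b1053bd122fc952e8763607d354681701e2301d1cc7233c85030771c4ce1b4840f87c3949f404df2c8b523d0b258fe2f4ab26ce12c0973c8ac39ce93710c3e8ea38c9036ca13a0a3315074289c278aa288b93d8a829493280a63ccf840cbb2c4af29092388b43748e220530b4d005c4832c593284a09c522003602083364581405703c780c8620bc150948a21c821b06e04c3501c5a00c540803718c2c0fcda3484431c5e0e4d71e442098c608867334d634c7013c330e84e07030058c81d48d0444611c382246a1ac7f1945f0f40a0145104860090811bc741eccc0c40e1244d0a40b0f00222cd41f886344661a47a06056050281842e07c090841910c040d01b3245d1142a16c4c034551902b018401041a0044b08c100ec00,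 0x8960b88e1f8260a8895a7e6016d6006b5f86c2167ddbd7c5bb6f1ff7ee0e6fe0289220885e56b1ee781ea80e0c8721a841ec6addf83dfa87618855ed791aa6c5b784da6776067d9fe6e60457d58565e6821f56e1e26ea057f1de7bdb4765da76dd87415371dc174d9d745d753dca68da2571ce6615e7559f57554541557514c835be85211849e17ade37c9b286ddc6a1b67ce17695a7866077f5f46a5b36b9f06bd57735cc6794e719a17499c66d5652dc965d956596c64d496097f62d8a5a93663d8e5a13360d6e6154a61d914dd38641304e92f5192b5e51e491634f92d5cd2c511265bd865b5944c98d5918959d3951d695d9294612a7a5c8715cb54a1e79de86919a709c47595b545c373da0535c066584649485957b4697150d2e4f140489754754146d7d599806058c4d1356216b4c57e5f1425d1725e9605891947d704717745d3f4852049d784f5254ed454a16148d1645513451114491043d02310fd380ea400e82b4fe415043990e2b9092d506430c3314ab2ccb138ca929cf42e89d3c0f1264a4294bf2a10a391082c103394e93dce22d10b2a8c0374932848c194d821456188d43284f1846322c810f43e01cd3168601743c3ed0d3f0af2f0de3b0be270c1260f3244b827cb63fce13e4b23e0e73090141cac3e8df3d8eb3d4953b4ee2509e36ca02dca23c8bd25c963bcbb26c9a298a3370922e48f2408e170da33c8a224532105f35c8716458338760d4771c87c0c4280780c1f880038321bc7d1240a1cc331083a110130501119c1836451340d5344c82185031c8d15cc920c8216cd613854220521905e348551344a12c4c1c43611c290806b10c6d0c01d0fccc334c60846c09c2f07c481fc121b8741ec410e010034080ac161187a0e41502c09064220ec450dc79100040140108c6605c2a098691a8341a02e03c750b478094700902c32c0306c1c0180206800,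 0x8962285601769bc835ba86e047c154755b7679ce7edf173d9c871ae885bb82a068321f7ddd485a0b68a117f5bf891cd74613729d088db680219761b06d1ad851fc7ce1d7be207660568e026e61867d9b7ea1e849cb85db17d210681f66860f56a09559b57e1d3821d2579f27fa077e5bd6e203725be75dcc7d5d6675b36c9557a9a7719ee571e4699e27a1e5711c5531a9565dc661de77dab5459a705c0721e9695a454dec5754b53de155de3535586655b65d894b57664d6a58d446597b5e1876413a63d69615676316b5e98a5a1275d1755b1615296f63579499464a1394a52a4b98860d2347932489485c1664f58146d144fd214c119869ff76e0e6bded781aa70dc76a15f7ad526b15079d4e799c27758e5b5925cd944b18b4ad955dd6e6454561938589825fd135c5435812f6017d5957c469375093e4d91851d7e4cd414911f501844ed1749549481644c5344d572475164551c4f0e94251043d082ccf03c4f43050537100438ea284e541901390f229cde434ef39ce33b90b2a4c02a0a53d8c5388b4448a628cc33b49f380942dcae240fa268f9244b224cb825c4818c3f35c3e3547934c3a3187d178621ec450e07605c4a0980b430f5410e64450a290e82fcb5375033cd07408a2274f73ecfc3b0fd37cff2b0982d8db310b92c0b13f8bd26cab2e8992f8a02f0963ac95278ad2a88f384c22ec922bcf82708e3288c334d8108ce110d6368c80e4d2204800f05d1946422cd41e84611c8d124cc1f0d9180611003d10c7f104c90dc5f1f83b340731c88813c301644e19c5c0886d1a02c078270ccc714c1d1482d1c0cf070cb058840bc85054311d00e1681301c2b228860346c08c820804c01436020320a4111e0711d44d030251bc021545b048541600119828050830680f1442e0181907c1b1a8041dc09224560d02a15c871b850344350840a1ac181a44b0901000c00,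 0x8961f806117aa1c83de1711da699b57c9c7729a16fd4f84d9c7dda7891e37ee23885d86f21b77209852157920a831b67fdc66c1d07ba1d74e198899e859ad7cdf8689cd6a20d80dec7e60b795df7c59854ded571bb739bd6ddd17495a85e206b202861c166a1a7adc26f9aa7821e6c9cc849db66dc875db16adfa539dd68d9d811de73e066e1c56a5e27a15f751fd52df07f9b4725ae5595d6e9fc5515757a085354c759e77d5a467d51665cb6bd587015265d665e58564d7f5d96a50994625326356f62d7058d18639835ed36479334b53e519676117d5c5745912b58168589196551f4fd7e4e52261d3744d784a148485265ad3b45d1d802107660e69607565d57bdf470db97a5e67d9b38155556da05418263d964a57a6196d5b149601726296e469245cd8c511696414a4f5305053a51d234b18164920645614c57c471774f1254d14346d2f6212e5d51459535501454a916455274e0ed3f91043cfb380e53c0c0444b03dc9d3d90a388f1400e92b9092a4f43109441493290f9408de3ace43d4e836c952f0e1264b24050b2dc9b2cca5370b92e09f2acfc23c9628cd5214ca340201c82f0fc3c1b0620c436140cc0788005c4c054254210e3a8ba3fd04374fd2b5123b89e40cec29ce641890430c32f4c53e8c12c4b42a0a12f8df39cf83c9073bcaa28897434c22d49a2d8983cc9c244e32ecaf29892280ac2fc8e34c65334761688c35086204300f84f364d8074c7338d10a46b320cf1dc5c1c4270d4da0a0513183d10c7c1806d07c5611c2122082120d70ac7a1d04e1748a128131647301c451ec6718c3a02c8b1900d08c790140e32c531506e1a0571a8c90e0d223434118400682c0e4220607d160830b4321e00f21c0303052020371547517c261bc1906c41040110704902869134040082a108011f82e22412358662105b178331c07f12c61110160243b0502401800]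
  pinv := [0x8961f80a0d88a0c83e037ea236d9b2839f28795a6fdbe7cdb77edb1891d7885d87ddda6f200766097461585e1c829a3731f167a127a9c47ad5c7b9ab7719a721e369de553a0b76dff74e11869d08419b6d5ca861ad7914f6a9e0775ac73a01686208661b6edcd7e5d26f59c851ed54dec77de1696137e1a26c21d675c2699a8811cf81606559fd551f47f1d67c1f66cde979d5156d59561f56d1cb6e5557f95f549a48215e81da06b9ba55de8535b87bdaf65d2d6357a64d746296d6554663d6c52536509804c9195f5856392b5a9625a1866111a6517b625964a56f59d6647d6e62d33529454b96b6313949d484d5924e1314e9884d128705c6859c76615d67de270dd5701a9751c971550779997994c52d765c57f491835c91e58d795cd3e60918581645c14360514511915d5204ed224f12f45d905e12a4fd234953d485475dd264b1875a561505375f11b44d1d5f9404c11645565471093011043cf5394a742112428a93b8e4310bc278f93fcae379043a100408e63ecad2550e3d8e940cea414b0250e1444a4388b5304c5434a339cb22b0c241cb328901298b42bcda3643f2304735460170511f0651406210c863208d1780f17c643f4f1274eb3d0ed24cf0374fe3b0992e8f7380db3c89a2dd062fcbe2d8fc23c9c2a89142ca127cbd30cbb3e897280a8430f3294e33bcdc2e49637c902e09b2c4922ac983e08e1d8361b4d80f4ce1ac772141e31c1d204d3318273406c168710c0cd330ca3503e0f0720bc3513c290c4d10a0cf07c20158211f47f18c880207520c2d04880110460e4d20e0112246814c2c1606a0280c01484090571e4481147b358411e00d16c70228151540b050520984a068d71007e1085d22c491e8373243a1843b04c870d0592081b0240e040540704c0946912c2e13404138011d02a1b83219c6632c070cc171cc6f0082b08816064030602301800,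 0x896207edbc83dea871ba69a0b7a5f9562187d5ac88dde7b1b8819b17699c8120d87e11761535460a6fa0c73a227b9b2731a281df88561b7059a825b0765f46b9d5841b9695bf785c875a247e9e8579c28761e72e0e7161477de0675f66862185df775dd46a9eb68d996f619815ab6a59f6ee165421371de77b6086bdc0869e6805cf53e0278de46d95c6ddf074d5a555547c5dc52d596b5ca80df257d4d7f9e5691ef6d5a7575577fdb4661e26cdfc549dd65d665e53f64d894ad495a16f4b93a4796c6051b609616297b6117d6498862d4061d3460d6b5c537495915b9905911d65565489194e5855298f4c56a4c1484cd3c4d9264bd7e735c676e126819e7cdd056d5666e00711d27f54e745c9531a870d7a5d196471634a96d6517847d6050d725f1735dd3251129509464a13d5c18c49d1a6192d635185d920451235a5244ed624d58e505454857f4f913601675d5174b1164553851cde3b51043cf9438b02f8a5448e729904380e425cf030cea404bc40911414af434983e09f42cfe264b53a0fd37ce33f0e13ccae2c8a92cce2315062b4912e0fb3090923cb12ac621f4d91705435c2814c610948a33cca1543221c8504c4a17c5829cf63fcef3a4f2374f52ecf4258db280ec4310330090420c1254b7251003b8b42e8a23c49e3949a274932a0a12a89b310a3428a42e5073acf72d8bd370fa27092398ac2fc8e120d30a47210c8d1c426338c81f8700d88110027360c60cc2216c78330da12434344d032c520d46e3246f1044208cd6158240fc0b19476074380f85e048d503c6a2187c1e82003068230820e87b1444e0b80e010840bc88114460446005c5a01c0818cc70f42b0044f17444198801b015140770c44c1d41c22c64028100b41e20c591cc3700c570646706cd43484d05006060212244b1d01f1b43911c021e430034cd0b03c0687f1ac090ec161a42a01400,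 0x8960b88e1f8260a8895a7e6016d6006b5f86c2167ddbd7c5bb6f1ff7ee0e6fe0289220885e56b1ee781ea80e0c8721a841ec6addf83dfa87618855ed791aa6c5b784da6776067d9fe6e60457d58565e6821f56e1e26ea057f1de7bdb4765da76dd87415371dc174d9d745d753dca68da2571ce6615e7559f57554541557514c835be85211849e17ade37c9b286ddc6a1b67ce17695a7866077f5f46a5b36b9f06bd57735cc6794e719a17499c66d5652dc965d956596c64d496097f62d8a5a93663d8e5a13360d6e6154a61d914dd38641304e92f5192b5e51e491634f92d5cd2c511265bd865b5944c98d5918959d3951d695d9294612a7a5c8715cb54a1e79de86919a709c47595b545c373da0535c066584649485957b4697150d2e4f140489754754146d7d599806058c4d1356216b4c57e5f1425d1725e9605891947d704717745d3f4852049d784f5254ed454a16148d1645513451114491043d02310fd380ea400e82b4fe415043990e2b9092d506430c3314ab2ccb138ca929cf42e89d3c0f1264a4294bf2a10a391082c103394e93dce22d10b2a8c0374932848c194d821456188d43284f1846322c810f43e01cd3168601743c3ed0d3f0af2f0de3b0be270c1260f3244b827cb63fce13e4b23e0e73090141cac3e8df3d8eb3d4953b4ee2509e36ca02dca23c8bd25c963bcbb26c9a298a3370922e48f2408e170da33c8a224532105f35c8716458338760d4771c87c0c4280780c1f880038321bc7d1240a1cc331083a110130501119c1836451340d5344c82185031c8d15cc920c8216cd613854220521905e348551344a12c4c1c43611c290806b10c6d0c01d0fccc334c60846c09c2f07c481fc121b8741ec410e010034080ac161187a0e41502c09064220ec450dc79100040140108c6605c2a098691a8341a02e03c750b478094700902c32c0306c1c0180206800,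 0x896017ee2483dee829e47c2118755f7e1e87860788df37f9e3811de7695c87e0b81a0d761d373a0c7b21c729ea889f9579cf80df2855e5735d5825dc715df7c5d08521b7bdbc569a254dbf699b753d4d6d9ba671b8679596b5ae52db0576217b5f771dc486608751d27fdfc84e16801c6789fd725a7559bd6d1b555d4c6a5a8809c87322083a1e7a5cb861fa759f5709c1781f656e107d1516b1586c9556f9b9695a47ae0576ddd79e1770e12799aa665af65d8f5094664d484fd8b6254a5e58551182659706313d61d225bd3a599334e5284c930639835e18d505945f97f51d184dd695e9405257d6119262181619684c51c6453b5f135551d1685bb661d96c59a675d77021a68d526ad5067d4e66db36817b4796a4a5764f9904d92d4992358d2c59d134858a5d13c4b92b4651a49d6c46d614d1716554550d725cd756017747d255b96b5891d4916d45d145952f5812a48116455644e0ed3051043d053ecc53d8c04450e2e101420c32e8b7401062b8a52c0b22cce2380902d0f13110a2e4fe42d0c3e8f73a4b126d04448be3e4c2408ff3e0ef254e72bcfc2ed072a8851c88a35c863547a34c8202c651388822c741308d1a884150d13c0a93a894424f42f49f2909d24ca12a0dc394ab2f0ee434de298a7244e4260ad288973d4f33f4ec3c8bf3acb640c9e3a0992d48f28ce1280ac36c9c268e63749237ce32588e1d88c1ec3f04c620383e1204a0803a204801b067340733347935031054ca0bc45190630c04f0ac0d1683c01c1701459174231f47c364ce1c0711a0cf1f85c0a04317c2503c120a42614c510740c1845e0b838010c81d4da1dc78330871b4891ac6f360d61b87f198d220ccb1a4360281115434118601241c14058100100cc22158c70b0030ec5b02439064571484d0601f068063244b11c21108270c802078440f42d31808050351041b0dc160042a09000,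 0x8960f831f782dda891ce7ea20821d47e1d776df58120584dcb8895e87d5c7ba017aa02819a6569bc53dbf7b5d888d5f7fdb16d1aa835c47adf284551685567ce1979db255dfb791ec74e2154db7689527a603839b8879cf7a1be70a0772a1c5760a71da3561b57e5dd779fc6f5e17c1cc672176bdc8861fe6ea1d555d275999855d178209789ab551bb77e00869b0541cd719fd66dae7d1d9715d06e5ef8421b56da0705f18594c67df670212725d5675e665d485c58e64d2d4ad375258562d3a6253f6351f5ad456517b6114a4b9416496e5e92860d466556849991475784ed405e5886293e5114358d904e1745f19646d7761d734a9756d9a76b1e3535dc5659a6a1ad539a9795986794b851c3695a46cd36509664c57d461394898f4cd195bd7e4d525589325b5135a982469236018c4a5344811e5fd2f5d91751d67451644913c4c16c5952c5c181581274853d5c986585164551c5a4bc4251043cc427cb33a1043f8c5290b53e4c02e4f53a501305112f8de438af3d8a641d053c4fc264a54090b28cbb448b83ccc3400f029cb6430f2259033b10d2a0f42fce33bc72204801881136887234401f0d71e07d22ccc124d8108791f86f2c0fb2c89e2b90a23ca92c4ed254c2388e139c9b274ac394ea2b508250ff2f49037ca23f4ab2dc93390f736ca12a891380ba418983989c3ac9a280dc3b8fa3e09225cb43748e0fc881405c04c650bc863640f0d064214ca028150d86c15460130311dc8a0a05f160d51d40b094461a8d11e84307045150102304f14cd00206b09c0d174760388916435110680a4471202c1c0cd2085e06cc80245b0786319c3d158071b4170883c34c831b8d2010520e4410a8ce1cc3e0303233c84350140cc3a184181ec711d0263180213438198d61a4cb1fc1f08c3b090373240631c0316812080210c04a1382d1441d0142b15c0112c1a0b81905800]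
  defs := [[(0, true), (4, true)], [(2, true), (1, true), (0, false)], [(0, true), (2, true), (3, true)]]
  eqs := [(3, 4, [0, 0, 0, 0, 0, 0, 0, 0, 0, 0, 0, 0, (-3)]), (4, 4, [0, 0, 0, 0, 0, 0, 0, 0, 0, 0, (-3)]), (4, 5, [0, 0, 0, 0, 0, 0, 0, 0, 0, 0, 0, (-3)]), (6, 23, [2, 3, 0, (-3), (-3)]), (9, 24, [0, (-1), 1, (-1), 1, 0, (-2), 0, 0, 1, 0, 3, 0, (-1), (-1), 3]), (9, 18, [0, 1, (-1), 1, (-1), 0, 2, 0, 0, (-1), 0, (-3), (-3), 1, 1, (-3)]), (5, 11, [0, 0, 3, 0, 3, (-2), 0, 0, (-3), (-2), 0, (-3), 0, 3]), (7, 22, [0, 6, 3, 0, (-3), (-2), 0, 0, 0, 0, (-3), 0, 6]), (10, 17, [0, (-2), (-4), (-2), (-4), 4, (-2), 0, 0, 3, 0, 0, 0, (-2), (-2), 3]), (9, 25, [0, 2, 1, (-4), (-5), 0, 0, 2, 0, 2, 3, 9, 3, 2, (-1)]), (10, 0, [0, (-5), (-7), 1, (-1), 4, 2, 0, 3, 1, 0, (-3), (-3), (-2), 1, (-3)])]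
  pts := [1]

end CfsgLib.Sporadic.MultTwoMcl
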